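import Groth.Agent.LocImm.Factor
import Groth.Agent.QCohMod.QCAlgSubAlg
import Groth.Agent.Ega2Proj2.RelProjBasic
import Groth.Agent.Ega2Proj2.RelSpecGamma
import Groth.Agent.Ega2Proj2.RelSpecMap

/-!
Zariski's main theorem: quasi-finite separated morphisms to a qcqs scheme are open in finite schemes.
-/

universe u

open AlgebraicGeometry CategoryTheory Limits TopologicalSpace Opposite

namespace Groth.LocImmersion

open Groth.QCohMod Groth.Ega2P2

variable {S N : Scheme.{u}}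

/-- The charts of an affine morphism. -/
noncomputable def affineCharts (π : N ⟶ S) [IsAffineHom π] : Charts π where
  X U _ := Spec Γ(N, π ⁻¹ᵁ U)
  e U hU := (hU.preimage π).fromSpec
  isOpenImmersion U hU := inferInstance
  opensRange U hU := (hU.preimage π).opensRange_fromSpec
  t U _ r := Spec.map (N.presheaf.map (homOfLE (π.preimage_mono (S.basicOpen_le r))).op)
  fac U hU r := (hU.preimage π).map_fromSpec ((hU.basicOpen r).preimage π) _

theorem isFinite_spec (A : RelSpec.QCAlg S)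
    (h : ∀ U : S.Opens, IsAffineOpen U → (A.str.app (op U)).hom.Finite) : IsFinite A.π := by
  refine ⟨fun U hU => ?_⟩
  have := isIso_gammaAff A U hU
  have e : A.π.app U = A.str.app (op U) ≫ inv (A.gammaAff U hU) := by
    rw [← A.π_app_gammaAff U hU, Category.assoc, IsIso.hom_inv_id, Category.comp_id]
  rw [e, CommRingCat.hom_comp]
  exact RingHom.Finite.comp
    (RingHom.Finite.of_surjective _ (ConcreteCategory.bijective_of_isIso _).2) (h U hU)

theorem exists_finite_subalgebra [CompactSpace S] [QuasiSeparatedSpace S] (π : N ⟶ S) [IsIntegralHom π] {ι : Type*} [Finite ι]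
    (U : ι → S.Opens) (hU : ∀ i, IsAffineOpen (U i)) (T : ∀ i, Set Γ(N, π ⁻¹ᵁ U i))
    (hT : ∀ i, (T i).Finite) :
    ∃ (A : RelSpec.QCAlg S) (φ : A ⟶ RelSpec.QCAlg.directImage π),
      (∀ W, Function.Injective (φ.hom.app W).hom) ∧
      (∀ W : S.Opens, IsAffineOpen W → (A.str.app (op W)).hom.Finite) ∧
      ∀ i, T i ⊆ Set.range (φ.hom.app (op (U i))).hom := by
  classical
  set B := RelSpec.QCAlg.directImage π
  have := isQCoh_toModule B
  obtain ⟨t, ht⟩ := isCompact_univ.elim_finite_subcover (fun V : S.affineOpens => (V.1 : Set S))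
    (fun V => V.1.2) (by
      intro x _
      obtain ⟨_, ⟨V, hV, rfl⟩, hx, -⟩ :=
        S.isBasis_affineOpens.exists_subset_of_mem_open (Set.mem_univ x) isOpen_univ
      exact Set.mem_iUnion.2 ⟨⟨V, hV⟩, hx⟩)
  let e := t.equivFin
  let V : Fin t.card → S.Opens := fun l => (e.symm l).1.1
  have hV : ∀ l, IsAffineOpen (V l) := fun l => (e.symm l).1.2
  have hcov : ⨆ l, V l = ⊤ := eq_top_iff.2 fun x _ => by
    obtain ⟨W, hW, hxW⟩ := Set.mem_iUnion₂.1 (ht (Set.mem_univ x))
    exact TopologicalSpace.Opens.mem_iSup.2 ⟨e ⟨W, hW⟩, by simpa [V] using hxW⟩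
  have hVV : ∀ (W : S.Opens), IsCompact (W : Set S) → ∀ l, IsCompact ((V l : Set S) ∩ W) :=
    fun W hW l => QuasiSeparatedSpace.inter_isCompact _ _ (V l).2 (hV l).isCompact W.2 hW
  have hW : ∀ l, IsCompact ((V l : Set S) ∩ ⋃ m ∈ Set.Iio l, (V m : Set S)) := fun l => by
    rw [Set.inter_iUnion₂]
    exact (Set.toFinite _).isCompact_biUnion fun m _ => hVV (V m) (hV m).isCompact l
  choose E j hj hE hTE using fun i => exists_finiteType_containing B V hV hcov hW
    (hU i) (hVV _ (hU i).isCompact) (T i) (hT i)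
  obtain ⟨E₀, j₀, hj₀, hE₀, -⟩ := exists_finiteType_containing B V hV hcov hW
    (isAffineOpen_bot S) (hVV _ (isAffineOpen_bot S).isCompact) ∅ Set.finite_empty
  have := Fintype.ofFinite ι
  obtain ⟨G, k, hk, hG, ha⟩ := exists_finiteType_containing_family Finset.univ E j hE E₀ j₀ hE₀
  have := hG.1
  refine ⟨locGenAlg B k, locGenHom B k, fun W a b h => Subtype.ext h, fun W hW => ?_, fun i s hs => ?_⟩
  · refine RingHom.finite_iff_isIntegral_and_finiteType.2
      ⟨fun a => ?_, finiteType_locGen B k hG.2 ⟨W, hW⟩⟩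
    have hint : (π.app W).hom.IsIntegral := IsIntegralHom.isIntegral_app π W hW
    obtain ⟨P, hP, hP'⟩ := hint a.1
    refine ⟨P, hP, Subtype.ext ?_⟩
    show (locGen B k W).subtype (Polynomial.eval₂ _ a P) = 0
    rw [Polynomial.hom_eval₂]
    exact hP'
  · obtain ⟨e', he'⟩ := hTE i s hs
    obtain ⟨a, hal⟩ := ha i (Finset.mem_univ i)
    refine ⟨⟨s, gen_le_locGen B k _ ?_⟩, rfl⟩
    rw [← he', ← hal]
    exact app_mem_gen B k (a.app _ e')

/-- The morphism to the spectrum of a subalgebra. -/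
theorem exists_hom_to_spec (π : N ⟶ S) [IsAffineHom π] (A : RelSpec.QCAlg S)
    (φ : A ⟶ RelSpec.QCAlg.directImage π) :
    ∃ q : N ⟶ A.spec, q ≫ A.π = π ∧ ∀ (U : S.Opens) (hU : IsAffineOpen U),
      (hU.preimage π).fromSpec ≫ q = Spec.map (φ.hom.app (op U)) ≫ A.ι U hU := by
  let C := affineCharts π
  let g : ∀ (U : S.Opens) (hU : IsAffineOpen U), C.X U hU ⟶ A.spec :=
    fun U hU => Spec.map (φ.hom.app (op U)) ≫ A.ι U hU
  have hg : ∀ (U : S.Opens) (hU : IsAffineOpen U) (r : Γ(S, U)),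
      C.t U hU r ≫ g U hU = g (S.basicOpen r) (hU.basicOpen r) := by
    intro U hU r
    show Spec.map _ ≫ Spec.map _ ≫ A.ι U hU = Spec.map _ ≫ A.ι _ _
    have hn := φ.hom.naturality (homOfLE (S.basicOpen_le r)).op
    have h1 : Spec.map (A.presheaf.map (homOfLE (S.basicOpen_le r)).op) ≫ A.ι U hU =
        A.ι (S.basicOpen r) (hU.basicOpen r) := (specCharts A).fac U hU r
    rw [← h1, ← Spec.map_comp_assoc, ← Spec.map_comp_assoc]
    exact congrArg (fun m => Spec.map m ≫ A.ι U hU) hn.symm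
  refine ⟨C.desc g hg, C.hom_ext fun U hU => ?_, fun U hU => C.e_desc g hg U hU⟩
  rw [C.e_desc_assoc g hg U hU]
  show (Spec.map _ ≫ A.ι U hU) ≫ A.π = (hU.preimage π).fromSpec ≫ π
  rw [Category.assoc, A.ι_π U hU, ← Spec.map_comp_assoc]
  refine (congrArg (fun m => Spec.map m ≫ hU.fromSpec) (?_ : _ = π.appLE U (π ⁻¹ᵁ U) le_rfl)).trans
    (IsAffineOpen.SpecMap_appLE_fromSpec π hU (hU.preimage π) le_rfl)
  rw [← Scheme.Hom.app_eq_appLE]
  exact congrArg (fun m => m.app (op U)) φ.comm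

theorem isLocalizing_of_forall_restrict {X Y : Scheme.{u}} (f : X ⟶ Y)
    (h : ∀ x : X, ∃ U : X.Opens, x ∈ U ∧ LocImm.IsLocalizing (U.ι ≫ f)) : LocImm.IsLocalizing f :=
  isLocalizing_of_cover f fun x => by
    obtain ⟨U, hx, hU⟩ := h x
    exact ⟨U, U.ι, inferInstance, ⟨⟨x, hx⟩, rfl⟩, hU⟩

/-- Quasi-finite separated morphisms of finite type to a qcqs scheme. -/
theorem exists_isOpenImmersion_comp_isFinite {X : Scheme.{u}} [CompactSpace S] [QuasiSeparatedSpace S] (f : X ⟶ S)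
    [IsSeparated f] [LocallyOfFiniteType f] [QuasiCompact f] [LocallyQuasiFinite f] :
    ∃ (T : Scheme.{u}) (j : X ⟶ T) (g : T ⟶ S), IsOpenImmersion j ∧ IsFinite g ∧ j ≫ g = f := by
  classical
  let N := f.normalization
  let π : N ⟶ S := f.fromNormalization
  let i : X ⟶ N := f.toNormalization
  have hiπ : i ≫ π = f := f.toNormalization_fromNormalization
  have : CompactSpace X := QuasiCompact.compactSpace_of_compactSpace f
  -- charts of `X` inside the normalization
  have hcharts : ∀ x : X, ∃ (U : S.Opens) (hU : IsAffineOpen U) (b : Γ(N, π ⁻¹ᵁ U)),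
      i x ∈ N.basicOpen b ∧ N.basicOpen b ≤ i.opensRange := by
    intro x
    obtain ⟨_, ⟨U, hU, rfl⟩, hxU, -⟩ :=
      S.isBasis_affineOpens.exists_subset_of_mem_open (Set.mem_univ (π (i x))) isOpen_univ
    obtain ⟨b, hb, hxb⟩ := (hU.preimage π).exists_basicOpen_le (V := i.opensRange) ⟨i x, x, rfl⟩
      (show i x ∈ π ⁻¹ᵁ U from hxU)
    exact ⟨U, hU, b, hxb, hb⟩
  choose U hU b hxb hbr using hcharts
  obtain ⟨s, hs⟩ := isCompact_univ.elim_finite_subcover
    (fun x : X => ((i ⁻¹ᵁ N.basicOpen (b x) : X.Opens) : Set X)) (fun x => (i ⁻¹ᵁ N.basicOpen (b x)).2)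
    fun x _ => Set.mem_iUnion.2 ⟨x, hxb x⟩
  -- generators of the localisations
  have hgen : ∀ x : X, ∃ T : Finset Γ(N, π ⁻¹ᵁ U x), b x ∈ T ∧
      ∀ c : Γ(N, N.basicOpen (b x)), c ∈ Subring.closure (Set.range (π.appLE (U x) (N.basicOpen (b x))
        (N.basicOpen_le (b x))).hom ∪ {c | ∃ m : ℕ, ∃ t ∈ T,
          c * (N.presheaf.map (homOfLE (N.basicOpen_le (b x))).op (b x)) ^ m =
            N.presheaf.map (homOfLE (N.basicOpen_le (b x))).op t}) := by
    intro x
    set D := N.basicOpen (b x)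
    have hD : IsAffineOpen D := ((hU x).preimage π).basicOpen (b x)
    have hr : Set.range hD.fromSpec ⊆ Set.range i := by
      rw [IsAffineOpen.range_fromSpec]; exact hbr x
    let v := IsOpenImmersion.lift i hD.fromSpec hr
    have hv : v ≫ i = hD.fromSpec := IsOpenImmersion.lift_fac _ _ _
    have : IsOpenImmersion (v ≫ i) := hv.symm ▸ inferInstance
    have : IsOpenImmersion v := IsOpenImmersion.of_comp v i
    let φ := π.appLE (U x) D (N.basicOpen_le (b x))
    have he : Spec.map φ ≫ (hU x).fromSpec = v ≫ f := by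
      rw [IsAffineOpen.SpecMap_appLE_fromSpec π (hU x) hD, ← hv, Category.assoc, hiπ]
    have : LocallyOfFiniteType (Spec.map φ ≫ (hU x).fromSpec) := he ▸ inferInstance
    have : LocallyOfFiniteType (Spec.map φ) := locallyOfFiniteType_of_comp _ (hU x).fromSpec
    have hft : φ.hom.FiniteType := (HasRingHomProperty.Spec_iff (P := @LocallyOfFiniteType)).1 this
    letI := φ.hom.toAlgebra
    obtain ⟨G, hG⟩ := (hft : Algebra.FiniteType Γ(S, U x) Γ(N, D)).out
    have := ((hU x).preimage π).isLocalization_basicOpen (b x)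
    choose a ha using fun c : Γ(N, D) => IsLocalization.surj (Submonoid.powers (b x)) c
    refine ⟨insert (b x) (G.image fun c => (a c).1), Finset.mem_insert_self _ _, fun c => ?_⟩
    have hc : c ∈ Algebra.adjoin Γ(S, U x) (G : Set Γ(N, D)) := hG ▸ Algebra.mem_top
    refine Algebra.adjoin_induction (fun g hg => Subring.subset_closure (Or.inr ?_))
      (fun r => Subring.subset_closure (Or.inl ⟨r, rfl⟩)) (fun _ _ _ _ => add_mem)
      (fun _ _ _ _ => mul_mem) hc
    obtain ⟨m, hm⟩ := (a g).2.2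
    refine ⟨m, (a g).1, Finset.mem_insert_of_mem (Finset.mem_image_of_mem _ hg), ?_⟩
    have := ha g
    rw [← hm, map_pow] at this
    exact this
  choose T hbT hT using hgen
  obtain ⟨A, φ, hinj, hfin, hmem⟩ := exists_finite_subalgebra π (fun x : s => U x.1) (fun x => hU x.1)
    (fun x => (T x.1 : Set Γ(N, π ⁻¹ᵁ U x.1))) fun x => (T x.1).finite_toSet
  obtain ⟨q, hq, hqU⟩ := exists_hom_to_spec π A φ
  let r := i ≫ q
  have hrf : r ≫ A.π = f := by rw [Category.assoc, hq, hiπ]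
  have := isFinite_spec A hfin
  refine ⟨A.spec, r, A.π, ?_, this, hrf⟩
  have : LocallyOfFiniteType (r ≫ A.π) := hrf.symm ▸ inferInstance
  have : LocallyOfFiniteType r := locallyOfFiniteType_of_comp r A.π
  -- `D(b)` in the spectrum of the subalgebra
  have hkey : ∀ x : s, ∃ W : A.spec.Opens, r ⁻¹ᵁ W = i ⁻¹ᵁ N.basicOpen (b x.1) ∧
      IsOpenImmersion ((i ⁻¹ᵁ N.basicOpen (b x.1)).ι ≫ r) := by
    intro x
    set D := N.basicOpen (b x.1)
    have hD : IsAffineOpen D := ((hU x).preimage π).basicOpen (b x.1)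
    obtain ⟨β, hβ⟩ := hmem x (hbT x.1)
    let ψ : A.presheaf.obj (op (U x.1)) ⟶ Γ(N, π ⁻¹ᵁ U x.1) := φ.hom.app (op (U x.1))
    change ψ.hom β = b x.1 at hβ
    let res := N.presheaf.map (homOfLE (N.basicOpen_le (b x.1))).op
    have := ((hU x).preimage π).isLocalization_basicOpen (b x.1)
    have hu : IsUnit (res.hom (ψ.hom β)) := by
      rw [hβ]
      exact IsLocalization.Away.algebraMap_isUnit (b x.1)
    have hsurj : ∀ c, ∃ (a : A.presheaf.obj (op (U x.1))) (m : ℕ),
            c * (res.hom (ψ.hom β)) ^ m = res.hom (ψ.hom a) := by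
        intro c
        induction hT x.1 c using Subring.closure_induction with
        | mem c hc =>
          rcases hc with ⟨t, rfl⟩ | ⟨m, t, ht, h⟩
          · refine ⟨(A.str.app (op (U x.1))).hom t, 0, ?_⟩
            rw [pow_zero, mul_one, show ψ.hom ((A.str.app (op (U x.1))).hom t) = (π.app (U x.1)).hom t from
              congrArg (fun m => (m.app (op (U x.1))).hom t) φ.comm]
            rfl
          · obtain ⟨τ, hτ⟩ := hmem x ht
            change ψ.hom τ = t at hτ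
            exact ⟨τ, m, by rw [hβ, hτ]; exact h⟩
        | zero => exact ⟨0, 0, by simp⟩
        | one => exact ⟨1, 0, by simp⟩
        | neg c _ hc =>
          obtain ⟨a, m, h⟩ := hc
          exact ⟨-a, m, by rw [neg_mul, h]; simp⟩
        | add c d _ _ hc hd =>
          obtain ⟨a, m, h⟩ := hc; obtain ⟨a', m', h'⟩ := hd
          exact ⟨a * β ^ m' + a' * β ^ m, m + m', by
            simp only [map_add, map_mul, map_pow, pow_add, ← h, ← h']; ring⟩
        | mul c d _ _ hc hd =>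
          obtain ⟨a, m, h⟩ := hc; obtain ⟨a', m', h'⟩ := hd
          exact ⟨a * a', m + m', by simp only [map_mul, pow_add, ← h, ← h']; ring⟩
    have hker : ∀ a, res.hom (ψ.hom a) = 0 → ∃ m : ℕ, β ^ m * a = 0 := by
      intro a ha'
      obtain ⟨⟨_, m, rfl⟩, hm⟩ :=
        (IsLocalization.map_eq_zero_iff (Submonoid.powers (b x.1)) Γ(N, D) (ψ.hom a)).1 ha'
      refine ⟨m, hinj _ ?_⟩
      show ψ.hom (β ^ m * a) = ψ.hom 0
      rw [map_zero, map_mul, map_pow, hβ]
      exact hm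
    have hqψ : ((hU x).preimage π).fromSpec ≫ q = Spec.map ψ ≫ A.ι (U x.1) (hU x.1) :=
      hqU (U x.1) (hU x.1)
    have hqp : ∀ p', q (((hU x).preimage π).fromSpec p') = A.ι (U x.1) (hU x.1) (Spec.map ψ p') :=
      fun p' => congrArg (fun m : Spec Γ(N, π ⁻¹ᵁ U x.1) ⟶ A.spec => m p') hqψ
    let W : A.spec.Opens := (A.ι (U x.1) (hU x.1)) ''ᵁ PrimeSpectrum.basicOpen β
    have hW : r ⁻¹ᵁ W = i ⁻¹ᵁ D := by
      show i ⁻¹ᵁ q ⁻¹ᵁ W = i ⁻¹ᵁ D
      congr 1
      apply le_antisymm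
      · rintro n ⟨p, hp, hpn⟩
        have hnU : n ∈ π ⁻¹ᵁ U x.1 := by
          have h1 : q n ∈ A.π ⁻¹ᵁ U x.1 := by
            rw [A.π_preimage (U x.1) (hU x.1)]
            exact ⟨p, hpn⟩
          show π n ∈ U x.1
          rw [← hq, Scheme.Hom.comp_apply]
          exact h1
        obtain ⟨p', rfl⟩ := ((hU x).preimage π).range_fromSpec.ge hnU
        obtain rfl := (A.ι (U x.1) (hU x.1)).isOpenEmbedding.injective (hpn.trans (hqp p'))
        show p' ∈ ((hU x).preimage π).fromSpec ⁻¹ᵁ D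
        rw [IsAffineOpen.fromSpec_preimage_basicOpen]
        show b x.1 ∉ p'.asIdeal
        rw [← hβ]
        exact hp
      · intro n hn
        obtain ⟨p', rfl⟩ := ((hU x).preimage π).range_fromSpec.ge (N.basicOpen_le (b x.1) hn)
        refine ⟨(Spec.map ψ) p', ?_, (hqp p').symm⟩
        change p' ∈ ((hU x).preimage π).fromSpec ⁻¹ᵁ D at hn
        rw [IsAffineOpen.fromSpec_preimage_basicOpen] at hn
        show ψ.hom β ∉ p'.asIdeal
        rw [hβ]
        exact hn
    refine ⟨W, hW, ?_⟩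
    have hr : Set.range ((i ⁻¹ᵁ D).ι ≫ i) ⊆ Set.range hD.fromSpec := by
      rw [IsAffineOpen.range_fromSpec]
      rintro _ ⟨y, rfl⟩
      exact y.2
    let w := IsOpenImmersion.lift hD.fromSpec ((i ⁻¹ᵁ D).ι ≫ i) hr
    have hw : w ≫ hD.fromSpec = (i ⁻¹ᵁ D).ι ≫ i := IsOpenImmersion.lift_fac _ _ _
    have : IsOpenImmersion (w ≫ hD.fromSpec) := hw.symm ▸ inferInstance
    have : IsOpenImmersion w := IsOpenImmersion.of_comp w hD.fromSpec
    have e : (i ⁻¹ᵁ D).ι ≫ r = w ≫ Spec.map (ψ ≫ res) ≫ A.ι (U x.1) (hU x.1) := by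
      have h1 : Spec.map res ≫ ((hU x).preimage π).fromSpec = hD.fromSpec :=
        ((hU x).preimage π).map_fromSpec hD _
      rw [Spec.map_comp, Category.assoc, ← hqψ, reassoc_of% h1, reassoc_of% hw]
    letI := (ψ ≫ res).hom.toAlgebra
    have : IsLocalization.Away β Γ(N, D) := by
      refine ⟨⟨?_, fun c => ?_, fun {a a'} h => ?_⟩⟩
      · rintro ⟨_, m, rfl⟩
        show IsUnit (res.hom (ψ.hom (β ^ m)))
        rw [map_pow, map_pow]; exact hu.pow m
      · obtain ⟨a, m, h⟩ := hsurj c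
        refine ⟨⟨a, ⟨β ^ m, m, rfl⟩⟩, ?_⟩
        show c * res.hom (ψ.hom (β ^ m)) = res.hom (ψ.hom a)
        rw [map_pow, map_pow]; exact h
      · obtain ⟨m, hm⟩ := hker (a - a') (by
          show res.hom (ψ.hom (a - a')) = 0
          rw [map_sub, map_sub, sub_eq_zero]; exact h)
        exact ⟨⟨β ^ m, m, rfl⟩, sub_eq_zero.1 (by rw [← mul_sub]; exact hm)⟩
    have : IsOpenImmersion (Spec.map (ψ ≫ res)) :=
      IsOpenImmersion.of_isLocalization (R := A.presheaf.obj (op (U x.1))) (S := Γ(N, D)) β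
    rw [e]
    infer_instance
  choose W hW hWl using hkey
  have hopen : ∀ y : X, ∃ (Q : X.Opens), y ∈ Q ∧ IsOpenImmersion (Q.ι ≫ r) ∧
      ∀ y', r y' = r y → y' ∈ Q := fun y => by
    obtain ⟨x, hx, hy⟩ := Set.mem_iUnion₂.1 (hs (Set.mem_univ y))
    refine ⟨_, hy, hWl ⟨x, hx⟩, fun y' h => ?_⟩
    rw [← hW ⟨x, hx⟩]
    show r y' ∈ W ⟨x, hx⟩
    have h1 : y ∈ r ⁻¹ᵁ W ⟨x, hx⟩ := by rw [hW]; exact hy
    rw [h]; exact h1
  choose Q hyQ hQ hQ' using hopen
  have hinj' : Function.Injective r := by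
    intro y y' h
    have h3 := (hQ y).base_open.injective (a₁ := ⟨y, hyQ y⟩) (a₂ := ⟨y', hQ' y y' h.symm⟩) h
    exact congrArg Subtype.val h3
  have : ∀ y, IsIso (r.stalkMap y) := fun y => by
    have := hQ y
    have h1 : IsIso (((Q y).ι ≫ r).stalkMap ⟨y, hyQ y⟩) := inferInstance
    rw [Scheme.Hom.stalkMap_comp] at h1
    have h2 := isIso_stalkMap (isLocalizing_of_isOpenImmersion (Q y).ι) ⟨y, hyQ y⟩
    exact @IsIso.of_isIso_comp_right _ _ _ _ _ (r.stalkMap y) ((Q y).ι.stalkMap ⟨y, hyQ y⟩) h2 h1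
  refine IsOpenImmersion.of_isIso_stalkMap r
    (Topology.IsOpenEmbedding.of_continuous_injective_isOpenMap r.continuous hinj' ?_)
  rw [isOpenMap_iff_nhds_le]
  intro y
  have := hQ y
  have h1 := ((Q y).ι ≫ r).isOpenEmbedding.map_nhds_eq ⟨y, hyQ y⟩
  have h2 := (Q y).ι.isOpenEmbedding.map_nhds_eq ⟨y, hyQ y⟩
  show nhds (((Q y).ι ≫ r) ⟨y, hyQ y⟩) ≤ Filter.map r (nhds ((Q y).ι ⟨y, hyQ y⟩))
  rw [← h1, ← h2, Filter.map_map]
  exact le_rfl

end Groth.LocImmersion
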