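import Mathlib
import Groth.Agent.LocImm.FiniteFactor
import Groth.Agent.S7396
import Groth.Agent.FlatMor2.AffineThickening
import Groth.Agent.FlatMorOne.FTIdeal
import Groth.Agent.Flatmor4.ThickFT
import Groth.Agent.PropsBasic2.Misc

/-! Zariski's main theorem with a finite, finitely presented second factor. -/

universe u

open CategoryTheory Limits AlgebraicGeometry TopologicalSpace

set_option backward.isDefEq.respectTransparency.types false

namespace Groth.LocImmersion.FiniteFactorFP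

theorem exists_fg_eq_on {T : Scheme.{u}} [QuasiSeparatedSpace T] (J : T.IdealSheafData)
    (s : Finset T.affineOpens) (hs : ∀ V ∈ s, (J.ideal V).FG) (t : Finset T.affineOpens) :
    ∃ K ≤ J, (∀ V ∈ s, K.ideal V = J.ideal V) ∧ ∀ V ∈ t, (K.ideal V).FG := by
  classical
  suffices ∃ K ≤ J, (∀ V ∈ s, K.ideal V = J.ideal V) ∧ ∀ V ∈ s ∪ t, (K.ideal V).FG by
    obtain ⟨K, h1, h2, h3⟩ := this
    exact ⟨K, h1, h2, fun V hV => h3 V (Finset.mem_union_right _ hV)⟩
  induction t using Finset.induction with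
  | empty => exact ⟨J, le_rfl, fun V _ => rfl, fun V hV => hs V (by simpa using hV)⟩
  | insert U t _ ih =>
    obtain ⟨K, h1, h2, h3⟩ := ih
    obtain ⟨K', h1', h2', h3', -⟩ := Groth.FlatMor2.exists_le_fg_step K (s ∪ t) h3 U ∅ (by simp)
    refine ⟨K', h1'.trans h1,
      fun V hV => (h2' V (Finset.mem_union_left _ hV)).trans (h2 V hV), fun V hV => ?_⟩
    rw [Finset.union_insert, Finset.mem_insert] at hV
    rcases hV with rfl | hV
    · exact h3'
    · rw [h2' V hV]; exact h3 V hV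

theorem ker_fg_of_surjective {A B : CommRingCat.{u}} (φ : A ⟶ B) (hφ : Function.Surjective φ)
    (hfp : φ.hom.FinitePresentation) : (RingHom.ker φ.hom).FG := by
  algebraize [φ.hom]
  exact Algebra.FinitePresentation.ker_fG_of_surjective (Algebra.ofId A B) hφ

theorem isIso_morphismRestrict_of_ker_eq {T0 T : Scheme.{u}} (K : T.IdealSheafData)
    (i : T0 ⟶ K.subscheme) [IsClosedImmersion i] (W : T.Opens) {ι : Type*} (V : ι → T.affineOpens)
    (hW : W ≤ ⨆ k, (V k).1) (hV : ∀ k, (V k).1 ≤ W)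
    (hker : ∀ k, (i ≫ K.subschemeι).ker.ideal (V k) = K.ideal (V k)) :
    IsIso (i ∣_ (K.subschemeι ⁻¹ᵁ W)) := by
  have key : ∀ k, IsIso (i ∣_ (K.subschemeι ⁻¹ᵁ (V k).1)) := by
    intro k
    set U := K.subschemeι ⁻¹ᵁ (V k).1
    have hU : IsAffineOpen U := (V k).2.preimage _
    have : IsAffine U := hU
    refine (HasAffineProperty.iff_of_isAffine (P := MorphismProperty.isomorphisms Scheme)).mpr
      ⟨hU.preimage i, ?_⟩
    have hbij : Function.Bijective (i.app U) := by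
      refine ⟨?_, i.app_surjective U hU⟩
      rw [injective_iff_map_eq_zero]
      intro z hz
      obtain ⟨a, rfl⟩ := K.subschemeι_app_surjective (V k) z
      have ha : a ∈ (i ≫ K.subschemeι).ker.ideal (V k) := by
        rw [Scheme.Hom.ker_apply, RingHom.mem_ker, Scheme.Hom.comp_app]
        exact hz
      rw [hker k, ← K.ker_subschemeι, Scheme.Hom.ker_apply, RingHom.mem_ker] at ha
      exact ha
    have h2 : IsIso (i.app U) := (ConcreteCategory.isIso_iff_bijective _).mpr hbij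
    exact ((MorphismProperty.isomorphisms CommRingCat).arrow_mk_iso_iff
      (arrowResLEAppIso i _ _ le_rfl)).mpr (by rwa [← Scheme.Hom.app_eq_appLE]) |> fun h => by
        rw [← Scheme.Hom.resLE_eq_morphismRestrict]; exact h
  set U := K.subschemeι ⁻¹ᵁ W
  refine (IsZariskiLocalAtTarget.iff_of_iSup_eq_top (P := MorphismProperty.isomorphisms Scheme)
    (fun k => U.ι ⁻¹ᵁ (K.subschemeι ⁻¹ᵁ (V k).1)) ?_).mpr fun k => ?_
  · refine top_le_iff.mp fun z _ => ?_
    obtain ⟨k, hk⟩ := Opens.mem_iSup.mp (hW z.2)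
    exact Opens.mem_iSup.mpr ⟨k, hk⟩
  · rw [MorphismProperty.arrow_mk_iso_iff (MorphismProperty.isomorphisms Scheme)
      (morphismRestrictRestrict i U _)]
    have h : U.ι ''ᵁ (U.ι ⁻¹ᵁ (K.subschemeι ⁻¹ᵁ (V k).1)) = K.subschemeι ⁻¹ᵁ (V k).1 := by
      rw [Scheme.Hom.image_preimage_eq_opensRange_inf, Scheme.Opens.opensRange_ι]
      exact inf_eq_right.mpr (K.subschemeι.preimage_mono (hV k))
    rw [h]; exact key k

theorem exists_factor {X S : Scheme.{u}} (f : X ⟶ S) [CompactSpace S] [QuasiSeparatedSpace S]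
    [IsSeparated f] [QuasiCompact f] [LocallyQuasiFinite f] [LocallyOfFinitePresentation f] :
    ∃ (T : Scheme.{u}) (j : X ⟶ T) (π : T ⟶ S), IsOpenImmersion j ∧ QuasiCompact j ∧ IsFinite π ∧
      LocallyOfFinitePresentation π ∧ j ≫ π = f := by
  classical
  obtain ⟨T0, j, π0, hj, hπ0, hf⟩ := Groth.LocImmersion.exists_isOpenImmersion_comp_isFinite f
  obtain ⟨T, π, i, hπ, hπfp, hi, hiπ⟩ := Groth.Agent.S7396.result π0
  subst hiπ
  have hT : CompactSpace T := QuasiCompact.compactSpace_of_compactSpace π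
  have hTqs : QuasiSeparatedSpace T := quasiSeparatedSpace_of_quasiSeparated π
  have hX : CompactSpace X := QuasiCompact.compactSpace_of_compactSpace f
  have hjqc : QuasiCompact j := by
    have : QuasiCompact (j ≫ i ≫ π) := hf.symm ▸ inferInstance
    exact QuasiCompact.of_comp j (i ≫ π)
  obtain ⟨O, hO, hOi⟩ := i.isClosedEmbedding.isInducing.isOpen_iff.mp j.opensRange.2
  obtain ⟨s, hs⟩ := (isCompact_range (j ≫ i).continuous).elim_finite_subcover
    (fun V : {V : T.affineOpens // V.1 ≤ ⟨O, hO⟩} => (V.1.1 : Set T)) (fun V => V.1.1.2) (by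
      rintro _ ⟨x, rfl⟩
      have hx : (j ≫ i) x ∈ (⟨O, hO⟩ : T.Opens) := (Set.ext_iff.mp hOi (j x)).mpr ⟨x, rfl⟩
      obtain ⟨_, ⟨V, hV, rfl⟩, hxV, hVO⟩ := T.isBasis_affineOpens.exists_subset_of_mem_open hx hO
      exact Set.mem_iUnion.mpr ⟨⟨⟨V, hV⟩, hVO⟩, hxV⟩)
  have : LocallyOfFinitePresentation (j ≫ i) := by
    have : LocallyOfFinitePresentation ((j ≫ i) ≫ π) := by rw [Category.assoc, hf]; infer_instance
    exact Groth.PropsBasic2.lfp_of_comp (j ≫ i) π
  have hfg : ∀ V ∈ s.image Subtype.val, (i.ker.ideal V).FG := by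
    intro V hV
    obtain ⟨⟨V, hVO⟩, -, rfl⟩ := Finset.mem_image.mp hV
    have hle : i ⁻¹ᵁ V.1 ≤ j.opensRange := fun z hz => (Set.ext_iff.mp hOi z).mp (hVO hz)
    have haff : IsAffineOpen ((j ≫ i) ⁻¹ᵁ V.1) :=
      (V.2.preimage i).preimage_of_isOpenImmersion j hle
    have hiso : IsIso (j.app (i ⁻¹ᵁ V.1)) := j.isIso_app _ hle
    have happ : (j ≫ i).app V.1 = i.app V.1 ≫ j.app (i ⁻¹ᵁ V.1) := Scheme.Hom.comp_app j i V.1
    have hfp := (j ≫ i).finitePresentation_appLE V.2 haff le_rfl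
    rw [← Scheme.Hom.app_eq_appLE, happ] at hfp
    have hb := ConcreteCategory.bijective_of_isIso (j.app (i ⁻¹ᵁ V.1))
    have h := ker_fg_of_surjective (i.app V.1 ≫ j.app (i ⁻¹ᵁ V.1))
      (by exact hb.2.comp (i.app_surjective V.1 V.2)) hfp
    rw [CommRingCat.hom_comp, RingHom.ker_comp_of_injective _ hb.1] at h
    rwa [Scheme.Hom.ker_apply]
  obtain ⟨t, ht⟩ := isCompact_univ.elim_finite_subcover (fun V : T.affineOpens => (V.1 : Set T))
    (fun V => V.1.2) (fun x _ => by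
      obtain ⟨_, ⟨V, hV, rfl⟩, hx, -⟩ :=
        T.isBasis_affineOpens.exists_subset_of_mem_open (Set.mem_univ x) isOpen_univ
      exact Set.mem_iUnion.mpr ⟨⟨V, hV⟩, hx⟩)
  obtain ⟨K, hKJ, hKs, hKt⟩ := exists_fg_eq_on i.ker _ hfg t
  have hKfg : ∀ A, (K.ideal A).FG := fun A => Groth.FlatMorOne.fg_of_cover K t
    (fun x => by simpa using Set.mem_iUnion₂.mp (ht (Set.mem_univ x))) hKt A
  have : LocallyOfFinitePresentation K.subschemeι :=
    Groth.Flatmor4.lfp_of_ker_fg _ (by simpa using hKfg)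
  let i₁ := IsClosedImmersion.lift K.subschemeι i (by rwa [Scheme.IdealSheafData.ker_subschemeι])
  have hi₁ : i₁ ≫ K.subschemeι = i := IsClosedImmersion.lift_fac _ _ _
  have : IsClosedImmersion i₁ := by
    have : IsClosedImmersion (i₁ ≫ K.subschemeι) := by rwa [hi₁]
    exact IsClosedImmersion.of_comp i₁ K.subschemeι
  let W : T.Opens := ⨆ V : s, V.1.1.1
  have hiso := isIso_morphismRestrict_of_ker_eq K i₁ W (fun V : s => V.1.1) le_rfl
    (fun V => le_iSup (fun V : s => V.1.1.1) V)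
    (fun V => by rw [hi₁]; exact (hKs _ (Finset.mem_image_of_mem _ V.2)).symm)
  set U := K.subschemeι ⁻¹ᵁ W
  have hrange : Set.range j ⊆ Set.range (i₁ ⁻¹ᵁ U).ι := by
    rintro _ ⟨x, rfl⟩
    rw [Scheme.Opens.range_ι]
    obtain ⟨V, hV, hxV⟩ := Set.mem_iUnion₂.mp (hs ⟨x, rfl⟩)
    show K.subschemeι (i₁ (j x)) ∈ W
    rw [← Scheme.Hom.comp_apply, hi₁]
    exact Opens.mem_iSup.mpr ⟨⟨V, hV⟩, hxV⟩
  refine ⟨K.subscheme, j ≫ i₁, K.subschemeι ≫ π, ?_, inferInstance, inferInstance, inferInstance, ?_⟩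
  · rw [← IsOpenImmersion.lift_fac (i₁ ⁻¹ᵁ U).ι j hrange, Category.assoc, ← morphismRestrict_ι]
    infer_instance
  · rw [Category.assoc, reassoc_of% hi₁, hf]

end Groth.LocImmersion.FiniteFactorFP
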