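import Mathlib
import Groth.Agent.S9454
import Groth.Agent.LocImm.FiniteFactorFP

/-! Étale covers of quasi-compact quasi-separated schemes are dominated, Zariski locally on the
source, by finite surjective morphisms of finite presentation. -/

universe u

open CategoryTheory Limits AlgebraicGeometry TopologicalSpace

set_option backward.isDefEq.respectTransparency.types false

namespace Groth.LocImmersion.EtaleDominate

variable {U X : Scheme.{u}} (g : U ⟶ X)

/-- `π` lifts to `U` near the point `y`. -/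
def Lifts {Y : Scheme.{u}} (π : Y ⟶ X) (y : Y) : Prop :=
  ∃ (V : Y.Opens) (h : (V : Scheme.{u}) ⟶ U), y ∈ V ∧ h ≫ g = V.ι ≫ π

theorem lifts_comp {Y Y' : Scheme.{u}} (a : Y' ⟶ Y) (π : Y ⟶ X) (y : Y') (h : Lifts g π (a y)) :
    Lifts g (a ≫ π) y := by
  obtain ⟨V, l, hy, hl⟩ := h
  refine ⟨a ⁻¹ᵁ V, a ∣_ V ≫ l, hy, ?_⟩
  rw [Category.assoc, hl, morphismRestrict_ι_assoc]

theorem lifts_of_isOpenImmersion {Y Y' : Scheme.{u}} (j : Y' ⟶ Y) [IsOpenImmersion j] (π : Y ⟶ X)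
    (y : Y') (h : Lifts g (j ≫ π) y) : Lifts g π (j y) := by
  obtain ⟨V, l, hy, hl⟩ := h
  have hr : Set.range (V.ι ≫ j) = Set.range (j ''ᵁ V).ι := by
    rw [Scheme.Opens.range_ι, Scheme.Hom.comp_base, TopCat.coe_comp, Set.range_comp,
      Scheme.Opens.range_ι]
    rfl
  let e := IsOpenImmersion.isoOfRangeEq (V.ι ≫ j) (j ''ᵁ V).ι hr
  have he : e.inv ≫ V.ι ≫ j = (j ''ᵁ V).ι := IsOpenImmersion.isoOfRangeEq_inv_fac _ _ hr
  refine ⟨j ''ᵁ V, e.inv ≫ l, ⟨y, hy, rfl⟩, ?_⟩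
  rw [Category.assoc, hl, reassoc_of% he]

theorem lifts_of_hom {Y : Scheme.{u}} (π : Y ⟶ X) (y : Y) (l : Y ⟶ U) (hl : l ≫ g = π) :
    Lifts g π y :=
  ⟨⊤, (⊤ : Y.Opens).ι ≫ l, trivial, by rw [Category.assoc, hl]⟩

theorem mem_range_coprod {A B : Scheme.{u}} (w : ↥(A ⨿ B)) :
    w ∈ Set.range (coprod.inl : A ⟶ A ⨿ B) ∨ w ∈ Set.range (coprod.inr : B ⟶ A ⨿ B) := by
  obtain ⟨z, rfl⟩ := (coprodMk A B).surjective w
  rcases z with a | b
  · exact Or.inl ⟨a, (coprodMk_inl A B a).symm⟩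
  · exact Or.inr ⟨b, (coprodMk_inr A B b).symm⟩

/-- The affine case. -/
theorem exists_affine [Etale g] [Surjective g] {X₀ : X.Opens} (hX₀ : IsAffineOpen X₀) :
    ∃ (Y : Scheme.{u}) (p : Y ⟶ (X₀ : Scheme.{u})), IsFinite p ∧ LocallyOfFinitePresentation p ∧
      Surjective p ∧ ∀ y, Lifts g (p ≫ X₀.ι) y := by
  classical
  obtain ⟨t, ht⟩ := hX₀.isCompact.elim_finite_subcover
    (fun V : {V : U.affineOpens // V.1 ≤ g ⁻¹ᵁ X₀} => g '' (V.1.1 : Set U))
    (fun V => g.isOpenMap _ V.1.1.2) (by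
      intro x hx
      obtain ⟨u, rfl⟩ := g.surjective x
      obtain ⟨_, ⟨V, hV, rfl⟩, huV, hVle⟩ :=
        U.isBasis_affineOpens.exists_subset_of_mem_open (show u ∈ g ⁻¹ᵁ X₀ from hx) (g ⁻¹ᵁ X₀).2
      exact Set.mem_iUnion.mpr ⟨⟨⟨V, hV⟩, hVle⟩, u, huV, rfl⟩)
  let F : t → Scheme.{u} := fun V => V.1.1.1
  have : ∀ V : t, IsAffine (F V) := fun V => V.1.1.2
  let U' := ∐ F
  have : IsAffine X₀ := hX₀
  let d : U' ⟶ U := Sigma.desc fun V => V.1.1.1.ι
  let g' : U' ⟶ X₀ := Sigma.desc fun V => g.resLE X₀ V.1.1.1 V.1.2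
  have hd : g' ≫ X₀.ι = d ≫ g := by
    refine Sigma.hom_ext _ _ fun V => ?_
    simp only [g', d, F, colimit.ι_desc_assoc, Cofan.mk_ι_app]
    exact g.resLE_comp_ι V.1.2
  have : Etale g' := by
    refine IsZariskiLocalAtSource.sigmaDesc (P := @Etale) fun V => ?_
    show Etale (g.resLE X₀ V.1.1.1 V.1.2)
    delta Scheme.Hom.resLE
    infer_instance
  have : Surjective g' := ⟨fun x => by
    obtain ⟨V, hV, u, hu, hux⟩ := Set.mem_iUnion₂.mp (ht x.2)
    refine ⟨Sigma.ι F ⟨V, hV⟩ ⟨u, hu⟩, X₀.ι.isOpenEmbedding.injective ?_⟩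
    rw [← Scheme.Hom.comp_apply, hd, ← Scheme.Hom.comp_apply, ← Category.assoc,
      Sigma.ι_desc]
    exact hux⟩
  let φ := g'.appTop
  algebraize [φ.hom]
  have : Algebra.Etale Γ((X₀ : Scheme.{u}), ⊤) Γ(U', ⊤) :=
    HasRingHomProperty.appTop (P := @Etale) g' inferInstance
  have hsurj : Function.Surjective (PrimeSpectrum.comap (algebraMap Γ((X₀ : Scheme.{u}), ⊤) Γ(U', ⊤))) := by
    have : Surjective (Spec.map φ) := by
      rw [show Spec.map φ = U'.isoSpec.inv ≫ g' ≫ (X₀ : Scheme.{u}).isoSpec.hom by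
        rw [← Scheme.isoSpec_hom_naturality, Iso.inv_hom_id_assoc]]
      infer_instance
    exact (Spec.map φ).surjective
  obtain ⟨S', _, _, hfin, hfp, -, hs', hloc⟩ :=
    Groth.Agent.S9454.result Γ((X₀ : Scheme.{u}), ⊤) Γ(U', ⊤) hsurj
  let a : Γ((X₀ : Scheme.{u}), ⊤) ⟶ CommRingCat.of S' :=
    CommRingCat.ofHom (algebraMap ↑Γ((X₀ : Scheme.{u}), ⊤) S')
  have : IsFinite (Spec.map a) := (IsFinite.SpecMap_iff a).mpr (RingHom.finite_algebraMap.mpr hfin)
  have : LocallyOfFinitePresentation (Spec.map a) :=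
    (LocallyOfFinitePresentation.SpecMap_iff _).mpr (RingHom.finitePresentation_algebraMap.mpr hfp)
  have : Surjective (Spec.map a) := ⟨hs'⟩
  refine ⟨Spec (.of S'), Spec.map a ≫ (X₀ : Scheme.{u}).isoSpec.inv, inferInstance, inferInstance,
    inferInstance, fun y => ?_⟩
  obtain ⟨c, hc, ⟨ψ⟩⟩ := hloc y.asIdeal
  let loc : CommRingCat.of S' ⟶ CommRingCat.of (Localization.Away c) :=
    CommRingCat.ofHom (algebraMap S' (Localization.Away c))
  have : IsOpenImmersion (Spec.map loc) := IsOpenImmersion.of_isLocalization c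
  obtain ⟨z, hz⟩ : y ∈ Set.range (Spec.map loc) :=
    (PrimeSpectrum.localization_away_comap_range (Localization.Away c) c).ge hc
  rw [← hz]
  refine lifts_of_isOpenImmersion g (Spec.map loc) _ z (lifts_of_hom g _ z
    (Spec.map (CommRingCat.ofHom (ψ : Γ(U', ⊤) →+* Localization.Away c)) ≫ U'.isoSpec.inv ≫ d) ?_)
  have hψ : a ≫ loc = φ ≫ CommRingCat.ofHom (ψ : Γ(U', ⊤) →+* Localization.Away c) := by
    ext r
    show algebraMap S' (Localization.Away c) (algebraMap ↑Γ((X₀ : Scheme.{u}), ⊤) S' r) = ψ (algebraMap ↑Γ((X₀ : Scheme.{u}), ⊤) ↑Γ(U', ⊤) r)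
    rw [← IsScalarTower.algebraMap_apply]
    exact (ψ.commutes r).symm
  simp only [Category.assoc]
  rw [← hd, ← Scheme.isoSpec_inv_naturality_assoc g', ← Spec.map_comp_assoc, ← Spec.map_comp_assoc]
  rw [hψ]

variable [CompactSpace X] [QuasiSeparatedSpace X]

/-- The extension of a local solution to the whole base. -/
theorem exists_extend {X₀ : X.Opens} (hX₀ : IsAffineOpen X₀) {Y : Scheme.{u}}
    (p : Y ⟶ (X₀ : Scheme.{u})) [IsFinite p] [LocallyOfFinitePresentation p] [hps : Surjective p]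
    (hlift : ∀ y, Lifts g (p ≫ X₀.ι) y) :
    ∃ (W : Scheme.{u}) (π : W ⟶ X), Surjective π ∧ IsFinite π ∧ LocallyOfFinitePresentation π ∧
      ∀ w, π w ∈ X₀ → Lifts g π w := by
  have : CompactSpace X₀ := isCompact_iff_compactSpace.mp hX₀.isCompact
  have : QuasiCompact X₀.ι := Groth.FlatMorOne.quasiCompact_ι hX₀.isCompact
  obtain ⟨T, j, π, hj, hjqc, hπ, hπfp, hf⟩ :=
    Groth.LocImmersion.FiniteFactorFP.exists_factor (p ≫ X₀.ι)
  have hT : CompactSpace T := QuasiCompact.compactSpace_of_compactSpace π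
  have hTqs : QuasiSeparatedSpace T := quasiSeparatedSpace_of_quasiSeparated π
  have hjmem : ∀ y, π (j y) ∈ X₀ := fun y => by
    rw [← Scheme.Hom.comp_apply, hf, Scheme.Hom.comp_apply]
    exact (p y).2
  let P : T.Opens := π ⁻¹ᵁ X₀
  let k : Y ⟶ P := IsOpenImmersion.lift P.ι j (by
    rw [Scheme.Opens.range_ι]; rintro _ ⟨y, rfl⟩; exact hjmem y)
  have hk : k ≫ P.ι = j := IsOpenImmersion.lift_fac _ _ _
  have : IsFinite (k ≫ π ∣_ X₀) := by
    have : k ≫ π ∣_ X₀ = p := by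
      rw [← cancel_mono X₀.ι, Category.assoc, morphismRestrict_ι, reassoc_of% hk, hf]
    rwa [this]
  have : IsFinite k := IsFinite.of_comp k (π ∣_ X₀)
  have hkclosed : IsClosed (Set.range k) := k.isClosedMap.isClosed_range
  let C : Set T := (P : Set T) \ Set.range j
  have hC : C = P.ι '' (Set.range k)ᶜ := by
    ext z
    constructor
    · rintro ⟨hzP, hzj⟩
      refine ⟨⟨z, hzP⟩, fun ⟨y, hy⟩ => hzj ⟨y, ?_⟩, rfl⟩
      rw [← hk, Scheme.Hom.comp_apply, hy]; rfl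
    · rintro ⟨w, hw, rfl⟩
      refine ⟨w.2, fun ⟨y, hy⟩ => hw ⟨y, P.ι.isOpenEmbedding.injective ?_⟩⟩
      rw [← Scheme.Hom.comp_apply, hk]; exact hy
  have hCo : IsOpen C := hC ▸ P.ι.isOpenEmbedding.isOpenMap _ hkclosed.isOpen_compl
  have hCc : IsCompact C := by
    rw [hC]
    have : CompactSpace P := isCompact_iff_compactSpace.mp (π.isCompact_preimage hX₀.isCompact)
    refine (IsClosed.isCompact ?_).image P.ι.continuous
    · have hko : IsOpen (Set.range k) := by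
        have : IsOpenImmersion (k ≫ P.ι) := hk.symm ▸ hj
        have : IsOpenImmersion k := IsOpenImmersion.of_comp k P.ι
        exact k.isOpenEmbedding.isOpen_range
      exact hko.isClosed_compl
  obtain ⟨I, hIfg, hI⟩ := Groth.FlatMorOne.exists_ftIdeal_support_eq ⟨Cᶜ, hCo.isClosed_compl⟩
    (by simpa using hCc)
  obtain ⟨J, hJfg, hJ⟩ := Groth.FlatMorOne.exists_ftIdeal_support_eq
    ⟨(X₀ : Set X)ᶜ, X₀.2.isClosed_compl⟩ (by simpa using hX₀.isCompact)
  have : LocallyOfFinitePresentation I.subschemeι :=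
    Groth.Flatmor4.lfp_of_ker_fg _ (by simpa using hIfg)
  have : LocallyOfFinitePresentation J.subschemeι :=
    Groth.Flatmor4.lfp_of_ker_fg _ (by simpa using hJfg)
  let π' : I.subscheme ⨿ J.subscheme ⟶ X := coprod.desc (I.subschemeι ≫ π) J.subschemeι
  have hfin' : IsFinite π' := inferInstance
  have hfp' : LocallyOfFinitePresentation π' := by
    refine IsZariskiLocalAtSource.of_openCover (P := @LocallyOfFinitePresentation)
      (coprodOpenCover.{u, u} I.subscheme J.subscheme) fun i => ?_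
    rcases i with ⟨⟨⟩⟩ | ⟨⟨⟩⟩
    · show LocallyOfFinitePresentation (coprod.inl ≫ π')
      rw [coprod.inl_desc]; infer_instance
    · show LocallyOfFinitePresentation (coprod.inr ≫ π')
      rw [coprod.inr_desc]; infer_instance
  have hIr : ∀ z, z ∈ Set.range I.subschemeι ↔ z ∉ C := fun z => by
    rw [I.range_subschemeι, hI]; rfl
  refine ⟨_, π', ⟨fun x => ?_⟩, hfin', hfp', fun w hw => ?_⟩
  · by_cases hx : x ∈ X₀
    · obtain ⟨y, hy⟩ := hps.1 ⟨x, hx⟩
      obtain ⟨z, hz⟩ : j y ∈ Set.range I.subschemeι := (hIr _).mpr fun h => h.2 ⟨y, rfl⟩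
      refine ⟨(coprod.inl : I.subscheme ⟶ _) z, ?_⟩
      rw [← Scheme.Hom.comp_apply, coprod.inl_desc, Scheme.Hom.comp_apply, hz, ← Scheme.Hom.comp_apply,
        hf, Scheme.Hom.comp_apply, hy]
      rfl
    · obtain ⟨z, hz⟩ : x ∈ Set.range J.subschemeι := by
        rw [J.range_subschemeι, hJ]; exact hx
      exact ⟨(coprod.inr : J.subscheme ⟶ _) z, by rw [← Scheme.Hom.comp_apply, coprod.inr_desc, hz]⟩
  · rcases mem_range_coprod w with ⟨z, rfl⟩ | ⟨z, rfl⟩
    · refine lifts_of_isOpenImmersion g coprod.inl π' z ?_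
      rw [coprod.inl_desc]
      refine lifts_comp g I.subschemeι π z ?_
      rw [← Scheme.Hom.comp_apply, coprod.inl_desc, Scheme.Hom.comp_apply] at hw
      obtain ⟨y, hy⟩ : I.subschemeι z ∈ Set.range j := by
        by_contra h
        exact (hIr _).mp ⟨z, rfl⟩ ⟨hw, h⟩
      rw [← hy]
      exact lifts_of_isOpenImmersion g j π y (hf.symm ▸ hlift y)
    · rw [← Scheme.Hom.comp_apply, coprod.inr_desc] at hw
      exact absurd hw (show J.subschemeι z ∈ ((X₀ : Set X))ᶜ from by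
        have := hJ ▸ (J.range_subschemeι.le ⟨z, rfl⟩)
        exact this)

theorem exists_dominating_of_local
    (H : ∀ x : X, ∃ X₀ : X.Opens, IsAffineOpen X₀ ∧ x ∈ X₀ ∧ ∃ (Y : Scheme.{u}) (p : Y ⟶ (X₀ : Scheme.{u})),
      IsFinite p ∧ LocallyOfFinitePresentation p ∧ Surjective p ∧ ∀ y, Lifts g (p ≫ X₀.ι) y) :
    ∃ (Y : Scheme.{u}) (π : Y ⟶ X), Surjective π ∧ IsFinite π ∧ LocallyOfFinitePresentation π ∧
      ∀ y, Lifts g π y := by
  classical
  choose X₀ hX₀ hxX₀ hdata using H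
  suffices H : ∀ s : Finset X, ∃ (Y : Scheme.{u}) (π : Y ⟶ X), Surjective π ∧ IsFinite π ∧
      LocallyOfFinitePresentation π ∧ ∀ y, (∃ x ∈ s, π y ∈ X₀ x) → Lifts g π y by
    obtain ⟨t, ht⟩ := isCompact_univ.elim_finite_subcover (fun x => (X₀ x : Set X))
      (fun x => (X₀ x).2) (fun x _ => Set.mem_iUnion.mpr ⟨x, hxX₀ x⟩)
    obtain ⟨Y, π, h1, h2, h3, h4⟩ := H t
    exact ⟨Y, π, h1, h2, h3, fun y => h4 y (by simpa using Set.mem_iUnion₂.mp (ht (Set.mem_univ (π y))))⟩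
  intro s
  induction s using Finset.induction with
  | empty => exact ⟨X, 𝟙 X, inferInstance, inferInstance, inferInstance, fun y ⟨V, hV, _⟩ => by simp at hV⟩
  | insert V s _ ih =>
    obtain ⟨Y, π, h1, h2, h3, h4⟩ := ih
    obtain ⟨Y₀, p, e1, e2, e3, e4⟩ := hdata V
    obtain ⟨W, ρ, k1, k2, k3, k4⟩ := exists_extend g (hX₀ V) p e4
    refine ⟨pullback π ρ, pullback.fst π ρ ≫ π, inferInstance, inferInstance, inferInstance,
      fun y ⟨V', hV', hy⟩ => ?_⟩
    rcases Finset.mem_insert.mp hV' with rfl | hV'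
    · rw [pullback.condition] at hy ⊢
      exact lifts_comp g _ _ y (k4 _ (by simpa using hy))
    · exact lifts_comp g _ _ y (h4 _ ⟨V', hV', by simpa using hy⟩)

theorem exists_dominating [Etale g] [Surjective g] :
    ∃ (Y : Scheme.{u}) (π : Y ⟶ X), Surjective π ∧ IsFinite π ∧ LocallyOfFinitePresentation π ∧
      ∀ y, Lifts g π y := by
  refine exists_dominating_of_local g fun x => ?_
  obtain ⟨_, ⟨V, hV, rfl⟩, hx, -⟩ :=
    X.isBasis_affineOpens.exists_subset_of_mem_open (Set.mem_univ x) isOpen_univ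
  exact ⟨V, hV, hx, exists_affine g hV⟩

end Groth.LocImmersion.EtaleDominate
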