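import Mathlib
import Groth.Agent.S9432
import Groth.Agent.Flatmor4.EtaleSplit
import Groth.Agent.LocImm.EtaleDominate

/-! Fppf covers are dominated by finite flat covers étale locally on the base, and by finite
surjective morphisms of finite presentation over quasi-compact quasi-separated bases. -/

universe u

open CategoryTheory Limits AlgebraicGeometry TopologicalSpace

set_option backward.isDefEq.respectTransparency.types false

namespace Groth.LocImmersion.FppfDominate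

open Groth.LocImmersion.EtaleDominate

variable {U S : Scheme.{u}} (g : U ⟶ S)

/-- A quasi-finite flat slice through a given point of the base. -/
theorem exists_slice [Flat g] [LocallyOfFinitePresentation g] [Surjective g] (s : S) :
    ∃ (T : Scheme.{u}) (e : T ⟶ S) (a : T ⟶ U) (t : T), a ≫ g = e ∧ IsSeparated e ∧ Flat e ∧
      LocallyOfFinitePresentation e ∧ LocallyQuasiFinite e ∧ e t = s := by
  obtain ⟨x, hx⟩ := g.surjective s
  obtain ⟨_, ⟨V : S.Opens, hV, rfl⟩, hsV, -⟩ :=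
    S.isBasis_affineOpens.exists_subset_of_mem_open (Set.mem_univ s) isOpen_univ
  obtain ⟨_, ⟨U₀ : U.Opens, hU₀, rfl⟩, hxU₀, hU₀V⟩ := U.isBasis_affineOpens.exists_subset_of_mem_open
    (show x ∈ g ⁻¹ᵁ V from show g x ∈ V from hx ▸ hsV) (g ⁻¹ᵁ V).2
  let O : S.Opens := ⟨g '' U₀, g.isOpenMap _ U₀.2⟩
  obtain ⟨r, hrO, hsr⟩ := hV.exists_basicOpen_le (V := O) ⟨s, x, hxU₀, hx⟩ hsV
  let D := S.basicOpen r
  have hD : IsAffineOpen D := hV.basicOpen r
  let U₁ : U.Opens := U₀ ⊓ g ⁻¹ᵁ D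
  have hU₁ : IsAffineOpen U₁ := by
    have : U₁ = U.basicOpen (g.appLE V U₀ hU₀V r) := by rw [Scheme.basicOpen_appLE]
    rw [this]; exact hU₀.basicOpen _
  have : IsAffine D := hD
  have : IsAffine U₁ := hU₁
  let g₁ := g.resLE D U₁ inf_le_right
  have : Flat g₁ := by
    show Flat (g.resLE D U₁ inf_le_right)
    delta Scheme.Hom.resLE; infer_instance
  have : Surjective g₁ := ⟨fun d => by
    obtain ⟨z, hz, hzd⟩ := hrO d.2
    refine ⟨⟨z, hz, show g z ∈ D from hzd ▸ d.2⟩, D.ι.isOpenEmbedding.injective ?_⟩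
    rw [← Scheme.Hom.comp_apply, g.resLE_comp_ι]
    exact hzd⟩
  let A := Γ((D : Scheme.{u}), ⊤)
  let B := Γ((U₁ : Scheme.{u}), ⊤)
  let φ : A ⟶ B := g₁.appTop
  have hflat : φ.hom.Flat := g₁.flat_appTop
  have hfp : φ.hom.FinitePresentation := g₁.finitePresentation_appTop
  algebraize [φ.hom]
  have hsurj : Function.Surjective (PrimeSpectrum.comap (algebraMap A B)) := by
    have : Surjective (Spec.map φ) := by
      rw [show Spec.map φ = (U₁ : Scheme.{u}).isoSpec.inv ≫ g₁ ≫ (D : Scheme.{u}).isoSpec.hom by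
        rw [← Scheme.isoSpec_hom_naturality, Iso.inv_hom_id_assoc]]
      infer_instance
    exact (Spec.map φ).surjective
  have : Module.FaithfullyFlat A B := Module.FaithfullyFlat.of_comap_surjective hsurj
  let p : PrimeSpectrum A := (D : Scheme.{u}).isoSpec.hom ⟨s, hsr⟩
  obtain ⟨S', _, _, hfp', hfl', hqf', ⟨q, hq⟩, ⟨χ⟩⟩ := Groth.Agent.S9432.exists_point A B p
  let a' : A ⟶ CommRingCat.of S' := CommRingCat.ofHom (algebraMap A S')
  have hlfp : LocallyOfFinitePresentation (Spec.map a') :=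
    (LocallyOfFinitePresentation.SpecMap_iff _).mpr (RingHom.finitePresentation_algebraMap.mpr hfp')
  have hflT : Flat (Spec.map a') := Flat.SpecMap_iff.mpr (RingHom.flat_algebraMap_iff.mpr hfl')
  have hqfT : LocallyQuasiFinite (Spec.map a') :=
    (HasRingHomProperty.Spec_iff (P := @LocallyQuasiFinite)).mpr (RingHom.quasiFinite_algebraMap.mpr hqf')
  let e := Spec.map a' ≫ (D : Scheme.{u}).isoSpec.inv ≫ D.ι
  let a := Spec.map (CommRingCat.ofHom (χ : B →+* S')) ≫ (U₁ : Scheme.{u}).isoSpec.inv ≫ U₁.ι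
  refine ⟨Spec (CommRingCat.of S'), e, a, q, ?_, inferInstance, inferInstance, inferInstance,
    inferInstance, ?_⟩
  · have h : φ ≫ CommRingCat.ofHom (χ : B →+* S') = a' := by
      ext z; exact χ.commutes z
    simp only [a, e, Category.assoc]
    rw [← g.resLE_comp_ι (inf_le_right : U₁ ≤ g ⁻¹ᵁ D), ← Scheme.isoSpec_inv_naturality_assoc,
      ← Spec.map_comp_assoc]
    exact congrArg (fun m => Spec.map m ≫ _) h
  · rw [Scheme.Hom.comp_apply, show Spec.map a' q = p from hq, ← Scheme.Hom.comp_apply]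
    show ((D : Scheme.{u}).isoSpec.hom ≫ (D : Scheme.{u}).isoSpec.inv ≫ D.ι) ⟨s, hsr⟩ = s
    rw [Iso.hom_inv_id_assoc]
    rfl

/-- Étale locally on the base an fppf cover has a section over a finite flat cover. -/
theorem exists_finite_flat [Flat g] [LocallyOfFinitePresentation g] [Surjective g] (s : S) :
    ∃ (S' V : Scheme.{u}) (e : S' ⟶ S) (π : V ⟶ S') (r : V ⟶ U), Etale e ∧ s ∈ Set.range e ∧
      Surjective π ∧ IsFinite π ∧ Flat π ∧ LocallyOfFinitePresentation π ∧ r ≫ g = π ≫ e := by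
  obtain ⟨T, e, a, t, ha, _, _, _, _, ht⟩ := exists_slice g s
  obtain ⟨W, w, u, hu, hsplit⟩ := Groth.Flatmor4.exists_split e s (ι := PUnit.{1}) (fun _ => t)
    (fun _ => ht) (fun _ => e.quasiFiniteAt t)
  obtain ⟨V, v, hvV, hfin, -, hvu, -⟩ := hsplit PUnit.unit
  have := hu.etale
  let π₀ := V.ι ≫ pullback.snd e w
  have : Flat π₀ := inferInstance
  let O : W.Opens := ⟨Set.range π₀, π₀.isOpenMap.isOpen_range⟩
  refine ⟨O, π₀ ⁻¹ᵁ O, O.ι ≫ w, π₀ ∣_ O, (π₀ ⁻¹ᵁ O).ι ≫ V.ι ≫ pullback.fst e w ≫ a,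
    inferInstance, ⟨⟨u, ⟨⟨v, hvV⟩, ?_⟩⟩, hu.base_eq⟩, ⟨?_⟩, inferInstance, inferInstance,
    inferInstance, ?_⟩
  · exact hvu
  · rintro ⟨y, z, rfl⟩
    exact ⟨⟨z, z, rfl⟩, Subtype.ext (by rw [morphismRestrict_base]; rfl)⟩
  · simp only [Category.assoc, ha]
    rw [morphismRestrict_ι_assoc, pullback.condition]
    rfl

theorem lifts_of_lifts_pullback {Y₀ Y : Scheme.{u}} (π₀ : Y₀ ⟶ S) (π₁ : Y ⟶ Y₀) (y : Y)
    (h : Lifts (pullback.snd g π₀) π₁ y) : Lifts g (π₁ ≫ π₀) y := by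
  obtain ⟨V, l, hy, hl⟩ := h
  refine ⟨V, l ≫ pullback.fst g π₀, hy, ?_⟩
  rw [Category.assoc, pullback.condition, reassoc_of% hl]

/-- Fppf covers of qcqs schemes are dominated by finite surjective morphisms. -/
theorem exists_dominating_fppf [Flat g] [LocallyOfFinitePresentation g] [Surjective g]
    [CompactSpace S] [QuasiSeparatedSpace S] :
    ∃ (Y : Scheme.{u}) (π : Y ⟶ S), Surjective π ∧ IsFinite π ∧ LocallyOfFinitePresentation π ∧
      ∀ y, Lifts g π y := by
  choose S' V e π r he hs hπs hπf hπfl hπfp hr using exists_finite_flat g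
  let E := ∐ S'
  let ε : E ⟶ S := Sigma.desc e
  have : Etale ε := IsZariskiLocalAtSource.sigmaDesc (P := @Etale) he
  have : Surjective ε := ⟨fun s => by
    obtain ⟨x, hx⟩ := hs s
    exact ⟨Sigma.ι S' s x, by rw [← Scheme.Hom.comp_apply, Sigma.ι_desc, hx]⟩⟩
  obtain ⟨Y₀, π₀, h1, h2, h3, h4⟩ := EtaleDominate.exists_dominating ε
  have : CompactSpace Y₀ := QuasiCompact.compactSpace_of_compactSpace π₀
  have : QuasiSeparatedSpace Y₀ := quasiSeparatedSpace_of_quasiSeparated π₀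
  obtain ⟨Y, π₁, k1, k2, k3, k4⟩ :=
    EtaleDominate.exists_dominating_of_local (pullback.snd g π₀) fun y => by
      obtain ⟨N, l, hyN, hl⟩ := h4 y
      obtain ⟨s, x, hx⟩ := Scheme.Cover.exists_eq (sigmaOpenCover.{u} S') (l ⟨y, hyN⟩)
      let N' : Y₀.Opens := N.ι ''ᵁ (l ⁻¹ᵁ (Sigma.ι S' s).opensRange)
      have hyN' : y ∈ N' := ⟨⟨y, hyN⟩, ⟨x, hx⟩, rfl⟩
      obtain ⟨_, ⟨O : Y₀.Opens, hO, rfl⟩, hyO, hON'⟩ := Y₀.isBasis_affineOpens.exists_subset_of_mem_open hyN' N'.2
      have hle : O ≤ N := fun z hz => (N.ι_image_le _) (hON' hz)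
      have hrange : Set.range (Y₀.homOfLE hle ≫ l) ⊆ Set.range (Sigma.ι S' s) := by
        rintro _ ⟨z, rfl⟩
        obtain ⟨z', hz', hzz⟩ := hON' z.2
        have : (Y₀.homOfLE hle) z = z' := N.ι.isOpenEmbedding.injective (by
          rw [← Scheme.Hom.comp_apply, Scheme.homOfLE_ι]; exact hzz.symm)
        rw [Scheme.Hom.comp_apply, this]
        exact hz'
      let k : (O : Scheme.{u}) ⟶ S' s := IsOpenImmersion.lift (Sigma.ι S' s) (Y₀.homOfLE hle ≫ l) hrange
      have hk : k ≫ e s = O.ι ≫ π₀ := by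
        rw [← Sigma.ι_desc (f := S') e s, ← Category.assoc, IsOpenImmersion.lift_fac, Category.assoc, hl,
          Scheme.homOfLE_ι_assoc]
      have := hπs s; have := hπf s; have := hπfp s
      refine ⟨O, hO, hyO, pullback (π s) k, pullback.snd (π s) k, inferInstance, inferInstance,
        inferInstance, fun z => lifts_of_hom _ _ z
          (pullback.lift (pullback.fst (π s) k ≫ r s) (pullback.snd (π s) k ≫ O.ι) ?_)
          (pullback.lift_snd _ _ _)⟩
      rw [Category.assoc, hr s, pullback.condition_assoc, hk, Category.assoc]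
  exact ⟨Y, π₁ ≫ π₀, inferInstance, inferInstance, inferInstance,
    fun y => lifts_of_lifts_pullback g π₀ π₁ y (k4 y)⟩

end Groth.LocImmersion.FppfDominate
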