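import Mathlib
import Groth.Agent.LocImm.FppfDominate

/-! Families of morphisms as one morphism, for refining fppf coverings. -/

universe w u

open CategoryTheory Limits AlgebraicGeometry TopologicalSpace

set_option backward.isDefEq.respectTransparency.types false

namespace Groth.LocImmersion.FppfRefine

open Groth.LocImmersion.EtaleDominate

/-- A morphism into a disjoint union lands in one member near every point. -/
theorem exists_component {Y : Scheme.{u}} {σ : Type u} (F : σ → Scheme.{u}) {V : Y.Opens}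
    (l : (V : Scheme.{u}) ⟶ ∐ F) {y : Y} (hy : y ∈ V) :
    ∃ (O : Y.Opens) (hle : O ≤ V) (j : σ) (k : (O : Scheme.{u}) ⟶ F j),
      IsAffineOpen O ∧ y ∈ O ∧ k ≫ Sigma.ι F j = Y.homOfLE hle ≫ l := by
  obtain ⟨s, x, hx⟩ := Scheme.Cover.exists_eq (sigmaOpenCover.{u} F) (l ⟨y, hy⟩)
  let N' : Y.Opens := V.ι ''ᵁ (l ⁻¹ᵁ (Sigma.ι F s).opensRange)
  have hyN' : y ∈ N' := ⟨⟨y, hy⟩, ⟨x, hx⟩, rfl⟩
  obtain ⟨_, ⟨O : Y.Opens, hO, rfl⟩, hyO, hON'⟩ :=
    Y.isBasis_affineOpens.exists_subset_of_mem_open hyN' N'.2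
  have hle : O ≤ V := fun z hz => (V.ι_image_le _) (hON' hz)
  have hrange : Set.range (Y.homOfLE hle ≫ l) ⊆ Set.range (Sigma.ι F s) := by
    rintro _ ⟨z, rfl⟩
    obtain ⟨z', hz', hzz⟩ := hON' z.2
    have : (Y.homOfLE hle) z = z' := V.ι.isOpenEmbedding.injective (by
      rw [← Scheme.Hom.comp_apply, Scheme.homOfLE_ι]; exact hzz.symm)
    rw [Scheme.Hom.comp_apply, this]
    exact hz'
  exact ⟨O, hle, s, IsOpenImmersion.lift (Sigma.ι F s) (Y.homOfLE hle ≫ l) hrange, hO, hyO,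
    IsOpenImmersion.lift_fac _ _ _⟩

variable {T : Scheme.{u}} (E : PreZeroHypercover.{w} T)

/-- Combine an fppf covering family into one fppf morphism, locally lifting to the members. -/
theorem exists_single (hflat : ∀ i, Flat (E.f i)) (hfp : ∀ i, LocallyOfFinitePresentation (E.f i))
    (hsurj : ∀ t : T, ∃ (i : E.I₀) (x : E.X i), E.f i x = t) :
    ∃ (U : Scheme.{u}) (g : U ⟶ T), Flat g ∧ LocallyOfFinitePresentation g ∧ Surjective g ∧
      ∀ (Y : Scheme.{u}) (π : Y ⟶ T) (y : Y), Lifts g π y →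
        ∃ (O : Y.Opens) (i : E.I₀) (h : (O : Scheme.{u}) ⟶ E.X i),
          IsAffineOpen O ∧ y ∈ O ∧ h ≫ E.f i = O.ι ≫ π := by
  choose i x hx using hsurj
  let g : (∐ fun t : T => E.X (i t)) ⟶ T := Sigma.desc fun t => E.f (i t)
  refine ⟨_, g, IsZariskiLocalAtSource.sigmaDesc (P := @Flat) fun t => hflat (i t),
    IsZariskiLocalAtSource.sigmaDesc (P := @LocallyOfFinitePresentation) fun t => hfp (i t),
    ⟨fun t => ⟨Sigma.ι (fun t : T => E.X (i t)) t (x t), ?_⟩⟩, ?_⟩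
  · rw [← Scheme.Hom.comp_apply, Sigma.ι_desc]
    exact hx t
  · rintro Y π y ⟨V, l, hy, hl⟩
    obtain ⟨O, hle, t, k, hO, hyO, hk⟩ := exists_component _ l hy
    refine ⟨O, i t, k, hO, hyO, ?_⟩
    rw [← Sigma.ι_desc (f := fun t : T => E.X (i t)) (fun t => E.f (i t)) t, ← Category.assoc, hk,
      Category.assoc, hl, Scheme.homOfLE_ι_assoc]

omit E in
/-- Cut a finite flat cover down to a single member of a disjoint union. -/
theorem exists_part {V S' : Scheme.{u}} (π : V ⟶ S') [IsFinite π] [Flat π]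
    [LocallyOfFinitePresentation π] {σ : Type u} (F : σ → Scheme.{u}) (r : V ⟶ ∐ F) (v : V) :
    ∃ (O : S'.Opens) (W : Scheme.{u}) (ρ : W ⟶ (O : Scheme.{u})) (a : W ⟶ V) (j : σ) (k : W ⟶ F j),
      π v ∈ O ∧ IsFinite ρ ∧ Flat ρ ∧ LocallyOfFinitePresentation ρ ∧ Surjective ρ ∧
        a ≫ π = ρ ≫ O.ι ∧ k ≫ Sigma.ι F j = a ≫ r := by
  obtain ⟨j, x, hx⟩ := Scheme.Cover.exists_eq (sigmaOpenCover.{u} F) (r v)
  let W : V.Opens := r ⁻¹ᵁ (Sigma.ι F j).opensRange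
  have hclosed : IsClosed (Set.range (Sigma.ι F j)) := by
    rw [← isOpen_compl_iff]
    have : (Set.range (Sigma.ι F j))ᶜ = ⋃ j' ∈ ({j}ᶜ : Set σ), Set.range (Sigma.ι F j') := by
      ext z
      obtain ⟨j', x', hx'⟩ := Scheme.Cover.exists_eq (sigmaOpenCover.{u} F) z
      subst hx'
      simp only [Set.mem_compl_iff, Set.mem_range, Set.mem_iUnion]
      constructor
      · intro h
        refine ⟨j', fun hj => h ?_, x', rfl⟩
        subst hj
        exact ⟨x', rfl⟩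
      · rintro ⟨j'', hj'', x'', hx''⟩ ⟨x₀, hx₀⟩
        exact (Set.disjoint_left.mp (Opens.coe_disjoint.mpr (disjoint_opensRange_sigmaι F j'' j hj''))) ⟨x'', rfl⟩
          ⟨x₀, hx₀.trans hx''.symm⟩
    rw [this]
    exact isOpen_biUnion fun j' _ => (Sigma.ι F j').isOpenEmbedding.isOpen_range
  have : IsClosedImmersion W.ι := by
    refine IsClosedImmersion.of_isPreimmersion _ ?_
    rw [Scheme.Opens.range_ι]
    exact hclosed.preimage r.continuous
  let π₀ := W.ι ≫ π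
  let O : S'.Opens := ⟨Set.range π₀, π₀.isOpenMap.isOpen_range⟩
  have hr : Set.range ((π₀ ⁻¹ᵁ O).ι ≫ W.ι ≫ r) ⊆ Set.range (Sigma.ι F j) := by
    rintro _ ⟨z, rfl⟩
    exact z.1.2
  refine ⟨O, π₀ ⁻¹ᵁ O, π₀ ∣_ O, (π₀ ⁻¹ᵁ O).ι ≫ W.ι, j,
    IsOpenImmersion.lift (Sigma.ι F j) ((π₀ ⁻¹ᵁ O).ι ≫ W.ι ≫ r) hr,
    ⟨⟨v, ⟨x, hx⟩⟩, rfl⟩, inferInstance, inferInstance, inferInstance, ⟨?_⟩, ?_, ?_⟩
  · rintro ⟨y, z, rfl⟩
    exact ⟨⟨z, z, rfl⟩, Subtype.ext (by rw [morphismRestrict_base]; rfl)⟩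
  · rw [morphismRestrict_ι, Category.assoc]
  · rw [IsOpenImmersion.lift_fac, Category.assoc]

omit E in
/-- The étale neighbourhood in `exists_finite_flat` can be taken with trivial residue extension. -/
theorem exists_finite_flat_nbhd {U S : Scheme.{u}} (g : U ⟶ S) [Flat g]
    [LocallyOfFinitePresentation g] [Surjective g] (s : S) :
    ∃ (S' V : Scheme.{u}) (e : S' ⟶ S) (π : V ⟶ S') (r : V ⟶ U) (v : V), Etale e ∧
      e (π v) = s ∧ IsIso (e.residueFieldMap (π v)) ∧ IsFinite π ∧ Flat π ∧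
      LocallyOfFinitePresentation π ∧ r ≫ g = π ≫ e := by
  obtain ⟨T, e, a, t, ha, _, _, _, _, ht⟩ := FppfDominate.exists_slice g s
  obtain ⟨W, w, u, hu, hsplit⟩ := Groth.Flatmor4.exists_split e s (ι := PUnit.{1}) (fun _ => t)
    (fun _ => ht) (fun _ => e.quasiFiniteAt t)
  obtain ⟨V, v, hvV, hfin, -, hvu, -⟩ := hsplit PUnit.unit
  refine ⟨W, V, w, V.ι ≫ pullback.snd e w, V.ι ≫ pullback.fst e w ≫ a, ⟨v, hvV⟩, hu.etale, ?_, ?_,
    hfin, inferInstance, inferInstance, ?_⟩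
  · exact (congrArg w hvu).trans hu.base_eq
  · rw [show (V.ι ≫ pullback.snd e w) ⟨v, hvV⟩ = u from hvu]
    exact (ConcreteCategory.isIso_iff_bijective _).mpr hu.residue_bijective
  · simp only [Category.assoc, ha]
    rw [pullback.condition]

end Groth.LocImmersion.FppfRefine
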