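import Mathlib
import Groth.Agent.Variety2.Normal

/-! Zariski's main theorem for birational morphisms to normal integral schemes. -/

universe u

open CategoryTheory Limits AlgebraicGeometry TopologicalSpace

set_option backward.isDefEq.respectTransparency.types false

namespace Groth.LocImmersion.BirationalNormal

variable {X Y : Scheme.{u}}

/-- A birational integral morphism to a normal integral scheme is an isomorphism. -/
theorem isIso_of_isIntegralHom [IsIntegral X] [IsIntegral Y]
    (hN : ∀ y : Y, IsIntegrallyClosed (Y.presheaf.stalk y)) (f : X ⟶ Y) [IsIntegralHom f]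
    (hgen : f (genericPoint X) = genericPoint Y) (hbir : IsIso (f.stalkMap (genericPoint X))) :
    IsIso f := by
  have hsp : IsIso (Y.presheaf.stalkSpecializes (specializes_of_eq hgen.symm)) :=
    (TopCat.Presheaf.stalkCongr Y.presheaf (Inseparable.of_eq hgen)).isIso_hom
  have hb : Function.Bijective
      (inv (f.stalkMap (genericPoint X)) ≫ Y.presheaf.stalkSpecializes (specializes_of_eq hgen.symm) :
        X.presheaf.stalk (genericPoint X) ⟶ Y.functionField) :=
    ConcreteCategory.bijective_of_isIso _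
  have key : ∀ V : Y.Opens, IsAffineOpen V → IsIso (f ∣_ V) := by
    intro V hV
    rcases (V : Set Y).eq_empty_or_nonempty with he | ⟨y, hy⟩
    · have : IsEmpty V := ⟨fun v => (Set.eq_empty_iff_forall_notMem.mp he) v.1 v.2⟩
      have : IsEmpty (f ⁻¹ᵁ V : X.Opens) :=
        ⟨fun v => (Set.eq_empty_iff_forall_notMem.mp he) _ v.2⟩
      infer_instance
    have hηV : genericPoint Y ∈ V := ((genericPoint_spec Y).mem_open_set_iff V.2).2 ⟨y, trivial, hy⟩
    have hξV : f (genericPoint X) ∈ V := hgen ▸ hηV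
    have : Nonempty V := ⟨⟨y, hy⟩⟩
    have : Nonempty (f ⁻¹ᵁ V) := ⟨⟨genericPoint X, hξV⟩⟩
    let ψ : Γ(X, f ⁻¹ᵁ V) ⟶ Y.functionField :=
      X.presheaf.germ (f ⁻¹ᵁ V) (genericPoint X) hξV ≫ inv (f.stalkMap (genericPoint X)) ≫
        Y.presheaf.stalkSpecializes (specializes_of_eq hgen.symm)
    have hψA : f.app V ≫ ψ = Y.germToFunctionField V := by
      rw [← Scheme.Hom.germ_stalkMap_assoc f V (genericPoint X) hξV, IsIso.hom_inv_id_assoc,
        TopCat.Presheaf.germ_stalkSpecializes]
    have hψinj : Function.Injective ψ := fun a b h =>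
      germ_injective_of_isIntegral X (genericPoint X) hξV (hb.1 h)
    have hbij : Function.Bijective (f.app V) := by
      constructor
      · intro a b h
        exact Y.germToFunctionField_injective V (by rw [← hψA]; exact congrArg ψ h)
      · intro c
        have hint : IsIntegral Γ(Y, V) (ψ c) := by
          obtain ⟨P, hP, hPc⟩ := f.isIntegral_app V hV c
          refine ⟨P, hP, ?_⟩
          have hP2 := Polynomial.hom_eval₂ P (f.app V).hom ψ.hom c
          rw [hPc, map_zero, ← CommRingCat.hom_comp, hψA] at hP2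
          exact hP2.symm
        obtain ⟨a, ha⟩ := Groth.Variety2.exists_section_of_forall_stalk V (ψ c) fun x hx => by
          let := (Y.presheaf.germ V x hx).hom.toAlgebra
          have : IsScalarTower Γ(Y, V) (Y.presheaf.stalk x) Y.functionField :=
            functionField_isScalarTower Y V ⟨x, hx⟩
          have := hN x
          exact IsIntegrallyClosed.isIntegral_iff.1 (hint.tower_top (A := Y.presheaf.stalk x))
        exact ⟨a, hψinj (by rw [← CommRingCat.comp_apply, hψA]; exact ha)⟩
    have : IsAffine V := hV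
    have hW : IsAffineOpen (f ⁻¹ᵁ V) := hV.preimage f
    have : IsAffine (f ⁻¹ᵁ V) := hW
    refine (HasAffineProperty.iff_of_isAffine (P := MorphismProperty.isomorphisms Scheme)).mpr ⟨hW, ?_⟩
    have h2 : IsIso (f.app V) := (ConcreteCategory.isIso_iff_bijective _).mpr hbij
    exact ((MorphismProperty.isomorphisms CommRingCat).arrow_mk_iso_iff
      (arrowResLEAppIso f _ _ le_rfl)).mpr (by rwa [← Scheme.Hom.app_eq_appLE]) |> fun h => by
        rw [← Scheme.Hom.resLE_eq_morphismRestrict]; exact h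
  exact (IsZariskiLocalAtTarget.iff_of_iSup_eq_top (P := MorphismProperty.isomorphisms Scheme)
    (fun V : Y.affineOpens => (V : Y.Opens)) (iSup_affineOpens_eq_top Y)).mpr fun V => key _ V.2

theorem isIso_stalkMap_of_eq (π : X ⟶ Y) {p q : X} (h : p = q) (hp : IsIso (π.stalkMap p)) :
    IsIso (π.stalkMap q) := h ▸ hp

/-- Zariski's main theorem: separated quasi-finite birational morphisms of finite type to normal
integral schemes are open immersions. -/
theorem isOpenImmersion_of_isSeparated [IsIntegral X] [IsIntegral Y]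
    (hN : ∀ y : Y, IsIntegrallyClosed (Y.presheaf.stalk y)) (f : X ⟶ Y) [LocallyQuasiFinite f]
    [LocallyOfFiniteType f] [IsSeparated f] [QuasiCompact f]
    (hgen : f (genericPoint X) = genericPoint Y) (hbir : IsIso (f.stalkMap (genericPoint X))) :
    IsOpenImmersion f := by
  have hj : f.toNormalization (genericPoint X) = genericPoint f.normalization :=
    genericPoint_eq_of_isOpenImmersion f.toNormalization
  have hg : f.fromNormalization (genericPoint f.normalization) = genericPoint Y := by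
    rw [← hj, ← Scheme.Hom.comp_apply, f.toNormalization_fromNormalization, hgen]
  have hb : IsIso (f.fromNormalization.stalkMap (f.toNormalization (genericPoint X))) := by
    have h1 : IsIso ((f.toNormalization ≫ f.fromNormalization).stalkMap (genericPoint X)) := by
      rwa [Scheme.Hom.stalkMap_congr_hom _ _ f.toNormalization_fromNormalization,
        isIso_comp_left_iff]
    rw [Scheme.Hom.stalkMap_comp] at h1
    exact @IsIso.of_isIso_comp_right _ _ _ _ _ _ (f.toNormalization.stalkMap (genericPoint X))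
      inferInstance h1
  have : IsIso f.fromNormalization :=
    isIso_of_isIntegralHom hN f.fromNormalization hg (isIso_stalkMap_of_eq _ hj hb)
  rw [← f.toNormalization_fromNormalization]
  infer_instance

/-- Restriction of the birational hypothesis to a nonempty open of source and target. -/
theorem isOpenImmersion_resLE [IsIntegral X] [IsIntegral Y]
    (hN : ∀ y : Y, IsIntegrallyClosed (Y.presheaf.stalk y)) (f : X ⟶ Y) [LocallyQuasiFinite f]
    [LocallyOfFiniteType f] (hgen : f (genericPoint X) = genericPoint Y)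
    (hbir : IsIso (f.stalkMap (genericPoint X))) {U : X.Opens} {V : Y.Opens} (e : U ≤ f ⁻¹ᵁ V)
    (hU : (U : Set X).Nonempty) [IsSeparated (f.resLE V U e)] [QuasiCompact (f.resLE V U e)] :
    IsOpenImmersion (U.ι ≫ f) := by
  have : Nonempty U := hU.to_subtype
  have : Nonempty V := ⟨⟨f hU.some, e hU.some_mem⟩⟩
  have : IsIntegral U := isIntegral_of_isOpenImmersion U.ι
  have : IsIntegral V := isIntegral_of_isOpenImmersion V.ι
  let g := f.resLE V U e
  have hN' : ∀ y : V, IsIntegrallyClosed (V.toScheme.presheaf.stalk y) := fun y => by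
    have := hN y.1
    exact IsIntegrallyClosed.of_equiv (asIso (V.ι.stalkMap y)).commRingCatIsoToRingEquiv
  have hfac : g ≫ V.ι = U.ι ≫ f := f.resLE_comp_ι e
  have hξ : U.ι (genericPoint U) = genericPoint X := genericPoint_eq_of_isOpenImmersion U.ι
  have hg : g (genericPoint U) = genericPoint V := by
    apply V.ι.isOpenEmbedding.injective
    rw [genericPoint_eq_of_isOpenImmersion V.ι, ← Scheme.Hom.comp_apply, hfac,
      Scheme.Hom.comp_apply, hξ, hgen]
  have hb : IsIso (g.stalkMap (genericPoint U)) := by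
    have h1 : IsIso ((U.ι ≫ f).stalkMap (genericPoint U)) := by
      rw [Scheme.Hom.stalkMap_comp]
      exact IsIso.comp_isIso' (isIso_stalkMap_of_eq f hξ.symm hbir) inferInstance
    have h2 : IsIso ((g ≫ V.ι).stalkMap (genericPoint U)) := by
      rwa [Scheme.Hom.stalkMap_congr_hom _ _ hfac, isIso_comp_left_iff]
    rw [Scheme.Hom.stalkMap_comp] at h2
    exact @IsIso.of_isIso_comp_left _ _ _ _ _ (V.ι.stalkMap (g (genericPoint U))) _ inferInstance h2
  have := isOpenImmersion_of_isSeparated hN' g hg hb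
  rw [← hfac]
  infer_instance

theorem isLocalIso [IsIntegral X] [IsIntegral Y]
    (hN : ∀ y : Y, IsIntegrallyClosed (Y.presheaf.stalk y)) (f : X ⟶ Y) [LocallyQuasiFinite f]
    [LocallyOfFiniteType f] (hgen : f (genericPoint X) = genericPoint Y)
    (hbir : IsIso (f.stalkMap (genericPoint X))) : IsLocalIso f := by
  refine ⟨fun x => ?_⟩
  obtain ⟨_, ⟨V : Y.Opens, hV, rfl⟩, hxV, -⟩ :=
    Y.isBasis_affineOpens.exists_subset_of_mem_open (Set.mem_univ (f x)) isOpen_univ
  obtain ⟨_, ⟨U : X.Opens, hU, rfl⟩, hxU, hUV⟩ :=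
    X.isBasis_affineOpens.exists_subset_of_mem_open hxV (f ⁻¹ᵁ V).2
  have : IsAffine U := hU
  have : IsAffine V := hV
  have : IsAffineHom (f.resLE V U hUV) := isAffineHom_of_isAffine _
  exact ⟨U, hxU, isOpenImmersion_resLE hN f hgen hbir hUV ⟨x, hxU⟩⟩

theorem injective [IsIntegral X] [IsIntegral Y]
    (hN : ∀ y : Y, IsIntegrallyClosed (Y.presheaf.stalk y)) (f : X ⟶ Y) [LocallyQuasiFinite f]
    [LocallyOfFiniteType f] [IsSeparated f] (hgen : f (genericPoint X) = genericPoint Y)
    (hbir : IsIso (f.stalkMap (genericPoint X))) : Function.Injective f := by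
  intro x₁ x₂ h
  obtain ⟨_, ⟨V : Y.Opens, hV, rfl⟩, hxV, -⟩ :=
    Y.isBasis_affineOpens.exists_subset_of_mem_open (Set.mem_univ (f x₁)) isOpen_univ
  obtain ⟨_, ⟨U₁ : X.Opens, hU₁, rfl⟩, hx₁, hUV₁⟩ :=
    X.isBasis_affineOpens.exists_subset_of_mem_open hxV (f ⁻¹ᵁ V).2
  obtain ⟨_, ⟨U₂ : X.Opens, hU₂, rfl⟩, hx₂, hUV₂⟩ :=
    X.isBasis_affineOpens.exists_subset_of_mem_open (show x₂ ∈ f ⁻¹ᵁ V from show f x₂ ∈ V from h ▸ hxV)
      (f ⁻¹ᵁ V).2
  have hle : U₁ ⊔ U₂ ≤ f ⁻¹ᵁ V := sup_le hUV₁ hUV₂
  have : IsAffine V := hV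
  have : CompactSpace (U₁ ⊔ U₂ : X.Opens) :=
    isCompact_iff_compactSpace.mp (hU₁.isCompact.union hU₂.isCompact)
  have : QuasiCompact (f.resLE V (U₁ ⊔ U₂) hle) :=
    (HasAffineProperty.iff_of_isAffine (P := @QuasiCompact)).mpr inferInstance
  have : IsSeparated (f.resLE V (U₁ ⊔ U₂) hle) := by
    have : IsSeparated (f.resLE V (U₁ ⊔ U₂) hle ≫ V.ι) := by rw [f.resLE_comp_ι]; infer_instance
    exact IsSeparated.of_comp _ V.ι
  have := isOpenImmersion_resLE hN f hgen hbir hle ⟨x₁, Or.inl hx₁⟩
  exact congrArg Subtype.val ((U₁ ⊔ U₂).ι ≫ f |>.isOpenEmbedding.injective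
    (a₁ := ⟨x₁, Or.inl hx₁⟩) (a₂ := ⟨x₂, Or.inr hx₂⟩) h)

theorem isOpenImmersion_of_isLocalIso_injective (f : X ⟶ Y) [hf : IsLocalIso f]
    (hinj : Function.Injective f) : IsOpenImmersion f := by
  choose U hxU hU using hf.exists_isOpenImmersion
  refine IsOpenImmersion.iff_isIso_stalkMap.mpr ⟨.of_continuous_injective_isOpenMap f.continuous hinj ?_, fun x => ?_⟩
  · intro O hO
    rw [show O = ⋃ x : X, O ∩ U x from by
      ext z; simp only [Set.mem_iUnion, Set.mem_inter_iff, exists_and_left]
      exact ⟨fun h => ⟨h, z, hxU z⟩, fun h => h.1⟩, Set.image_iUnion]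
    refine isOpen_iUnion fun x => ?_
    have := hU x
    convert ((U x).ι ≫ f).isOpenEmbedding.isOpenMap _ (hO.preimage (U x).ι.continuous) using 1
    ext y
    exact ⟨fun ⟨z, hz, e⟩ => ⟨⟨z, hz.2⟩, hz.1, e⟩, fun ⟨z, hz, e⟩ => ⟨z.1, ⟨hz, z.2⟩, e⟩⟩
  · have := hU x
    have h1 : IsIso (((U x).ι ≫ f).stalkMap ⟨x, hxU x⟩) := inferInstance
    rw [Scheme.Hom.stalkMap_comp] at h1
    exact @IsIso.of_isIso_comp_right _ _ _ _ _ _ ((U x).ι.stalkMap ⟨x, hxU x⟩) ((IsOpenImmersion.iff_isIso_stalkMap.mp (inferInstance : IsOpenImmersion (U x).ι)).2 _) h1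

end Groth.LocImmersion.BirationalNormal
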