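import Mathlib

/-!
Gluing two schemes along a common open subscheme; criterion for separatedness.
-/

universe u

open AlgebraicGeometry CategoryTheory Limits TopologicalSpace

namespace Groth.LocImmersion

variable {W Y₁ Y₂ X S : Scheme.{u}} (g₁ : W ⟶ Y₁) (g₂ : W ⟶ Y₂) [IsOpenImmersion g₁] [IsOpenImmersion g₂]

instance span_map_isOpenImmersion : ∀ {i j : WalkingSpan} (f : i ⟶ j), IsOpenImmersion ((span g₁ g₂).map f) := by
  intro i j f
  match i, j, f with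
  | _, _, .id X => 
    rw [show (WidePushoutShape.Hom.id X : X ⟶ X) = 𝟙 X from rfl, CategoryTheory.Functor.map_id]
    infer_instance
  | _, _, .init WalkingPair.left => exact ‹IsOpenImmersion g₁›
  | _, _, .init WalkingPair.right => exact ‹IsOpenImmersion g₂›

instance span_hasColimit : HasPushout g₁ g₂ := inferInstanceAs (HasColimit (span g₁ g₂))

instance inl_isOpenImmersion : IsOpenImmersion (pushout.inl g₁ g₂) :=
  inferInstanceAs (IsOpenImmersion (colimit.ι (span g₁ g₂) WalkingSpan.left))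

instance inr_isOpenImmersion : IsOpenImmersion (pushout.inr g₁ g₂) :=
  inferInstanceAs (IsOpenImmersion (colimit.ι (span g₁ g₂) WalkingSpan.right))

theorem mem_range_inl_or_inr (y : ↥(pushout g₁ g₂)) :
    y ∈ Set.range (pushout.inl g₁ g₂) ∨ y ∈ Set.range (pushout.inr g₁ g₂) := by
  obtain ⟨i, yi, rfl⟩ := Scheme.IsLocallyDirected.ι_jointly_surjective (span g₁ g₂) y
  rcases i with _ | _ | _
  · left
    refine ⟨g₁ yi, ?_⟩
    have h : g₁ ≫ pushout.inl g₁ g₂ = colimit.ι (span g₁ g₂) none :=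
      colimit.w (span g₁ g₂) WalkingSpan.Hom.fst
    rw [← Scheme.Hom.comp_apply, h]
    rfl
  · exact Or.inl ⟨yi, rfl⟩
  · exact Or.inr ⟨yi, rfl⟩

theorem exists_of_inl_eq_inr {a : Y₁} {b : Y₂} (h : pushout.inl g₁ g₂ a = pushout.inr g₁ g₂ b) :
    ∃ w, g₁ w = a ∧ g₂ w = b := by
  obtain ⟨k, fi, fj, x, ha, hb⟩ := (Scheme.IsLocallyDirected.ι_eq_ι_iff (F := span g₁ g₂)
    (i := WalkingSpan.left) (j := WalkingSpan.right)).1 h
  match k, fi, fj with
  | _, .init _, .init _ => exact ⟨x, ha, hb⟩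

/-- A cover by two open immersions. -/
noncomputable def coverTwo {U₁ U₂ : Scheme.{u}} (u₁ : U₁ ⟶ X) (u₂ : U₂ ⟶ X) [IsOpenImmersion u₁]
    [IsOpenImmersion u₂] (h : ∀ x, x ∈ Set.range u₁ ∨ x ∈ Set.range u₂) : X.OpenCover :=
  Scheme.Cover.mkOfCovers (ULift.{u} Bool) (fun b => if b.down then U₁ else U₂)
    (fun b => match b with | ⟨true⟩ => u₁ | ⟨false⟩ => u₂)
    (fun x => by
      rcases h x with ⟨y, hy⟩ | ⟨y, hy⟩
      · exact ⟨⟨true⟩, y, hy⟩
      · exact ⟨⟨false⟩, y, hy⟩)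
    (fun b => by rcases b with ⟨_ | _⟩ <;> dsimp <;> infer_instance)

theorem exists_glue {U₁ U₂ Y : Scheme.{u}} (u₁ : U₁ ⟶ X) (u₂ : U₂ ⟶ X) [IsOpenImmersion u₁]
    [IsOpenImmersion u₂] (h : ∀ x, x ∈ Set.range u₁ ∨ x ∈ Set.range u₂) (a₁ : U₁ ⟶ Y) (a₂ : U₂ ⟶ Y)
    (hc : pullback.fst u₁ u₂ ≫ a₁ = pullback.snd u₁ u₂ ≫ a₂) :
    ∃ a : X ⟶ Y, u₁ ≫ a = a₁ ∧ u₂ ≫ a = a₂ := by
  let 𝒰 := coverTwo u₁ u₂ h
  let g : ∀ b, 𝒰.X b ⟶ Y := fun b => match b with | ⟨true⟩ => a₁ | ⟨false⟩ => a₂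
  have hg : ∀ b c, pullback.fst (𝒰.f b) (𝒰.f c) ≫ g b = pullback.snd _ _ ≫ g c := by
    rintro ⟨_ | _⟩ ⟨_ | _⟩
    · show pullback.fst u₂ u₂ ≫ a₂ = pullback.snd u₂ u₂ ≫ a₂
      rw [fst_eq_snd_of_mono_eq]
    · show pullback.fst u₂ u₁ ≫ a₂ = pullback.snd u₂ u₁ ≫ a₁
      rw [← cancel_epi (pullbackSymmetry u₁ u₂).hom, pullbackSymmetry_hom_comp_fst_assoc,
        pullbackSymmetry_hom_comp_snd_assoc]
      exact hc.symm
    · exact hc
    · show pullback.fst u₁ u₁ ≫ a₁ = pullback.snd u₁ u₁ ≫ a₁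
      rw [fst_eq_snd_of_mono_eq]
  exact ⟨𝒰.glueMorphisms g hg, Scheme.Cover.ι_glueMorphisms 𝒰 g hg ⟨true⟩,
    Scheme.Cover.ι_glueMorphisms 𝒰 g hg ⟨false⟩⟩

theorem diagonal_mem_step {Y U V W' : Scheme.{u}} (p : Y ⟶ S) (i : U ⟶ Y) (j : V ⟶ Y)
    [IsOpenImmersion i] [IsOpenImmersion j] (w₁ : W' ⟶ U) (w₂ : W' ⟶ V) (hw : w₁ ≫ i = w₂ ≫ j)
    (hsurj : ∀ a b, i a = j b → ∃ w, w₁ w = a ∧ w₂ w = b)
    {q₁ : U ⟶ S} {q₂ : V ⟶ S} (hi : i ≫ p = q₁) (hj : j ≫ p = q₂) (hq : w₁ ≫ q₁ = w₂ ≫ q₂)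
    (hc : IsClosed (Set.range (pullback.lift w₁ w₂ hq : W' ⟶ pullback q₁ q₂)))
    {z : ↥(pullback p p)} (hz : z ∈ closure (Set.range (pullback.diagonal p)))
    (h1 : pullback.fst p p z ∈ Set.range i) (h2 : pullback.snd p p z ∈ Set.range j) :
    z ∈ Set.range (pullback.diagonal p) := by
  subst hi hj
  let m := pullback.map (i ≫ p) (j ≫ p) p p i j (𝟙 S) (by simp) (by simp)
  set L : W' ⟶ pullback (i ≫ p) (j ≫ p) := pullback.lift w₁ w₂ (by rw [← Category.assoc, hw, Category.assoc])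
  have hLm : L ≫ m = (w₁ ≫ i) ≫ pullback.diagonal p := by
    have m1 : m ≫ pullback.fst p p = pullback.fst (i ≫ p) (j ≫ p) ≫ i := pullback.lift_fst _ _ _
    have m2 : m ≫ pullback.snd p p = pullback.snd (i ≫ p) (j ≫ p) ≫ j := pullback.lift_snd _ _ _
    have l1 : L ≫ pullback.fst (i ≫ p) (j ≫ p) = w₁ := pullback.lift_fst _ _ _
    have l2 : L ≫ pullback.snd (i ≫ p) (j ≫ p) = w₂ := pullback.lift_snd _ _ _
    apply pullback.hom_ext
    · rw [Category.assoc L m, m1, reassoc_of% l1, Category.assoc (w₁ ≫ i), pullback.diagonal_fst, Category.comp_id]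
    · rw [Category.assoc L m, m2, reassoc_of% l2, Category.assoc (w₁ ≫ i), pullback.diagonal_snd, Category.comp_id, hw]
  have hr : z ∈ Set.range m := by
    rw [Scheme.Pullback.range_map]
    exact ⟨h1, h2⟩
  obtain ⟨z', rfl⟩ := hr
  have hpre : m ⁻¹' Set.range (pullback.diagonal p) ⊆ Set.range L := by
    rintro q ⟨y, hy⟩
    have e1 : i (pullback.fst (i ≫ p) (j ≫ p) q) = y := by
      have e := congrArg (pullback.fst p p) hy
      rw [← Scheme.Hom.comp_apply, ← Scheme.Hom.comp_apply, pullback.diagonal_fst,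
        pullback.lift_fst, Scheme.Hom.comp_apply] at e
      exact e.symm
    have e2 : j (pullback.snd (i ≫ p) (j ≫ p) q) = y := by
      have e := congrArg (pullback.snd p p) hy
      rw [← Scheme.Hom.comp_apply, ← Scheme.Hom.comp_apply, pullback.diagonal_snd,
        pullback.lift_snd, Scheme.Hom.comp_apply] at e
      exact e.symm
    obtain ⟨w, hw1, hw2⟩ := hsurj _ _ (e1.trans e2.symm)
    refine ⟨w, m.isOpenEmbedding.injective ?_⟩
    rw [← Scheme.Hom.comp_apply, hLm, Scheme.Hom.comp_apply, Scheme.Hom.comp_apply, hw1, e1, hy]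
  have h3 : z' ∈ closure (m ⁻¹' Set.range (pullback.diagonal p)) := by
    rw [← m.isOpenEmbedding.isOpenMap.preimage_closure_eq_closure_preimage m.continuous]
    exact hz
  obtain ⟨w, rfl⟩ := closure_minimal hpre hc h3
  exact ⟨(w₁ ≫ i) w, by rw [← Scheme.Hom.comp_apply, ← hLm]; rfl⟩

theorem isSeparated_pushout (p₁ : Y₁ ⟶ S) (p₂ : Y₂ ⟶ S) (h : g₁ ≫ p₁ = g₂ ≫ p₂)
    [IsSeparated p₁] [IsSeparated p₂]
    (hc : IsClosed (Set.range (pullback.lift g₁ g₂ h : W ⟶ pullback p₁ p₂))) :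
    IsSeparated (pushout.desc p₁ p₂ h) := by
  set p := pushout.desc p₁ p₂ h
  set i := pushout.inl g₁ g₂
  set j := pushout.inr g₁ g₂
  have hi : i ≫ p = p₁ := pushout.inl_desc _ _ _
  have hj : j ≫ p = p₂ := pushout.inr_desc _ _ _
  have hw : g₁ ≫ i = g₂ ≫ j := pushout.condition
  refine ⟨IsClosedImmersion.of_isPreimmersion _ (isClosed_of_closure_subset fun z hz => ?_)⟩
  rcases mem_range_inl_or_inr g₁ g₂ (pullback.fst p p z) with h1 | h1 <;>
    rcases mem_range_inl_or_inr g₁ g₂ (pullback.snd p p z) with h2 | h2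
  · refine diagonal_mem_step p i i (𝟙 Y₁) (𝟙 Y₁) rfl
      (fun a b e => ⟨a, rfl, i.isOpenEmbedding.injective e⟩) hi hi rfl ?_ hz h1 h2
    exact (pullback.diagonal p₁).isClosedEmbedding.isClosed_range
  · exact diagonal_mem_step p i j g₁ g₂ hw (fun a b e => exists_of_inl_eq_inr g₁ g₂ e) hi hj h hc hz h1 h2
  · refine diagonal_mem_step p j i g₂ g₁ hw.symm
      (fun a b e => (exists_of_inl_eq_inr g₁ g₂ e.symm).imp fun w hw => hw.symm) hj hi h.symm ?_ hz h1 h2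
    have he : pullback.lift g₁ g₂ h ≫ (pullbackSymmetry p₁ p₂).hom = pullback.lift g₂ g₁ h.symm := by
      apply pullback.hom_ext
      · rw [Category.assoc, pullbackSymmetry_hom_comp_fst, pullback.lift_snd, pullback.lift_fst]
      · rw [Category.assoc, pullbackSymmetry_hom_comp_snd, pullback.lift_fst, pullback.lift_snd]
    rw [← he, Scheme.Hom.comp_base, TopCat.coe_comp, Set.range_comp]
    exact (pullbackSymmetry p₁ p₂).hom.homeomorph.isClosedMap _ hc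
  · refine diagonal_mem_step p j j (𝟙 Y₂) (𝟙 Y₂) rfl
      (fun a b e => ⟨a, rfl, j.isOpenEmbedding.injective e⟩) hj hj rfl ?_ hz h1 h2
    exact (pullback.diagonal p₂).isClosedEmbedding.isClosed_range

end Groth.LocImmersion
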