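import Groth.Agent.LocImm.TwoFactor
import Groth.Agent.LocImm.Glue

/-!
Global factorisation of separated essentially finite type morphisms (Nayak).
-/

universe u

open AlgebraicGeometry CategoryTheory Limits TopologicalSpace

namespace Groth.LocImmersion

variable {X Y S : Scheme.{u}}

/-- `f` factors as a localizing immersion followed by a separated morphism of finite type. -/
def HasFactor (f : X ⟶ S) : Prop :=
  ∃ (Y : Scheme.{u}) (k : X ⟶ Y) (p : Y ⟶ S), IsNoetherian Y ∧ LocImm.IsLocImmersion k ∧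
    IsSeparated p ∧ LocallyOfFiniteType p ∧ QuasiCompact p ∧ k ≫ p = f

theorem hasFactor_of_two [IsNoetherian X] [IsNoetherian S] (f : X ⟶ S) [IsSeparated f]
    {U₁ U₂ : Scheme.{u}} (u₁ : U₁ ⟶ X) (u₂ : U₂ ⟶ X) [IsOpenImmersion u₁] [IsOpenImmersion u₂]
    (hcov : ∀ x, x ∈ Set.range u₁ ∨ x ∈ Set.range u₂)
    (h₁ : HasFactor (u₁ ≫ f)) (h₂ : HasFactor (u₂ ≫ f)) : HasFactor f := by
  obtain ⟨Y₁, k₁, p₁, hY₁, hk₁, hp₁, hft₁, -, e₁⟩ := h₁
  obtain ⟨Y₂, k₂, p₂, hY₂, hk₂, hp₂, hft₂, -, e₂⟩ := h₂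
  have : NoetherianSpace U₁ := u₁.isOpenEmbedding.isInducing.noetherianSpace
  have : NoetherianSpace U₂ := u₂.isOpenEmbedding.isInducing.noetherianSpace
  have : IsLocallyNoetherian U₁ := LocallyOfFiniteType.isLocallyNoetherian u₁
  have : IsLocallyNoetherian U₂ := LocallyOfFiniteType.isLocallyNoetherian u₂
  have : IsNoetherian U₁ := ⟨⟩
  have : IsNoetherian U₂ := ⟨⟩
  let j₁ := pullback.fst u₁ u₂
  let j₂ := pullback.snd u₁ u₂
  have : IsLocallyNoetherian (pullback u₁ u₂) := LocallyOfFiniteType.isLocallyNoetherian j₁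
  have : CompactSpace (pullback u₁ u₂ : Scheme.{u}) := by
    have : NoetherianSpace (pullback u₁ u₂ : Scheme.{u}) :=
      j₁.isOpenEmbedding.isInducing.noetherianSpace
    infer_instance
  have : IsNoetherian (pullback u₁ u₂) := ⟨⟩
  have hjk₁ : LocImm.IsLocImmersion (j₁ ≫ k₁) :=
    isLocImmersion_comp (isLocImmersion_of_isOpenImmersion _) hk₁
  have hjk₂ : LocImm.IsLocImmersion (j₂ ≫ k₂) :=
    isLocImmersion_comp (isLocImmersion_of_isOpenImmersion _) hk₂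
  have hj : j₁ ≫ u₁ = j₂ ≫ u₂ := pullback.condition
  obtain ⟨W, k, g₁, g₂, hk, hg₁, hg₂, hgp, hkg₁, hkg₂⟩ := exists_open_models (j₁ ≫ k₁) (j₂ ≫ k₂) p₁ p₂
    hjk₁ hjk₂ (by rw [Category.assoc, Category.assoc, e₁, e₂, reassoc_of% hj])
  have hkg₁' : ∀ v, g₁ (k v) = k₁ (j₁ v) := fun v => by
    rw [← Scheme.Hom.comp_apply, hkg₁, Scheme.Hom.comp_apply]
  have hkg₂' : ∀ v, g₂ (k v) = k₂ (j₂ v) := fun v => by
    rw [← Scheme.Hom.comp_apply, hkg₂, Scheme.Hom.comp_apply]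
  -- opens of the models cutting out the overlap
  obtain ⟨O₁, hO₁, hO₁'⟩ := (isEmbedding hk₁).isInducing.isOpen_iff.1 j₁.opensRange.2
  obtain ⟨O₂, hO₂, hO₂'⟩ := (isEmbedding hk₂).isInducing.isOpen_iff.1 j₂.opensRange.2
  have : NoetherianSpace W := g₁.isOpenEmbedding.isInducing.noetherianSpace
  -- components of `W` not meeting the overlap
  obtain ⟨G, hG, -, hgen⟩ := exists_finite_generic (isClosed_univ (X := W))
  let C : Set W := ⋃ η ∈ {η ∈ G | η ∉ Set.range k}, closure {η}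
  have hC : IsClosed C := (hG.subset fun _ h => h.1).isClosed_biUnion fun _ _ => isClosed_closure
  have hkC : ∀ v, k v ∉ C := by
    intro v hv
    obtain ⟨η, hη, hηv⟩ := Set.mem_iUnion₂.1 hv
    exact hη.2 (stableUnderGeneralization_range hk.1 (specializes_iff_mem_closure.2 hηv) ⟨v, rfl⟩)
  let Ω : W.Opens := g₁ ⁻¹ᵁ ⟨O₁, hO₁⟩ ⊓ g₂ ⁻¹ᵁ ⟨O₂, hO₂⟩ ⊓ ⟨Cᶜ, hC.isOpen_compl⟩
  have hkΩ : ∀ v, k v ∈ Ω := by
    refine fun v => ⟨⟨?_, ?_⟩, hkC v⟩
    · show g₁ (k v) ∈ O₁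
      rw [hkg₁']
      show j₁ v ∈ k₁ ⁻¹' O₁
      rw [hO₁']; exact ⟨v, rfl⟩
    · show g₂ (k v) ∈ O₂
      rw [hkg₂']
      show j₂ v ∈ k₂ ⁻¹' O₂
      rw [hO₂']; exact ⟨v, rfl⟩
  -- the graph of `Ω`
  let γ : (Ω : Scheme.{u}) ⟶ pullback p₁ p₂ :=
    pullback.lift (Ω.ι ≫ g₁) (Ω.ι ≫ g₂) (by rw [Category.assoc, Category.assoc, hgp])
  let δ : pullback u₁ u₂ ⟶ pullback p₁ p₂ :=
    pullback.lift (j₁ ≫ k₁) (j₂ ≫ k₂) (by rw [Category.assoc, Category.assoc, e₁, e₂, reassoc_of% hj])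
  let kΩ : pullback u₁ u₂ ⟶ Ω := IsOpenImmersion.lift Ω.ι k (by
    rintro _ ⟨v, rfl⟩; rw [Scheme.Opens.range_ι]; exact hkΩ v)
  have hkΩι : kΩ ≫ Ω.ι = k := IsOpenImmersion.lift_fac _ _ _
  have hδ : kΩ ≫ γ = δ := by
    apply pullback.hom_ext <;> simp only [γ, δ, Category.assoc, pullback.lift_fst, pullback.lift_snd,
      reassoc_of% hkΩι, hkg₁, hkg₂]
  have hdense : Set.range γ ⊆ closure (Set.range δ) := by
    rintro _ ⟨w, rfl⟩
    obtain ⟨η, hη, hηw⟩ := hgen w.1 trivial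
    obtain ⟨v, rfl⟩ : η ∈ Set.range k := by
      by_contra h
      exact w.2.2 (Set.mem_iUnion₂.2 ⟨η, ⟨hη, h⟩, hηw.mem_closure⟩)
    have h2 : kΩ v ⤳ w := by
      rw [Ω.ι.isOpenEmbedding.isInducing.specializes_iff.symm, ← Scheme.Hom.comp_apply, hkΩι]
      exact hηw
    rw [← hδ]
    exact closure_mono (Set.singleton_subset_iff.2 (show γ (kΩ v) ∈ Set.range (kΩ ≫ γ) from ⟨v, rfl⟩))
      (h2.map γ.continuous).mem_closure
  let q₁ := pullback.fst p₁ p₂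
  let q₂ := pullback.snd p₁ p₂
  have hγ₁ : γ ≫ q₁ = Ω.ι ≫ g₁ := pullback.lift_fst _ _ _
  have hγ₂ : γ ≫ q₂ = Ω.ι ≫ g₂ := pullback.lift_snd _ _ _
  let B : Set ↥(pullback p₁ p₂) := closure (Set.range γ) ∩ (q₁ ⁻¹' ((Ω.ι ≫ g₁).opensRange : Set Y₁))ᶜ
  have hB : IsClosed B := isClosed_closure.inter ((Ω.ι ≫ g₁).opensRange.2.preimage q₁.continuous).isClosed_compl
  have : IsLocallyNoetherian (pullback p₁ p₂) := LocallyOfFiniteType.isLocallyNoetherian q₁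
  have : CompactSpace (pullback p₁ p₂ : Scheme.{u}) := QuasiCompact.compactSpace_of_compactSpace q₁
  have : IsNoetherian (pullback p₁ p₂) := ⟨⟩
  have := isPreimmersion hk₁
  have := isPreimmersion hk₂
  obtain ⟨N₁, N₂, hN₁, hN₂, hN⟩ := exists_opens_avoiding q₁ q₂ q₁.continuous q₂.continuous hB
    (stableUnderGeneralization_range hk₁.1) (stableUnderGeneralization_range hk₂.1) (by
      intro z hz hz₁ hz₂
      let m := pullback.map (u₁ ≫ f) (u₂ ≫ f) p₁ p₂ k₁ k₂ (𝟙 S) (by rw [Category.comp_id, e₁])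
        (by rw [Category.comp_id, e₂])
      let ε : pullback u₁ u₂ ⟶ pullback (u₁ ≫ f) (u₂ ≫ f) :=
        pullback.lift j₁ j₂ (by rw [reassoc_of% hj])
      let m' := pullback.map (u₁ ≫ f) (u₂ ≫ f) f f u₁ u₂ (𝟙 S) (by simp) (by simp)
      have hεm : ε ≫ m = δ := by
        have m1 : m ≫ pullback.fst p₁ p₂ = pullback.fst _ _ ≫ k₁ := pullback.lift_fst _ _ _
        have m2 : m ≫ pullback.snd p₁ p₂ = pullback.snd _ _ ≫ k₂ := pullback.lift_snd _ _ _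
        apply pullback.hom_ext
        · rw [Category.assoc, m1, pullback.lift_fst_assoc, pullback.lift_fst]
        · rw [Category.assoc, m2, pullback.lift_snd_assoc, pullback.lift_snd]
      have hclosed : IsClosed (Set.range ε) := by
        have e : Set.range ε = m' ⁻¹' Set.range (pullback.diagonal f) := by
          have m1 : m' ≫ pullback.fst f f = pullback.fst _ _ ≫ u₁ := pullback.lift_fst _ _ _
          have m2 : m' ≫ pullback.snd f f = pullback.snd _ _ ≫ u₂ := pullback.lift_snd _ _ _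
          have hε : ε ≫ m' = (j₁ ≫ u₁) ≫ pullback.diagonal f := by
            apply pullback.hom_ext
            · rw [Category.assoc, m1, pullback.lift_fst_assoc, Category.assoc (j₁ ≫ u₁),
                pullback.diagonal_fst, Category.comp_id]
            · rw [Category.assoc, m2, pullback.lift_snd_assoc, Category.assoc (j₁ ≫ u₁),
                pullback.diagonal_snd, Category.comp_id, hj]
          ext q
          constructor
          · rintro ⟨v, rfl⟩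
            exact ⟨(j₁ ≫ u₁) v, by rw [← Scheme.Hom.comp_apply, ← hε]; rfl⟩
          · rintro ⟨y, hy⟩
            have a1 : u₁ (pullback.fst (u₁ ≫ f) (u₂ ≫ f) q) = y := by
              rw [← Scheme.Hom.comp_apply, ← m1, Scheme.Hom.comp_apply, ← hy, ← Scheme.Hom.comp_apply,
                pullback.diagonal_fst]; rfl
            have a2 : u₂ (pullback.snd (u₁ ≫ f) (u₂ ≫ f) q) = y := by
              rw [← Scheme.Hom.comp_apply, ← m2, Scheme.Hom.comp_apply, ← hy, ← Scheme.Hom.comp_apply,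
                pullback.diagonal_snd]; rfl
            obtain ⟨v, hv1, -⟩ := Scheme.Pullback.exists_preimage_pullback _ _ (a1.trans a2.symm)
            refine ⟨v, m'.isOpenEmbedding.injective ?_⟩
            rw [← Scheme.Hom.comp_apply, hε, ← hy, Scheme.Hom.comp_apply]
            congr 1
            show u₁ (pullback.fst u₁ u₂ v) = y
            rw [hv1, a1]
        rw [e]
        exact (pullback.diagonal f).isClosedEmbedding.isClosed_range.preimage m'.continuous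
      have : IsPreimmersion m :=
        MorphismProperty.pullbackMap (P := @IsPreimmersion) ‹_› ‹_› e₁.symm e₂.symm
      have hzm : z ∈ Set.range m := by
        rw [Scheme.Pullback.range_map]
        exact ⟨hz₁, hz₂⟩
      obtain ⟨q, rfl⟩ := hzm
      have hq : q ∈ closure (Set.range ε) := by
        rw [m.isEmbedding.closure_eq_preimage_closure_image, ← Set.range_comp,
          show (m : _ → _) ∘ ε = δ from (funext fun v => by rw [← hεm]; rfl)]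
        exact closure_minimal hdense isClosed_closure hz.1
      rw [hclosed.closure_eq] at hq
      obtain ⟨v, rfl⟩ := hq
      refine hz.2 ⟨kΩ v, ?_⟩
      show (Ω.ι ≫ g₁) (kΩ v) = (ε ≫ m ≫ q₁) v
      rw [reassoc_of% hεm, ← Scheme.Hom.comp_apply, reassoc_of% hkΩι, hkg₁, pullback.lift_fst])
  let Y₁' : Y₁.Opens := N₁
  let Y₂' : Y₂.Opens := N₂
  let Ω' : (Ω : Scheme.{u}).Opens := (Ω.ι ≫ g₁) ⁻¹ᵁ N₁ ⊓ (Ω.ι ≫ g₂) ⁻¹ᵁ N₂
  let a₁ : (Ω' : Scheme.{u}) ⟶ Y₁' := IsOpenImmersion.lift Y₁'.ι (Ω'.ι ≫ Ω.ι ≫ g₁) (by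
    rintro _ ⟨w, rfl⟩; rw [Scheme.Opens.range_ι]; exact w.2.1)
  let a₂ : (Ω' : Scheme.{u}) ⟶ Y₂' := IsOpenImmersion.lift Y₂'.ι (Ω'.ι ≫ Ω.ι ≫ g₂) (by
    rintro _ ⟨w, rfl⟩; rw [Scheme.Opens.range_ι]; exact w.2.2)
  have ha₁ : a₁ ≫ Y₁'.ι = Ω'.ι ≫ Ω.ι ≫ g₁ := IsOpenImmersion.lift_fac _ _ _
  have ha₂ : a₂ ≫ Y₂'.ι = Ω'.ι ≫ Ω.ι ≫ g₂ := IsOpenImmersion.lift_fac _ _ _
  have : IsOpenImmersion (a₁ ≫ Y₁'.ι) := ha₁.symm ▸ inferInstance
  have : IsOpenImmersion (a₂ ≫ Y₂'.ι) := ha₂.symm ▸ inferInstance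
  have : IsOpenImmersion a₁ := IsOpenImmersion.of_comp a₁ Y₁'.ι
  have : IsOpenImmersion a₂ := IsOpenImmersion.of_comp a₂ Y₂'.ι
  have hap : a₁ ≫ Y₁'.ι ≫ p₁ = a₂ ≫ Y₂'.ι ≫ p₂ := by
    rw [reassoc_of% ha₁, reassoc_of% ha₂, hgp]
  have hsep : IsSeparated (pushout.desc (Y₁'.ι ≫ p₁) (Y₂'.ι ≫ p₂) hap) := by
    refine isSeparated_pushout a₁ a₂ _ _ hap ?_
    let mN := pullback.map (Y₁'.ι ≫ p₁) (Y₂'.ι ≫ p₂) p₁ p₂ Y₁'.ι Y₂'.ι (𝟙 S) (by simp) (by simp)
    have m1 : mN ≫ pullback.fst p₁ p₂ = pullback.fst _ _ ≫ Y₁'.ι := pullback.lift_fst _ _ _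
    have m2 : mN ≫ pullback.snd p₁ p₂ = pullback.snd _ _ ≫ Y₂'.ι := pullback.lift_snd _ _ _
    have hN' : pullback.lift a₁ a₂ hap ≫ mN = Ω'.ι ≫ γ := by
      apply pullback.hom_ext
      · rw [Category.assoc, m1, pullback.lift_fst_assoc, Category.assoc, pullback.lift_fst, ha₁]
      · rw [Category.assoc, m2, pullback.lift_snd_assoc, Category.assoc, pullback.lift_snd, ha₂]
    have e : Set.range (pullback.lift a₁ a₂ hap) = mN ⁻¹' closure (Set.range γ) := by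
      ext q
      constructor
      · rintro ⟨w, rfl⟩
        refine subset_closure ⟨Ω'.ι w, ?_⟩
        rw [← Scheme.Hom.comp_apply, ← hN']; rfl
      · intro hq
        have b1 : q₁ (mN q) ∈ N₁ := by
          rw [← Scheme.Hom.comp_apply, m1]; exact (pullback.fst (Y₁'.ι ≫ p₁) (Y₂'.ι ≫ p₂) q).2
        have b2 : q₂ (mN q) ∈ N₂ := by
          rw [← Scheme.Hom.comp_apply, m2]; exact (pullback.snd (Y₁'.ι ≫ p₁) (Y₂'.ι ≫ p₂) q).2
        have hnB : q₁ (mN q) ∈ (Ω.ι ≫ g₁).opensRange := by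
          by_contra h; exact hN _ ⟨hq, h⟩ b1 b2
        obtain ⟨w, hw⟩ := closure_range_inter_subset γ q₁ (Ω.ι ≫ g₁) hγ₁ ⟨hq, hnB⟩
        have hw1 : (Ω.ι ≫ g₁) w ∈ N₁ := by rw [← hγ₁, Scheme.Hom.comp_apply, hw]; exact b1
        have hw2 : (Ω.ι ≫ g₂) w ∈ N₂ := by rw [← hγ₂, Scheme.Hom.comp_apply, hw]; exact b2
        refine ⟨⟨w, hw1, hw2⟩, mN.isOpenEmbedding.injective ?_⟩
        rw [← Scheme.Hom.comp_apply, hN']
        exact hw
    rw [e]
    exact isClosed_closure.preimage mN.continuous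
  let k₁' : U₁ ⟶ Y₁' := IsOpenImmersion.lift Y₁'.ι k₁ (by
    rw [Scheme.Opens.range_ι]; exact hN₁)
  let k₂' : U₂ ⟶ Y₂' := IsOpenImmersion.lift Y₂'.ι k₂ (by
    rw [Scheme.Opens.range_ι]; exact hN₂)
  have hk₁' : k₁' ≫ Y₁'.ι = k₁ := IsOpenImmersion.lift_fac _ _ _
  have hk₂' : k₂' ≫ Y₂'.ι = k₂ := IsOpenImmersion.lift_fac _ _ _
  let k' : pullback u₁ u₂ ⟶ Ω' := IsOpenImmersion.lift Ω'.ι kΩ (by
    rintro _ ⟨v, rfl⟩
    rw [Scheme.Opens.range_ι]
    refine ⟨?_, ?_⟩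
    · show (kΩ ≫ Ω.ι ≫ g₁) v ∈ N₁
      rw [reassoc_of% hkΩι, hkg₁]; exact hN₁ ⟨_, rfl⟩
    · show (kΩ ≫ Ω.ι ≫ g₂) v ∈ N₂
      rw [reassoc_of% hkΩι, hkg₂]; exact hN₂ ⟨_, rfl⟩)
  have hk' : k' ≫ Ω'.ι = kΩ := IsOpenImmersion.lift_fac _ _ _
  have hc₁ : j₁ ≫ k₁' = k' ≫ a₁ := by
    rw [← cancel_mono Y₁'.ι, Category.assoc, hk₁', Category.assoc, ha₁, reassoc_of% hk',
      reassoc_of% hkΩι, hkg₁]
  have hc₂ : j₂ ≫ k₂' = k' ≫ a₂ := by
    rw [← cancel_mono Y₂'.ι, Category.assoc, hk₂', Category.assoc, ha₂, reassoc_of% hk',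
      reassoc_of% hkΩι, hkg₂]
  set Y := pushout a₁ a₂
  set p := pushout.desc (Y₁'.ι ≫ p₁) (Y₂'.ι ≫ p₂) hap
  set i₁ := pushout.inl a₁ a₂
  set i₂ := pushout.inr a₁ a₂
  obtain ⟨K, hK₁, hK₂⟩ := exists_glue u₁ u₂ hcov (k₁' ≫ i₁) (k₂' ≫ i₂) (by
    rw [← Category.assoc, hc₁, ← Category.assoc, hc₂, Category.assoc, Category.assoc, pushout.condition])
  have hip₁ : i₁ ≫ p = Y₁'.ι ≫ p₁ := pushout.inl_desc _ _ _
  have hip₂ : i₂ ≫ p = Y₂'.ι ≫ p₂ := pushout.inr_desc _ _ _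
  have : LocallyOfFiniteType (i₁ ≫ p) := hip₁.symm ▸ inferInstance
  have : LocallyOfFiniteType (i₂ ≫ p) := hip₂.symm ▸ inferInstance
  have hlft : LocallyOfFiniteType p := by
    refine IsZariskiLocalAtSource.of_openCover (coverTwo i₁ i₂ (mem_range_inl_or_inr a₁ a₂)) fun b => ?_
    rcases b with ⟨_ | _⟩ <;> assumption
  have : IsLocallyNoetherian Y := LocallyOfFiniteType.isLocallyNoetherian p
  have : CompactSpace Y := by
    refine ⟨?_⟩
    rw [show (Set.univ : Set Y) = Set.range i₁ ∪ Set.range i₂ from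
      (Set.eq_univ_of_forall (mem_range_inl_or_inr a₁ a₂)).symm]
    have : NoetherianSpace Y₁' := Y₁'.ι.isOpenEmbedding.isInducing.noetherianSpace
    have : NoetherianSpace Y₂' := Y₂'.ι.isOpenEmbedding.isInducing.noetherianSpace
    exact (isCompact_range i₁.continuous).union (isCompact_range i₂.continuous)
  have : IsNoetherian Y := ⟨⟩
  have hl₁ : LocImm.IsLocImmersion (k₁' ≫ i₁) :=
    isLocImmersion_comp (isLocImmersion_of_comp_ι k₁' (hk₁'.symm ▸ hk₁)) (isLocImmersion_of_isOpenImmersion _)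
  have hl₂ : LocImm.IsLocImmersion (k₂' ≫ i₂) :=
    isLocImmersion_comp (isLocImmersion_of_comp_ι k₂' (hk₂'.symm ▸ hk₂)) (isLocImmersion_of_isOpenImmersion _)
  have key : ∀ x₁ x₂, K (u₁ x₁) = K (u₂ x₂) → u₁ x₁ = u₂ x₂ := by
    intro x₁ x₂ h
    rw [← Scheme.Hom.comp_apply, ← Scheme.Hom.comp_apply, hK₁, hK₂, Scheme.Hom.comp_apply,
      Scheme.Hom.comp_apply] at h
    obtain ⟨w, hw₁, hw₂⟩ := exists_of_inl_eq_inr a₁ a₂ h
    have hb₁ : g₁ (Ω.ι (Ω'.ι w)) = k₁ x₁ := by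
      have := congrArg Y₁'.ι hw₁
      rw [← Scheme.Hom.comp_apply, ← Scheme.Hom.comp_apply, ha₁, hk₁'] at this
      exact this
    have hb₂ : g₂ (Ω.ι (Ω'.ι w)) = k₂ x₂ := by
      have := congrArg Y₂'.ι hw₂
      rw [← Scheme.Hom.comp_apply, ← Scheme.Hom.comp_apply, ha₂, hk₂'] at this
      exact this
    obtain ⟨v, rfl⟩ : x₁ ∈ (j₁.opensRange : Set U₁) := by
      show x₁ ∈ j₁.opensRange.carrier
      rw [← hO₁']
      show k₁ x₁ ∈ O₁
      rw [← hb₁]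
      exact (Ω'.ι w).2.1.1
    have hwv : Ω.ι (Ω'.ι w) = k v := g₁.isOpenEmbedding.injective (hb₁.trans (hkg₁' v).symm)
    obtain rfl : x₂ = j₂ v := hk₂.2 (by rw [← hkg₂', ← hwv]; exact hb₂.symm)
    rw [← Scheme.Hom.comp_apply, ← Scheme.Hom.comp_apply, hj]
  refine ⟨Y, K, p, inferInstance, ⟨?_, ?_⟩, hsep, hlft, inferInstance, ?_⟩
  · refine isLocalizing_of_cover K fun x => ?_
    rcases hcov x with hx | hx
    · exact ⟨U₁, u₁, inferInstance, hx, hK₁ ▸ hl₁.1⟩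
    · exact ⟨U₂, u₂, inferInstance, hx, hK₂ ▸ hl₂.1⟩
  · intro x x' h
    rcases hcov x with ⟨a, rfl⟩ | ⟨a, rfl⟩ <;> rcases hcov x' with ⟨b, rfl⟩ | ⟨b, rfl⟩
    · rw [← Scheme.Hom.comp_apply, ← Scheme.Hom.comp_apply, hK₁] at h
      rw [hl₁.2 h]
    · exact key a b h
    · exact (key b a h.symm).symm
    · rw [← Scheme.Hom.comp_apply, ← Scheme.Hom.comp_apply, hK₂] at h
      rw [hl₂.2 h]
  · refine (coverTwo u₁ u₂ hcov).hom_ext _ _ fun b => ?_
    rcases b with ⟨_ | _⟩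
    · show u₂ ≫ K ≫ p = u₂ ≫ f
      rw [reassoc_of% hK₂, hip₂, reassoc_of% hk₂', e₂]
    · show u₁ ≫ K ≫ p = u₁ ≫ f
      rw [reassoc_of% hK₁, hip₁, reassoc_of% hk₁', e₁]

theorem hasFactor [IsNoetherian X] [IsNoetherian S] (f : X ⟶ S) [IsSeparated f]
    [EssFT.LocallyEssFiniteType f] : HasFactor f := by
  classical
  choose V Y k p hx hV hY hk hp hlft hqc hcomp using exists_local_factor f
  have hloc : ∀ x, HasFactor ((V x).ι ≫ f) := fun x =>
    ⟨Y x, k x, p x, hY x, hk x, hp x, hlft x, hqc x, hcomp x⟩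
  have hbot : HasFactor ((⊥ : X.Opens).ι ≫ f) := by
    have : IsEmpty (⊥ : X.Opens) := ⟨fun x => x.2⟩
    refine ⟨S, (⊥ : X.Opens).ι ≫ f, 𝟙 S, inferInstance, ⟨fun x => ?_, fun x => ?_⟩, inferInstance,
      inferInstance, inferInstance, Category.comp_id _⟩
    · exact IsEmpty.elim ‹_› x
    · exact IsEmpty.elim ‹_› x
  have key : ∀ t : Finset X, HasFactor ((t.sup V).ι ≫ f) := by
    intro t
    induction t using Finset.induction with
    | empty => exact hbot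
    | insert a s ha ih =>
      rw [Finset.sup_insert]
      set U := V a ⊔ s.sup V
      have : NoetherianSpace U := U.ι.isOpenEmbedding.isInducing.noetherianSpace
      have : IsNoetherian U := ⟨⟩
      refine hasFactor_of_two (U.ι ≫ f) (X.homOfLE (le_sup_left : V a ≤ U))
        (X.homOfLE (le_sup_right : s.sup V ≤ U)) (fun x => ?_) ?_ ?_
      · rcases x.2 with hx | hx
        · exact Or.inl ⟨⟨x.1, hx⟩, Subtype.ext (congrArg (fun q => q.base ⟨x.1, hx⟩) (X.homOfLE_ι le_sup_left))⟩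
        · exact Or.inr ⟨⟨x.1, hx⟩, Subtype.ext (congrArg (fun q => q.base ⟨x.1, hx⟩) (X.homOfLE_ι le_sup_right))⟩
      · rw [X.homOfLE_ι_assoc]; exact hloc a
      · rw [X.homOfLE_ι_assoc]; exact ih
  obtain ⟨t, ht⟩ := isCompact_univ.elim_finite_subcover (fun x : X => (V x : Set X)) (fun x => (V x).2)
    fun x _ => Set.mem_iUnion.2 ⟨x, hx x⟩
  have htop : t.sup V = ⊤ := eq_top_iff.2 fun x _ => by
    obtain ⟨a, ha, hxa⟩ := Set.mem_iUnion₂.1 (ht (Set.mem_univ x))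
    exact (Finset.le_sup ha : V a ≤ _) hxa
  obtain ⟨Y, k, p, hY, hk, hp, hlft, hqc, hc⟩ := htop ▸ key t
  refine ⟨Y, X.topIso.inv ≫ k, p, hY, isLocImmersion_comp (isLocImmersion_of_isOpenImmersion _) hk, hp,
    hlft, hqc, ?_⟩
  rw [Category.assoc, hc, ← Scheme.topIso_hom, Iso.inv_hom_id_assoc]

end Groth.LocImmersion
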