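import Mathlib
import Groth.Agent.HensPair.IndEtale

/-! Finite covers of rings in which every monic polynomial has a root and whose local rings are
domains have sections Zariski locally. -/

universe u

open Polynomial

namespace Groth.LocImmersion.AICAlgebra

variable {C : Type u} [CommRing C]

theorem mem_range_of_isIntegral (hroot : ∀ P : C[X], P.Monic → P.natDegree ≠ 0 → ∃ c, P.eval c = 0)
    {K : Type u} [Field K] [Algebra C K] {w : K} (hw : IsIntegral C w) :
    w ∈ Set.range (algebraMap C K) := by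
  obtain ⟨P, hP, hPw⟩ := hw
  suffices H : ∀ (n : ℕ) (P : C[X]), P.Monic → P.natDegree ≤ n → aeval w P = 0 →
      w ∈ Set.range (algebraMap C K) from H _ P hP le_rfl hPw
  intro n
  induction n with
  | zero =>
    intro P hP hn h
    rw [hP.natDegree_eq_zero.1 (Nat.le_zero.1 hn), map_one] at h
    exact absurd h one_ne_zero
  | succ n ih =>
    intro P hP hn h
    by_cases h0 : P.natDegree = 0
    · exact ih P hP (by omega) h
    obtain ⟨c, hc⟩ := hroot P hP h0
    have : Nontrivial C := (algebraMap C K).domain_nontrivial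
    have hdiv : (X - Polynomial.C c) * (P /ₘ (X - Polynomial.C c)) = P :=
      mul_divByMonic_eq_iff_isRoot.2 hc
    have hP₁ : (P /ₘ (X - Polynomial.C c)).Monic :=
      (monic_X_sub_C c).of_mul_monic_left (hdiv.symm ▸ hP)
    rw [← hdiv, map_mul] at h
    rcases mul_eq_zero.1 h with h' | h'
    · rw [map_sub, aeval_X, aeval_C, sub_eq_zero] at h'
      exact ⟨c, h'.symm⟩
    · refine ih _ hP₁ ?_ h'
      rw [natDegree_divByMonic _ (monic_X_sub_C c), natDegree_X_sub_C]
      omega

theorem isDomain_localization (hdom : ∀ a b : C, a * b = 0 → ∃ e : C, e * e = e ∧ e * a = a ∧ e * b = 0)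
    (q : Ideal C) [q.IsPrime] : IsDomain (Localization.AtPrime q) := by
  have : NoZeroDivisors (Localization.AtPrime q) := by
    refine ⟨fun {x y} hxy => ?_⟩
    obtain ⟨a, s, rfl⟩ := IsLocalization.exists_mk'_eq q.primeCompl x
    obtain ⟨b, t, rfl⟩ := IsLocalization.exists_mk'_eq q.primeCompl y
    rw [← IsLocalization.mk'_mul, IsLocalization.mk'_eq_zero_iff] at hxy
    obtain ⟨w, hw⟩ := hxy
    obtain ⟨e, he, hea, heb⟩ := hdom ((w : C) * a) b (by rw [mul_assoc]; exact hw)
    by_cases h : e ∈ q
    · left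
      rw [IsLocalization.mk'_eq_zero_iff]
      have h1 : (1 - e) ∉ q := fun h1 => (Ideal.IsPrime.ne_top inferInstance)
        ((Ideal.eq_top_iff_one q).2 (by simpa using q.add_mem h1 h))
      exact ⟨⟨(1 - e) * w, q.primeCompl.mul_mem h1 w.2⟩,
        show (1 - e) * w * a = 0 by rw [mul_assoc, sub_mul, one_mul, hea, sub_self]⟩
    · right
      rw [IsLocalization.mk'_eq_zero_iff]
      exact ⟨⟨e, h⟩, heb⟩
  exact NoZeroDivisors.to_isDomain _

theorem exists_section {D : Type u} [CommRing D] [Algebra C D] [Module.Finite C D]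
    [Algebra.FinitePresentation C D]
    (hroot : ∀ P : C[X], P.Monic → P.natDegree ≠ 0 → ∃ c, P.eval c = 0)
    (hdom : ∀ a b : C, a * b = 0 → ∃ e : C, e * e = e ∧ e * a = a ∧ e * b = 0)
    (hsurj : Function.Surjective (PrimeSpectrum.comap (algebraMap C D))) (q : Ideal C) [q.IsPrime] :
    ∃ g ∉ q, Nonempty (D →ₐ[C] Localization.Away g) := by
  have := isDomain_localization hdom q
  let L := Localization.AtPrime q
  let K := AlgebraicClosure (FractionRing L)
  let j' : L →ₐ[C] K := IsScalarTower.toAlgHom C L K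
  have hj' : Function.Injective j' := by
    show Function.Injective (algebraMap L K)
    rw [IsScalarTower.algebraMap_eq L (FractionRing L) K]
    exact (algebraMap (FractionRing L) K).injective.comp (IsFractionRing.injective L (FractionRing L))
  let q₀ : Ideal C := RingHom.ker (algebraMap C K)
  have : q₀.IsPrime := RingHom.ker_isPrime _
  obtain ⟨P, hP⟩ := hsurj ⟨q₀, inferInstance⟩
  have : P.asIdeal.LiesOver q₀ := ⟨(congrArg PrimeSpectrum.asIdeal hP).symm⟩
  let φ : q₀.ResidueField →+* K := Ideal.ResidueField.lift q₀ (algebraMap C K) le_rfl fun x hx =>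
    (isUnit_iff_ne_zero.2 fun h => hx h : IsUnit (algebraMap C K x))
  let := φ.toAlgebra
  have : IsScalarTower C q₀.ResidueField K :=
    IsScalarTower.of_algebraMap_eq fun x => (Ideal.ResidueField.lift_algebraMap _ _ _ _ x).symm
  let := Localization.AtPrime.algebraOfLiesOver q₀ P.asIdeal
  let θ : P.asIdeal.ResidueField →ₐ[q₀.ResidueField] K := IsAlgClosed.lift
  let ψ : D →ₐ[C] K := (θ.restrictScalars C).comp (IsScalarTower.toAlgHom C D _)
  have hmem : ∀ d, ψ d ∈ j'.range := fun d => by
    obtain ⟨c, hc⟩ := mem_range_of_isIntegral hroot ((Algebra.IsIntegral.isIntegral (R := C) d).map ψ)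
    exact ⟨algebraMap C L c, by rw [← hc]; exact j'.commutes c⟩
  let χ : D →ₐ[C] L :=
    (AlgEquiv.ofInjective j' hj').symm.toAlgHom.comp (ψ.codRestrict j'.range hmem)
  obtain ⟨g, hg, σ, -⟩ := Groth.HensPair.exists_factor_away (A := C) (P := C) q.primeCompl χ
  exact ⟨g, hg, ⟨σ⟩⟩

end Groth.LocImmersion.AICAlgebra
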