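import Mathlib
import Groth.Agent.Flatmor4.EtaleSplit
import Groth.Agent.LocImm.AICAlgebra

/-! Every scheme has an integral surjective cover by a scheme with absolutely integrally closed
charts whose local rings are domains: glue the integral closures of `Γ(S, U)` in
`∏_{s ∈ U} κ(s)^alg`. -/

universe u

open CategoryTheory Limits AlgebraicGeometry TopologicalSpace Opposite Polynomial

set_option backward.isDefEq.respectTransparency.types false

namespace Groth.LocImmersion.AICCover

variable (S : Scheme.{u})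

/-- Algebraic closures of the residue fields. -/
abbrev Ω (s : S) : Type u := AlgebraicClosure (S.residueField s)

/-- Functions on the points of an open with values in the algebraically closed residue fields. -/
abbrev Pt (U : S.Opens) : Type u := ∀ s : U, Ω S s.1

/-- Evaluation of a section at all points. -/
noncomputable def ev (U : S.Opens) : Γ(S, U) →+* Pt S U :=
  RingHom.pi fun s => (algebraMap (S.residueField s.1) (Ω S s.1)).comp (S.evaluation U s.1 s.2).hom

noncomputable instance (U : S.Opens) : Algebra Γ(S, U) (Pt S U) := (ev S U).toAlgebra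

/-- The ring of integral point functions. -/
noncomputable abbrev A (U : S.Opens) : Subalgebra Γ(S, U) (Pt S U) := integralClosure Γ(S, U) (Pt S U)

variable {S}

/-- Restriction of point functions. -/
noncomputable def res {V U : S.Opens} (h : V ≤ U) : Pt S U →+* Pt S V :=
  RingHom.pi fun s => Pi.evalRingHom (fun t : U => Ω S t.1) ⟨s.1, h s.2⟩

theorem res_ev {V U : S.Opens} (h : V ≤ U) (a : Γ(S, U)) :
    res h (ev S U a) = ev S V (S.presheaf.map (homOfLE h).op a) := by
  funext s
  show algebraMap _ (Ω S s.1) (S.evaluation U s.1 (h s.2) a) =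
    algebraMap _ (Ω S s.1) (S.evaluation V s.1 s.2 (S.presheaf.map (homOfLE h).op a))
  congr 1
  show S.residue _ (S.presheaf.germ U s.1 (h s.2) a) =
    S.residue _ (S.presheaf.germ V s.1 s.2 (S.presheaf.map (homOfLE h).op a))
  exact congrArg _ (S.presheaf.germ_res_apply _ _ _ _).symm

theorem res_mem {V U : S.Opens} (h : V ≤ U) (c : Pt S U) (hc : c ∈ A S U) : res h c ∈ A S V := by
  obtain ⟨P, hP, hPc⟩ := hc
  refine ⟨P.map (S.presheaf.map (homOfLE h).op).hom, hP.map _, ?_⟩
  have h1 := Polynomial.hom_eval₂ P (algebraMap Γ(S, U) (Pt S U)) (res h) c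
  rw [hPc, map_zero] at h1
  rw [Polynomial.eval₂_map]
  refine Eq.trans ?_ h1.symm
  congr 1
  ext a : 1
  exact (res_ev h a).symm

variable (S)

/-- The presheaf of integral point functions on affine opens. -/
noncomputable def F : S.AffineZariskiSiteᵒᵖ ⥤ CommRingCat.{u} where
  obj U := CommRingCat.of (A S U.unop.1)
  map {U V} i := CommRingCat.ofHom <|
    (res (show V.unop.1 ≤ U.unop.1 from Scheme.AffineZariskiSite.toOpens_mono i.unop.le)).restrict
      _ _ fun c hc => res_mem _ c hc
  map_id U := by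
    apply CommRingCat.hom_ext
    refine RingHom.ext fun c => ?_
    exact Subtype.ext rfl
  map_comp i j := by
    apply CommRingCat.hom_ext
    refine RingHom.ext fun c => ?_
    exact Subtype.ext rfl

/-- The structure map. -/
noncomputable def α : (Scheme.AffineZariskiSite.toOpensFunctor S).op ⋙ S.presheaf ⟶ F S where
  app U := CommRingCat.ofHom (algebraMap Γ(S, U.unop.1) (A S U.unop.1))
  naturality {U V} i := by
    apply CommRingCat.hom_ext
    refine RingHom.ext fun a => ?_
    exact Subtype.ext (res_ev (Scheme.AffineZariskiSite.toOpens_mono i.unop.le) a).symm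

theorem coequifibered : (α S).Coequifibered := by
  classical
  refine Scheme.AffineZariskiSite.coequifibered_iff_forall_isLocalizationAway.mpr fun U r => ?_
  letI := ((F S).map (homOfLE (U.basicOpen_le r)).op).hom.toAlgebra
  have hle : S.basicOpen r ≤ U.1 := S.basicOpen_le r
  have hev : ∀ s : U.1, s.1 ∉ S.basicOpen r → ev S U.1 r s = 0 := fun s hs => by
    show algebraMap _ (Ω S s.1) (S.evaluation U.1 s.1 s.2 r) = 0
    rw [(S.evaluation_eq_zero_iff_notMem_basicOpen _ _ _).mpr hs, map_zero]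
  have hu : IsUnit (S.presheaf.map (homOfLE hle).op r) := RingedSpace.isUnit_res_basicOpen _ r
  refine ⟨⟨?_, fun z => ?_, fun {x y} h => ?_⟩⟩
  · rintro ⟨_, n, rfl⟩
    rw [map_pow]
    refine IsUnit.pow _ ?_
    have h1 := hu.map (algebraMap Γ(S, S.basicOpen r) (A S (S.basicOpen r)))
    have e : ((F S).map (homOfLE (U.basicOpen_le r)).op) ((α S).app (op U) r) =
        algebraMap Γ(S, S.basicOpen r) (A S (S.basicOpen r)) (S.presheaf.map (homOfLE hle).op r) :=
      Subtype.ext (res_ev hle r)
    exact e ▸ h1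
  · obtain ⟨⟨z, hz⟩, rfl⟩ : ∃ z' : A S (S.basicOpen r), z' = z := ⟨z, rfl⟩
    let := (S.presheaf.map (homOfLE hle).op).hom.toAlgebra
    have := U.2.isLocalization_basicOpen r
    let : Algebra Γ(S, U.1) (Pt S (S.basicOpen r)) :=
      ((ev S (S.basicOpen r)).comp (S.presheaf.map (homOfLE hle).op).hom).toAlgebra
    have : IsScalarTower Γ(S, U.1) Γ(S, S.basicOpen r) (Pt S (S.basicOpen r)) :=
      IsScalarTower.of_algebraMap_eq fun _ => rfl
    obtain ⟨⟨_, n, rfl⟩, hn⟩ := IsIntegral.exists_multiple_integral_of_isLocalization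
      (Submonoid.powers r) z hz
    let c₀ : Pt S (S.basicOpen r) := (r ^ n : Γ(S, U.1)) • z
    let c : Pt S U.1 := fun s => if h : s.1 ∈ S.basicOpen r then c₀ ⟨s.1, h⟩ else 0
    obtain ⟨Q, hQ, hQc⟩ := (show IsIntegral Γ(S, U.1) c₀ from hn)
    have hc : c ∈ A S U.1 := by
      refine ⟨X * Q, monic_X.mul hQ, ?_⟩
      rw [eval₂_mul, eval₂_X]
      funext s
      by_cases h : s.1 ∈ S.basicOpen r
      · have h1 := congrFun (Polynomial.hom_eval₂ Q (algebraMap Γ(S, U.1) (Pt S U.1)) (res hle) c) ⟨s.1, h⟩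
        have h2 : (res hle).comp (algebraMap Γ(S, U.1) (Pt S U.1)) =
            algebraMap Γ(S, U.1) (Pt S (S.basicOpen r)) := RingHom.ext fun a => res_ev hle a
        have h3 : res hle c = c₀ := by
          funext t
          show c ⟨t.1, hle t.2⟩ = c₀ t
          simp only [c, dif_pos t.2]
        rw [h2, h3, hQc] at h1
        show c s * _ = 0
        rw [show Polynomial.eval₂ (algebraMap Γ(S, U.1) (Pt S U.1)) c Q s = 0 from h1, mul_zero]
      · show c s * _ = 0
        simp only [c, dif_neg h, zero_mul]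
    refine ⟨⟨⟨c, hc⟩, ⟨_, n, rfl⟩⟩, Subtype.ext ?_⟩
    show z * res hle ((ev S U.1 r) ^ n) = res hle c
    funext t
    have h3 : res hle c t = c₀ t := by
      show c ⟨t.1, hle t.2⟩ = c₀ t
      simp only [c, dif_pos t.2]
    rw [h3]
    show z t * res hle ((ev S U.1 r) ^ n) t = c₀ t
    rw [show c₀ t = (algebraMap Γ(S, U.1) (Pt S (S.basicOpen r)) (r ^ n) * z) t from
      congrFun (Algebra.smul_def _ _) t, map_pow, res_ev, mul_comm]
    show _ = ((algebraMap Γ(S, U.1) (Pt S (S.basicOpen r))) (r ^ n) * z) t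
    rw [map_pow]
    rfl
  · refine ⟨⟨_, 1, rfl⟩, Subtype.ext (funext fun s => ?_)⟩
    show (ev S U.1 r ^ 1) s * x.1 s = (ev S U.1 r ^ 1) s * y.1 s
    by_cases hs : s.1 ∈ S.basicOpen r
    · congr 1
      exact congrFun (congrArg Subtype.val h) ⟨s.1, hs⟩
    · rw [pow_one, hev s hs, zero_mul, zero_mul]

/-- The glueing datum. -/
noncomputable def glueData := Scheme.AffineZariskiSite.relativeGluingData (coequifibered S)

instance : ((glueData S).functor ⋙ Scheme.forget).IsLocallyDirected :=
  Scheme.Cover.RelativeGluingData.instIsLocallyDirectedI₀CompFunctorForgetOfIsThin ..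

/-- The cover. -/
noncomputable def cover : Scheme.{u} := (glueData S).glued

/-- Its structure morphism. -/
noncomputable def π : cover S ⟶ S := (glueData S).toBase

variable {S}

/-- The charts. -/
noncomputable def ι {U : S.Opens} (hU : IsAffineOpen U) : Spec (CommRingCat.of (A S U)) ⟶ cover S :=
  (glueData S).cover.f ⟨U, hU⟩

instance {U : S.Opens} (hU : IsAffineOpen U) : IsOpenImmersion (ι hU) :=
  (glueData S).cover.map_prop _

theorem ι_π {U : S.Opens} (hU : IsAffineOpen U) :
    ι hU ≫ π S = Spec.map (CommRingCat.ofHom (algebraMap Γ(S, U) (A S U))) ≫ hU.fromSpec :=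
  colimit.ι_desc _ _

theorem π_preimage {U : S.Opens} (hU : IsAffineOpen U) : π S ⁻¹ᵁ U = (ι hU).opensRange := by
  simpa using! (glueData S).toBase_preimage_eq_opensRange_ι ⟨U, hU⟩

theorem exists_chart (t : cover S) : ∃ (U : S.Opens) (hU : IsAffineOpen U) (q : _), ι hU q = t := by
  obtain ⟨_, ⟨U, hU, rfl⟩, hx, -⟩ :=
    S.isBasis_affineOpens.exists_subset_of_mem_open (Set.mem_univ (π S t)) isOpen_univ
  have h : t ∈ π S ⁻¹ᵁ U := hx
  rw [π_preimage hU] at h
  obtain ⟨q, hq⟩ := h
  exact ⟨U, hU, q, hq⟩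

instance isIntegralHom_π : IsIntegralHom (π S) := by
  rw [IsZariskiLocalAtTarget.iff_of_iSup_eq_top (P := @IsIntegralHom)
    (fun U : S.affineOpens => (U : S.Opens)) (iSup_affineOpens_eq_top S)]
  intro U
  have hr : Set.range (ι U.2) = Set.range (π S ⁻¹ᵁ U.1).ι := by
    rw [Scheme.Opens.range_ι, π_preimage U.2]; rfl
  let e := IsOpenImmersion.isoOfRangeEq (ι U.2) (π S ⁻¹ᵁ U.1).ι hr
  have he : e.hom ≫ π S ∣_ U.1 =
      Spec.map (CommRingCat.ofHom (algebraMap Γ(S, U.1) (A S U.1))) ≫ U.2.isoSpec.inv := by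
    rw [← cancel_mono U.1.ι, Category.assoc, morphismRestrict_ι,
      IsOpenImmersion.isoOfRangeEq_hom_fac_assoc, ι_π, Category.assoc, IsAffineOpen.isoSpec_inv_ι]
  rw [← MorphismProperty.cancel_left_of_respectsIso @IsIntegralHom e.hom, he,
    MorphismProperty.cancel_right_of_respectsIso @IsIntegralHom, IsIntegralHom.SpecMap_iff]
  exact fun x => Algebra.IsIntegral.isIntegral x

instance surjective_π : Surjective (π S) := by
  refine ⟨fun s => ?_⟩
  obtain ⟨_, ⟨U : S.Opens, hU, rfl⟩, hs, -⟩ :=
    S.isBasis_affineOpens.exists_subset_of_mem_open (Set.mem_univ s) isOpen_univ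
  let ε : A S U →+* Ω S s :=
    (Pi.evalRingHom (fun t : U => Ω S t.1) ⟨s, hs⟩).comp (A S U).val.toRingHom
  refine ⟨ι hU ⟨RingHom.ker ε, RingHom.ker_isPrime ε⟩, ?_⟩
  rw [← Scheme.Hom.comp_apply, ι_π, Scheme.Hom.comp_apply]
  refine (congrArg hU.fromSpec ?_).trans (hU.fromSpec_primeIdealOf ⟨s, hs⟩)
  apply PrimeSpectrum.ext
  ext a
  rw [← Groth.Flatmor4.evaluation_eq_zero_iff hU hs]
  show ε (algebraMap Γ(S, U) (A S U) a) = 0 ↔ _
  exact map_eq_zero_iff _ (algebraMap (S.residueField s) (Ω S s)).injective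

theorem exists_root {U : S.Opens} (P : (A S U)[X]) (hP : P.Monic) (hd : P.natDegree ≠ 0) :
    ∃ c, P.eval c = 0 := by
  classical
  let ev' : ∀ s : U, A S U →+* Ω S s.1 := fun s =>
    (Pi.evalRingHom (fun t : U => Ω S t.1) s).comp (A S U).val.toRingHom
  have h : ∀ s : U, ∃ x : Ω S s.1, (P.map (ev' s)).eval x = 0 := fun s => by
    refine IsAlgClosed.exists_root _ ?_
    rw [degree_eq_natDegree (hP.map _).ne_zero, hP.natDegree_map]
    exact_mod_cast hd
  choose x hx using h
  have hx0 : Polynomial.eval₂ (algebraMap (A S U) (Pt S U)) x P = 0 := by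
    funext s
    have h1 := Polynomial.hom_eval₂ P (algebraMap (A S U) (Pt S U)) (Pi.evalRingHom (fun t : U => Ω S t.1) s) x
    refine h1.trans (Eq.trans ?_ (hx s))
    rw [Polynomial.eval_map]
    rfl
  have hmem : x ∈ A S U := isIntegral_trans (R := Γ(S, U)) (A := A S U) x ⟨P, hP, hx0⟩
  refine ⟨⟨x, hmem⟩, Subtype.ext ?_⟩
  have h2 := Polynomial.hom_eval₂ P (RingHom.id (A S U)) (algebraMap (A S U) (Pt S U)) ⟨x, hmem⟩
  rw [RingHom.comp_id] at h2
  exact h2.trans hx0

theorem exists_idempotent {U : S.Opens} (a b : A S U) (h : a * b = 0) :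
    ∃ e : A S U, e * e = e ∧ e * a = a ∧ e * b = 0 := by
  classical
  let e : Pt S U := fun s => if a.1 s = 0 then 0 else 1
  have he : e ∈ A S U := by
    refine ⟨X ^ 2 - X, monic_X_pow_sub (degree_X_le.trans_lt (by norm_num)), ?_⟩
    rw [eval₂_sub, eval₂_X_pow, eval₂_X, pow_two]
    funext s
    show e s * e s - e s = 0
    simp only [e]; split_ifs <;> simp
  refine ⟨⟨e, he⟩, Subtype.ext (funext fun s => ?_), Subtype.ext (funext fun s => ?_),
    Subtype.ext (funext fun s => ?_)⟩
  · show e s * e s = e s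
    simp only [e]; split_ifs <;> simp
  · show e s * a.1 s = a.1 s
    simp only [e]; split_ifs with h0 <;> simp [h0]
  · show e s * b.1 s = 0
    have h1 : a.1 s * b.1 s = 0 := congrFun (congrArg Subtype.val h) s
    simp only [e]
    split_ifs with h0
    · simp
    · simp [(mul_eq_zero.mp h1).resolve_left h0]

end Groth.LocImmersion.AICCover
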