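import Groth.Agent.LocImm.RingLevel

/-!
Localizing morphisms and localizing immersions of schemes: basic properties.
-/

universe u

open AlgebraicGeometry CategoryTheory Limits TopologicalSpace

namespace Groth.LocImmersion

variable {X Y Z : Scheme.{u}}

/-- A closed subset of a Noetherian quasi-sober space is the union of the closures of finitely
many of its points. -/
theorem exists_finite_generic {α : Type*} [TopologicalSpace α] [NoetherianSpace α] [QuasiSober α]
    {Z : Set α} (hZ : IsClosed Z) :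
    ∃ G : Set α, G.Finite ∧ G ⊆ Z ∧ ∀ z ∈ Z, ∃ g ∈ G, g ⤳ z := by
  obtain ⟨S, hS, hc, hi, hU⟩ := NoetherianSpace.exists_finite_set_isClosed_irreducible hZ
  choose g hg using fun T : S => QuasiSober.sober (hi T.1 T.2) (hc T.1 T.2)
  have := hS.to_subtype
  refine ⟨Set.range g, Set.finite_range g, ?_, fun z hz => ?_⟩
  · rintro _ ⟨T, rfl⟩
    exact hU ▸ Set.mem_sUnion.2 ⟨T.1, T.2, (hg T).mem⟩
  · rw [hU] at hz
    obtain ⟨T, hT, hzT⟩ := hz
    exact ⟨g ⟨T, hT⟩, ⟨_, rfl⟩, (hg ⟨T, hT⟩).specializes hzT⟩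

theorem isLocHom_appLE_congr {f : X ⟶ Y} {U U' : Y.Opens} {V V' : X.Opens} (hU : U = U') (hV : V = V')
    {e : V ≤ f ⁻¹ᵁ U} (h : LocImm.IsLocHom (f.appLE U V e).hom) :
    LocImm.IsLocHom (f.appLE U' V' (hU ▸ hV ▸ e)).hom := by
  subst hU hV; exact h

theorem isLocHom_res_basicOpen {U : X.Opens} (hU : IsAffineOpen U) (a : Γ(X, U)) :
    LocImm.IsLocHom (X.presheaf.map (homOfLE (X.basicOpen_le a)).op).hom := by
  have := hU.isLocalization_basicOpen a
  exact isLocHom_of_isLocalization (A := Γ(X, U)) (B := Γ(X, X.basicOpen a)) (Submonoid.powers a)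

section Chart

variable {f : X ⟶ Y} {U : Y.Opens} {V : X.Opens} {e : V ≤ f ⁻¹ᵁ U}
  (hU : IsAffineOpen U) (hV : IsAffineOpen V) (h : LocImm.IsLocHom (f.appLE U V e).hom)

include hV h in
/-- Shrink the source of a chart to a basic open. -/
theorem chart_source (b : Γ(X, V)) :
    LocImm.IsLocHom (f.appLE U (X.basicOpen b) ((X.basicOpen_le b).trans e)).hom := by
  rw [← Scheme.Hom.appLE_map f e (homOfLE (X.basicOpen_le b)).op, CommRingCat.hom_comp]
  exact isLocHom_comp h (isLocHom_res_basicOpen hV b)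

include hU hV h in
/-- Shrink the target of a chart to a basic open. -/
theorem chart_basicOpen (a : Γ(Y, U)) (e' : V ⊓ f ⁻¹ᵁ Y.basicOpen a ≤ f ⁻¹ᵁ Y.basicOpen a) :
    LocImm.IsLocHom (f.appLE (Y.basicOpen a) (V ⊓ f ⁻¹ᵁ Y.basicOpen a) e').hom := by
  have hb : X.basicOpen (f.appLE U V e a) = V ⊓ f ⁻¹ᵁ Y.basicOpen a := Scheme.basicOpen_appLE f V U e a
  have e'' : X.basicOpen (f.appLE U V e a) ≤ f ⁻¹ᵁ Y.basicOpen a := hb ▸ inf_le_right
  refine isLocHom_appLE_congr (e := e'') rfl hb ?_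
  refine isLocHom_of_comp (isLocHom_res_basicOpen hU a) ?_
  rw [← CommRingCat.hom_comp, Scheme.Hom.map_appLE]
  exact chart_source hV h _

include hU hV h in
/-- A chart is a preimmersion. -/
theorem chart_isPreimmersion : IsPreimmersion (V.ι ≫ f) := by
  have := isPreimmersion_Spec_map h
  have e1 : Spec.map (f.appLE U V e) ≫ hU.fromSpec = hV.fromSpec ≫ f :=
    IsAffineOpen.SpecMap_appLE_fromSpec f hU hV e
  have : IsPreimmersion (hV.fromSpec ≫ f) := e1 ▸ inferInstance
  have e2 : V.ι ≫ f = hV.isoSpec.hom ≫ hV.fromSpec ≫ f := by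
    rw [← hV.isoSpec_inv_ι]
    simp only [Category.assoc, Iso.hom_inv_id_assoc]
  rw [e2]
  infer_instance

include hU hV h in
theorem chart_injOn : Set.InjOn f (V : Set X) := by
  have := chart_isPreimmersion hU hV h
  intro x hx y hy hxy
  have h2 : (⟨x, hx⟩ : V) = ⟨y, hy⟩ := (V.ι ≫ f).isEmbedding.injective (by simpa using hxy)
  exact congrArg Subtype.val h2

end Chart

variable {f : X ⟶ Y}

theorem isLocalizing_iff_exists : LocImm.IsLocalizing f ↔
    ∀ x : X, ∃ (U : Y.Opens) (V : X.Opens) (e : V ≤ f ⁻¹ᵁ U), IsAffineOpen U ∧ IsAffineOpen V ∧ x ∈ V ∧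
      LocImm.IsLocHom (f.appLE U V e).hom :=
  ⟨fun h x => by obtain ⟨⟨U, hU⟩, ⟨V, hV⟩, hx, e, h'⟩ := h x; exact ⟨U, V, e, hU, hV, hx, h'⟩,
    fun h x => by obtain ⟨U, V, e, hU, hV, hx, h'⟩ := h x; exact ⟨⟨U, hU⟩, ⟨V, hV⟩, hx, e, h'⟩⟩

theorem surjectiveOnStalks (hf : LocImm.IsLocalizing f) : SurjectiveOnStalks f := by
  refine (HasRingHomProperty.iff_exists_appLE (P := @SurjectiveOnStalks) ?_).2 fun x => ?_
  · intro R S T _ _ _ _ r _ g hg
    exact hg.comp (RingHom.surjectiveOnStalks_of_isLocalization (M := Submonoid.powers r) S)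
  · obtain ⟨U, V, hx, e, h⟩ := hf x
    exact ⟨U, V, hx, e, surjectiveOnStalks_of_isLocHom h⟩

theorem flat (hf : LocImm.IsLocalizing f) : Flat f := by
  refine (HasRingHomProperty.iff_exists_appLE (P := @Flat) ?_).2 fun x => ?_
  · exact (RingHom.Flat.stableUnderComposition.stableUnderCompositionWithLocalizationAway
      RingHom.Flat.holdsForLocalizationAway).1
  · obtain ⟨U, V, hx, e, h⟩ := hf x
    exact ⟨U, V, hx, e, flat_of_isLocHom h⟩

theorem isIso_stalkMap (hf : LocImm.IsLocalizing f) (x : X) : IsIso (f.stalkMap x) := by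
  have := surjectiveOnStalks hf
  have := flat hf
  rw [ConcreteCategory.isIso_iff_bijective]
  refine ⟨?_, f.stalkMap_surjective x⟩
  algebraize [(f.stalkMap x).hom]
  have : Module.FaithfullyFlat (Y.presheaf.stalk (f x)) (X.presheaf.stalk x) :=
    @Module.FaithfullyFlat.of_flat_of_isLocalHom _ _ _ _ _ _ _
      (Flat.stalkMap f x) (f.toLRSHom.prop x)
  exact ‹RingHom.FaithfullyFlat _›.injective

theorem generalizingMap (hf : LocImm.IsLocalizing f) : GeneralizingMap f :=
  have := flat hf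
  Flat.generalizingMap f

theorem isEmbedding [NoetherianSpace X] (hf : LocImm.IsLocImmersion f) :
    Topology.IsEmbedding f := by
  refine ⟨⟨?_⟩, hf.2⟩
  refine le_antisymm f.continuous.le_induced ?_
  intro O hO
  obtain ⟨G, hG, hGs, hGen⟩ := exists_finite_generic (Z := Oᶜ) hO.isClosed_compl
  refine ⟨(closure (f '' G))ᶜ, isClosed_closure.isOpen_compl, ?_⟩
  ext x
  constructor
  · intro hx
    by_contra hxO
    obtain ⟨g, hg, hgx⟩ := hGen x hxO
    exact hx (closure_mono (Set.singleton_subset_iff.2 (Set.mem_image_of_mem f hg))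
      ((hgx.map f.continuous).mem_closure))
  · intro hxO hx
    obtain ⟨g, hg, hgx⟩ : ∃ g ∈ G, f x ∈ closure {f g} := by
      rw [← Set.biUnion_of_singleton (f '' G), (hG.image f).closure_biUnion] at hx
      obtain ⟨_, ⟨g, hg, rfl⟩, hgx⟩ := Set.mem_iUnion₂.1 hx
      exact ⟨g, hg, hgx⟩
    obtain ⟨x', hx', e⟩ := generalizingMap hf.1 (specializes_iff_mem_closure.2 hgx)
    obtain rfl : x' = g := hf.2 e
    exact hGs hg (hx'.mem_open hO hxO)

theorem isPreimmersion [NoetherianSpace X] (hf : LocImm.IsLocImmersion f) : IsPreimmersion f :=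
  have := surjectiveOnStalks hf.1
  ⟨isEmbedding hf⟩

theorem mono (hf : LocImm.IsLocImmersion f) : Mono f :=
  have := surjectiveOnStalks hf.1
  SurjectiveOnStalks.mono_of_injective hf.2

theorem isLocImmersion_iff_mono :
    LocImm.IsLocImmersion f ↔ LocImm.IsLocalizing f ∧ Mono f := by
  refine ⟨fun h => ⟨h.1, mono h⟩, fun ⟨h, h'⟩ => ⟨h, ?_⟩⟩
  have : UniversallyInjective f := inferInstance
  exact f.injective

theorem stableUnderGeneralization_range (hf : LocImm.IsLocalizing f) :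
    StableUnderGeneralization (Set.range f) :=
  (generalizingMap hf).stableUnderGeneralization_range

theorem isLocalizing_of_isOpenImmersion (f : X ⟶ Y) [IsOpenImmersion f] : LocImm.IsLocalizing f := by
  intro x
  obtain ⟨_, ⟨V, hV, rfl⟩, hx, -⟩ :=
    X.isBasis_affineOpens.exists_subset_of_mem_open (Set.mem_univ x) isOpen_univ
  refine ⟨⟨f ''ᵁ V, hV.image_of_isOpenImmersion f⟩, ⟨V, hV⟩, hx,
    (f.preimage_image_eq V).ge, isLocHom_of_bijective ?_⟩
  rw [← Scheme.Hom.appIso_hom']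
  exact ConcreteCategory.bijective_of_isIso _

theorem isLocImmersion_of_isOpenImmersion (f : X ⟶ Y) [IsOpenImmersion f] :
    LocImm.IsLocImmersion f :=
  ⟨isLocalizing_of_isOpenImmersion f, f.isOpenEmbedding.injective⟩

theorem isLocalizing_comp {g : Y ⟶ Z} (hf : LocImm.IsLocalizing f) (hg : LocImm.IsLocalizing g) :
    LocImm.IsLocalizing (f ≫ g) := by
  rw [isLocalizing_iff_exists] at hf hg ⊢
  intro x
  obtain ⟨U, V, e, hU, hV, hx, h⟩ := hf x
  obtain ⟨W, U', e', hW, hU', hy, h'⟩ := hg (f x)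
  obtain ⟨a, a', eq, ha⟩ := exists_basicOpen_le_affine_inter hU hU' (f x) ⟨e hx, hy⟩
  have h1 : LocImm.IsLocHom (g.appLE W (Y.basicOpen a) _).hom :=
    isLocHom_appLE_congr rfl eq.symm (chart_source hU' h' a')
  have hb : X.basicOpen (f.appLE U V e a) = V ⊓ f ⁻¹ᵁ Y.basicOpen a := Scheme.basicOpen_appLE f V U e a
  refine ⟨W, V ⊓ f ⁻¹ᵁ Y.basicOpen a, ?_, hW, hb ▸ hV.basicOpen _, ⟨hx, ha⟩, ?_⟩
  · exact inf_le_right.trans (f.preimage_mono (eq.le.trans ((Y.basicOpen_le a').trans e')))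
  · rw [← Scheme.Hom.appLE_comp_appLE f g W (Y.basicOpen a) _
      (eq.le.trans ((Y.basicOpen_le a').trans e')) inf_le_right, CommRingCat.hom_comp]
    exact isLocHom_comp h1 (chart_basicOpen hU hV h a _)

theorem isLocImmersion_comp {g : Y ⟶ Z} (hf : LocImm.IsLocImmersion f)
    (hg : LocImm.IsLocImmersion g) : LocImm.IsLocImmersion (f ≫ g) :=
  ⟨isLocalizing_comp hf.1 hg.1, fun _ _ h => hf.2 (hg.2 (by simpa using h))⟩

/-- Charts of a localizing immersion can be chosen with full preimage. -/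
theorem exists_chart_preimage [NoetherianSpace X] (hf : LocImm.IsLocImmersion f) (x : X) (O : Y.Opens)
    (hO : f x ∈ O) :
    ∃ V : Y.Opens, f x ∈ V ∧ V ≤ O ∧ IsAffineOpen V ∧ IsAffineOpen (f ⁻¹ᵁ V) ∧
      LocImm.IsLocHom (f.app V).hom := by
  obtain ⟨U, V, e, hU, hV, hx, h⟩ := isLocalizing_iff_exists.1 hf.1 x
  obtain ⟨W, hW, hWV⟩ := (isEmbedding hf).isInducing.isOpen_iff.1 V.2
  have hxW : f x ∈ W := by
    have : x ∈ f ⁻¹' W := hWV ▸ hx
    exact this
  obtain ⟨a, haW, hxa⟩ := hU.exists_basicOpen_le (V := ⟨W, hW⟩ ⊓ O) ⟨f x, hxW, hO⟩ (e hx)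
  have hpre : f ⁻¹ᵁ Y.basicOpen a = V ⊓ f ⁻¹ᵁ Y.basicOpen a := by
    refine (inf_eq_right.2 fun z hz => ?_).symm
    show z ∈ V.carrier
    rw [← hWV]
    exact (haW hz).1
  have hb : X.basicOpen (f.appLE U V e a) = V ⊓ f ⁻¹ᵁ Y.basicOpen a := Scheme.basicOpen_appLE f V U e a
  refine ⟨Y.basicOpen a, hxa, fun z hz => (haW hz).2, hU.basicOpen a,
    hpre ▸ hb ▸ hV.basicOpen _, ?_⟩
  rw [Scheme.Hom.app_eq_appLE]
  exact isLocHom_appLE_congr rfl hpre.symm (chart_basicOpen hU hV h a inf_le_right)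

theorem isLocImmersion_of_forall_chart
    (h : ∀ x : X, ∃ V : Y.Opens, f x ∈ V ∧ IsAffineOpen V ∧ IsAffineOpen (f ⁻¹ᵁ V) ∧
      LocImm.IsLocHom (f.app V).hom) : LocImm.IsLocImmersion f := by
  refine ⟨isLocalizing_iff_exists.2 fun x => ?_, fun x x' hxx => ?_⟩
  · obtain ⟨V, hx, hV, hV', hl⟩ := h x
    exact ⟨V, f ⁻¹ᵁ V, le_rfl, hV, hV', hx, by rwa [← Scheme.Hom.app_eq_appLE]⟩
  · obtain ⟨V, hx, hV, hV', hl⟩ := h x
    rw [Scheme.Hom.app_eq_appLE] at hl
    exact chart_injOn hV hV' hl hx (show f x' ∈ V from hxx ▸ hx) hxx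

theorem isLocalizing_pullback_snd {Y' : Scheme.{u}} (g : Y' ⟶ Y) (hf : LocImm.IsLocalizing f) :
    LocImm.IsLocalizing (pullback.snd f g) := by
  rw [isLocalizing_iff_exists] at hf ⊢
  intro x'
  obtain ⟨U, V, e, hU, hV, hx, h⟩ := hf (pullback.fst f g x')
  have hy : pullback.snd f g x' ∈ g ⁻¹ᵁ U := by
    show g (pullback.snd f g x') ∈ U
    rw [← Scheme.Hom.comp_apply, ← pullback.condition, Scheme.Hom.comp_apply]
    exact e hx
  obtain ⟨_, ⟨U', hU', rfl⟩, hy', hU'U⟩ :=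
    Y'.isBasis_affineOpens.exists_subset_of_mem_open hy (g ⁻¹ᵁ U).2
  have H : IsPullback (pullback.fst f g) (pullback.snd f g) f g := IsPullback.of_hasPullback f g
  set W := pullback.fst f g ⁻¹ᵁ V ⊓ pullback.snd f g ⁻¹ᵁ U' with hWdef
  have hpush := (isIso_pushoutSection_iff H (US := U) (UT := U') (UX := V) (UY := W) hU'U e rfl).1
    (isIso_pushoutSection_of_isAffineOpen H _ _ _ hU hU' hV)
  have : IsAffine U := hU
  have : IsAffine U' := hU'
  have : IsAffine V := hV
  have hWa : IsAffineOpen W := .of_isIso (Scheme.Hom.isPullback_resLE H (US := U) (UT := U') (UX := V)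
    (UY := W) hU'U e rfl).isoPullback.hom
  exact ⟨U', W, inf_le_right, hU', hWa, ⟨hx, hy'⟩, isLocHom_of_isPushout hpush h⟩

theorem isLocImmersion_pullback_snd {Y' : Scheme.{u}} (g : Y' ⟶ Y) (hf : LocImm.IsLocImmersion f) :
    LocImm.IsLocImmersion (pullback.snd f g) := by
  have := mono hf
  exact isLocImmersion_iff_mono.2 ⟨isLocalizing_pullback_snd g hf.1, inferInstance⟩

theorem isOpenImmersion_of_locallyOfFiniteType [IsLocallyNoetherian Y]
    (hf : LocImm.IsLocImmersion f) [LocallyOfFiniteType f] : IsOpenImmersion f := by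
  have := flat hf.1
  have := mono hf
  exact IsOpenImmersion.of_flat_of_mono f

theorem isOpenImmersion_of_isClosed_range [IsLocallyNoetherian Y] [NoetherianSpace X]
    (hf : LocImm.IsLocImmersion f) (hc : IsClosed (Set.range f)) : IsOpenImmersion f := by
  have := isPreimmersion hf
  have := IsClosedImmersion.of_isPreimmersion f hc
  exact isOpenImmersion_of_locallyOfFiniteType hf

theorem isLocImmersion_fromSpecStalk (x : X) : LocImm.IsLocImmersion (X.fromSpecStalk x) := by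
  refine ⟨isLocalizing_iff_exists.2 fun z => ?_, (X.fromSpecStalk x).isEmbedding.injective⟩
  obtain ⟨_, ⟨U, hU, rfl⟩, hx, -⟩ :=
    X.isBasis_affineOpens.exists_subset_of_mem_open (Set.mem_univ x) isOpen_univ
  have hr : ∀ w, X.fromSpecStalk x w ∈ U := fun w => by
    have h2 : X.fromSpecStalk x w ⤳ x := by
      have := Set.mem_range_self (f := X.fromSpecStalk x) w
      rwa [Scheme.range_fromSpecStalk] at this
    exact h2.mem_open U.2 hx
  refine ⟨U, ⊤, fun w _ => hr w, hU, isAffineOpen_top _, trivial, ?_⟩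
  have e : (X.fromSpecStalk x).appLE U ⊤ (fun w _ => hr w) =
      X.presheaf.germ U x hx ≫ (Scheme.ΓSpecIso (X.presheaf.stalk x)).inv := by
    rw [Scheme.Hom.appLE, Scheme.fromSpecStalk_app hx]
    simp only [Category.assoc, ← Functor.map_comp]
    exact congrArg (X.presheaf.germ U x hx ≫ ·) ((congrArg ((Scheme.ΓSpecIso _).inv ≫ ·)
      ((congrArg _ (Subsingleton.elim _ _)).trans ((Spec _).presheaf.map_id _))).trans (Category.comp_id _))
  rw [e, CommRingCat.hom_comp]
  refine isLocHom_comp ?_ (isLocHom_of_bijective (ConcreteCategory.bijective_of_isIso _))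
  letI := X.presheaf.algebra_section_stalk ⟨x, hx⟩
  have := hU.isLocalization_stalk ⟨x, hx⟩
  exact isLocHom_of_isLocalization (A := Γ(X, U)) (hU.primeIdealOf ⟨x, hx⟩).asIdeal.primeCompl

end Groth.LocImmersion

namespace Groth.LocImmersion

variable {X Y : Scheme.{u}}

/-- Cancellation against an open immersion. -/
theorem isLocImmersion_of_comp_ι [NoetherianSpace X] {W : Y.Opens} (k : X ⟶ W)
    (h : LocImm.IsLocImmersion (k ≫ W.ι)) : LocImm.IsLocImmersion k := by
  refine isLocImmersion_of_forall_chart fun x => ?_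
  obtain ⟨V, hx, hVW, hV, hV', hl⟩ := exists_chart_preimage h x W (k x).2
  refine ⟨W.ι ⁻¹ᵁ V, hx, hV.preimage_of_isOpenImmersion W.ι (by simpa using hVW), hV', ?_⟩
  have := W.ι.isIso_app V (by simpa using hVW)
  refine isLocHom_of_comp (φ := (W.ι.app V).hom)
    (isLocHom_of_bijective (ConcreteCategory.bijective_of_isIso _)) ?_
  rw [Scheme.Hom.comp_app] at hl
  exact hl

end Groth.LocImmersion
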