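import Groth.Agent.LocImm.Basic

/-!
Criteria for localizing immersions: separatedness, cancellation, properness.
-/

universe u

open AlgebraicGeometry CategoryTheory Limits TopologicalSpace

namespace Groth.LocImmersion

variable {X Y Z S : Scheme.{u}}

/-- A localizing morphism which is separated and injective on maximal points is injective. -/
theorem injective_of_isSeparated [NoetherianSpace X] {f : X ⟶ Y} (hf : LocImm.IsLocalizing f)
    [IsSeparated f] (h : Set.InjOn (fun x => f x) {x : X | ∀ x' : X, x' ⤳ x → x' = x}) :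
    Function.Injective f := by
  intro x x' hxx
  have hmax : ∀ z : X, ∃ w, w ⤳ z ∧ w ∈ {x : X | ∀ x' : X, x' ⤳ x → x' = x} := by
    intro z
    obtain ⟨w, hw⟩ := QuasiSober.sober (isIrreducible_irreducibleComponent (x := z))
      isClosed_irreducibleComponent
    refine ⟨w, hw.specializes mem_irreducibleComponent, fun w' hw' => ?_⟩
    have hsub : irreducibleComponent z ⊆ closure {w'} := by
      rw [← hw.def]
      exact isClosed_closure.closure_subset_iff.2 (Set.singleton_subset_iff.2 hw'.mem_closure)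
    have he := eq_irreducibleComponent isIrreducible_singleton.closure.2 hsub
    exact IsGenericPoint.eq (he ▸ isGenericPoint_closure) hw
  obtain ⟨η, hηx, hη⟩ := hmax x
  obtain ⟨η₁, h1, e1⟩ := generalizingMap hf (show f η ⤳ f x' from hxx ▸ hηx.map f.continuous)
  obtain ⟨ξ, hξ1, hξ⟩ := hmax η₁
  obtain ⟨ξ₁, h2, e2⟩ := generalizingMap hf (show f ξ ⤳ f η from e1 ▸ hξ1.map f.continuous)
  obtain rfl := hη ξ₁ h2
  obtain rfl : ξ = ξ₁ := h hξ hη e2.symm
  obtain ⟨U, V, e, hU, hV, hmem, hl⟩ := isLocalizing_iff_exists.1 hf η₁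
  have hη₁ : ξ = η₁ := chart_injOn hU hV hl (hξ1.mem_open V.2 hmem) hmem e1.symm
  subst hη₁
  obtain ⟨z, hz1, hz2⟩ := Scheme.Pullback.exists_preimage_pullback (f := f) (g := f) x x' hxx
  have hp := isLocalizing_pullback_snd f hf
  obtain ⟨z₁, hz, e3⟩ := generalizingMap hp (show ξ ⤳ pullback.snd f f z from hz2.symm ▸ h1)
  have h4 : pullback.fst f f z₁ = ξ := by
    obtain ⟨U, V, e, hU, hV, hmem, hl⟩ := isLocalizing_iff_exists.1 hf x
    refine chart_injOn hU hV hl ((hz.map (pullback.fst f f).continuous).mem_open V.2 (hz1.symm ▸ hmem))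
      (hηx.mem_open V.2 hmem) ?_
    rw [← Scheme.Hom.comp_apply, pullback.condition, Scheme.Hom.comp_apply, e3]
  have := surjectiveOnStalks hf
  have h5 : z₁ = pullback.diagonal f ξ := by
    refine (SurjectiveOnStalks.isEmbedding_pullback f f).injective ?_
    have a1 : pullback.fst f f (pullback.diagonal f ξ) = ξ := by
      rw [← Scheme.Hom.comp_apply, pullback.diagonal_fst]; rfl
    have a2 : pullback.snd f f (pullback.diagonal f ξ) = ξ := by
      rw [← Scheme.Hom.comp_apply, pullback.diagonal_snd]; rfl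
    simp only [h4, e3, a1, a2]
  have hc : IsClosed (Set.range (pullback.diagonal f)) :=
    (pullback.diagonal f).isClosedEmbedding.isClosed_range
  obtain ⟨w, hw⟩ := hz.mem_closed hc ⟨ξ, h5.symm⟩
  rw [← hz1, ← hz2, ← hw, ← Scheme.Hom.comp_apply, ← Scheme.Hom.comp_apply, pullback.diagonal_fst,
    pullback.diagonal_snd]

/-- If `g` is separated and `f ≫ g` is a localizing immersion, proper `f` are closed immersions. -/
theorem isClosedImmersion_of_comp [NoetherianSpace X] (f : X ⟶ Y) (g : Y ⟶ Z)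
    (hfg : LocImm.IsLocImmersion (f ≫ g)) [IsProper f] : IsClosedImmersion f := by
  have := isPreimmersion hfg
  have hs : SurjectiveOnStalks f := SurjectiveOnStalks.of_comp f g
  have : IsPreimmersion f :=
    ⟨Topology.IsEmbedding.of_comp f.continuous g.continuous (f ≫ g).isEmbedding⟩
  exact IsClosedImmersion.of_isPreimmersion f f.isClosedMap.isClosed_range

/-- Cancellation for localizing immersions with schematically dense first factor. -/
theorem isLocImmersion_of_comp [NoetherianSpace X] (f : X ⟶ Y) (g : Y ⟶ Z)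
    (hfg : LocImm.IsLocImmersion (f ≫ g)) (hd : ∀ U : Y.Opens, Function.Injective (f.app U).hom) :
    LocImm.IsLocImmersion f := by
  refine isLocImmersion_of_forall_chart fun x => ?_
  obtain ⟨W, hxW, -, hW, hW', hl⟩ := exists_chart_preimage hfg x ⊤ trivial
  obtain ⟨_, ⟨U, hU, rfl⟩, hxU, hUW⟩ :=
    Y.isBasis_affineOpens.exists_subset_of_mem_open (show f x ∈ g ⁻¹ᵁ W from hxW) (g ⁻¹ᵁ W).2
  obtain ⟨b, hbU, hxb⟩ := hW'.exists_basicOpen_le (V := f ⁻¹ᵁ U) ⟨x, hxU⟩ hxW
  obtain ⟨a, s, hs, hbs⟩ := (isLocHom_iff.1 hl).1 b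
  have hba : X.basicOpen b = (f ≫ g) ⁻¹ᵁ Z.basicOpen a := by
    rw [Scheme.preimage_basicOpen]
    refine Eq.trans ?_ (congrArg X.basicOpen hbs)
    rw [X.basicOpen_mul, Scheme.basicOpen_of_isUnit _ hs, inf_eq_left.2 (X.basicOpen_le b)]
  have hUa : Y.basicOpen (g.appLE W U hUW a) = U ⊓ g ⁻¹ᵁ Z.basicOpen a :=
    Scheme.basicOpen_appLE g U W hUW a
  have hpre : f ⁻¹ᵁ (U ⊓ g ⁻¹ᵁ Z.basicOpen a) = (f ≫ g) ⁻¹ᵁ Z.basicOpen a := by
    refine le_antisymm (fun z hz => hz.2) fun z hz => ⟨?_, hz⟩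
    exact hbU (hba.symm ▸ hz)
  refine ⟨U ⊓ g ⁻¹ᵁ Z.basicOpen a, ⟨hxU, ?_⟩, hUa ▸ hU.basicOpen _, hpre ▸ hba ▸ hW'.basicOpen _, ?_⟩
  · have h2 : x ∈ (f ≫ g) ⁻¹ᵁ Z.basicOpen a := hba ▸ hxb
    exact h2
  rw [Scheme.Hom.app_eq_appLE] at hl ⊢
  have h1 : LocImm.IsLocHom ((f ≫ g).appLE (Z.basicOpen a) (f ⁻¹ᵁ (U ⊓ g ⁻¹ᵁ Z.basicOpen a))
      hpre.le).hom :=
    isLocHom_appLE_congr (e := inf_le_right) rfl
      (by rw [hpre, inf_eq_right.2 ((f ≫ g).preimage_mono (Z.basicOpen_le a))])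
      (chart_basicOpen hW hW' hl a inf_le_right)
  rw [← Scheme.Hom.appLE_comp_appLE f g (Z.basicOpen a) (U ⊓ g ⁻¹ᵁ Z.basicOpen a) _ inf_le_right le_rfl,
    CommRingCat.hom_comp] at h1
  refine isLocHom_of_comp_of_injective h1 ?_
  rw [← Scheme.Hom.app_eq_appLE]
  exact hd _

/-- A section over a preimmersion is relatively closed. -/
theorem closure_range_inter_subset {V P : Scheme.{u}} (γ : V ⟶ P) (q : P ⟶ Y) [IsSeparated q]
    (j : V ⟶ Y) [IsPreimmersion j] (h : γ ≫ q = j) :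
    closure (Set.range γ) ∩ q ⁻¹' Set.range j ⊆ Set.range γ := by
  let γ' : V ⟶ pullback q j := pullback.lift γ (𝟙 _) (by rw [Category.id_comp, h])
  have hγ : γ' ≫ pullback.fst q j = γ := pullback.lift_fst _ _ _
  have hcomp : (pullback.fst q j : _ → _) ∘ γ' = γ := by rw [← hγ]; rfl
  have : IsClosedImmersion γ' := by
    have : IsClosedImmersion (γ' ≫ pullback.snd q j) := by
      simp only [γ', pullback.lift_snd]; infer_instance
    exact IsClosedImmersion.of_comp γ' (pullback.snd q j)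
  rintro z ⟨hz, hzk⟩
  rw [← Scheme.Pullback.range_fst] at hzk
  obtain ⟨w, rfl⟩ := hzk
  have hcl : IsClosed (Set.range γ') := γ'.isClosedEmbedding.isClosed_range
  have hw : w ∈ closure (Set.range γ') := by
    rw [(pullback.fst q j).isEmbedding.closure_eq_preimage_closure_image, ← Set.range_comp, hcomp]
    exact hz
  rw [hcl.closure_eq] at hw
  obtain ⟨v, rfl⟩ := hw
  exact ⟨v, congrFun hcomp.symm v⟩

/-- A separated, universally closed, locally essentially finite type morphism to a locally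
Noetherian scheme is locally of finite type, locally phrased. -/
theorem exists_openImmersion_of_universallyClosed [IsLocallyNoetherian Y] {V : X.Opens}
    [NoetherianSpace V] (f : X ⟶ S) [IsSeparated f] [UniversallyClosed f] (k : (V : Scheme.{u}) ⟶ Y)
    (p : Y ⟶ S) [IsSeparated p] (hk : LocImm.IsLocImmersion k) (h : k ≫ p = V.ι ≫ f) :
    IsOpenImmersion k := by
  have := isPreimmersion hk
  let γ : (V : Scheme.{u}) ⟶ pullback f p := pullback.lift V.ι k h.symm
  set G := Set.range γ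
  set P₁ := pullback.fst f p
  set P₂ := pullback.snd f p
  have hq : IsClosedMap P₂ := P₂.isClosedMap
  have hG1 : closure G ∩ P₂ ⁻¹' Set.range k ⊆ G :=
    closure_range_inter_subset γ P₂ k (pullback.lift_snd _ _ _)
  have hG2 : closure G ∩ P₁ ⁻¹' (V : Set X) ⊆ G := by
    have := closure_range_inter_subset γ P₁ V.ι (pullback.lift_fst _ _ _)
    rwa [Scheme.Opens.range_ι] at this
  set B := closure G ∩ (P₁ ⁻¹' (V : Set X))ᶜ
  have hB : IsClosed B := isClosed_closure.inter (V.2.preimage P₁.continuous).isClosed_compl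
  let Y₀ : Y.Opens := ⟨(P₂ '' B)ᶜ, (hq B hB).isOpen_compl⟩
  have hkY : ∀ v, k v ∈ Y₀ := by
    rintro v ⟨b, hb, hbv⟩
    obtain ⟨v', rfl⟩ := hG1 ⟨hb.1, ⟨v, hbv.symm⟩⟩
    refine hb.2 ?_
    show (γ ≫ P₁) v' ∈ (V : Set X)
    rw [pullback.lift_fst]
    exact v'.2
  let k₀ : (V : Scheme.{u}) ⟶ Y₀ := IsOpenImmersion.lift Y₀.ι k (by
    rintro _ ⟨v, rfl⟩; rw [Scheme.Opens.range_ι]; exact hkY v)
  have hk₀ : k₀ ≫ Y₀.ι = k := IsOpenImmersion.lift_fac _ _ _
  have hk₀ap : ∀ v, Y₀.ι (k₀ v) = k v := fun v => by rw [← Scheme.Hom.comp_apply, hk₀]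
  have hc : IsClosed (Set.range k₀) := by
    have e : Set.range k₀ = Y₀.ι ⁻¹' (P₂ '' closure G) := by
      ext y
      constructor
      · rintro ⟨v, rfl⟩
        exact ⟨γ v, subset_closure ⟨v, rfl⟩, by
          rw [← Scheme.Hom.comp_apply, pullback.lift_snd, hk₀ap]⟩
      · rintro ⟨z, hz, hzy⟩
        by_cases hzV : P₁ z ∈ V
        · obtain ⟨v, rfl⟩ := hG2 ⟨hz, hzV⟩
          refine ⟨v, Subtype.ext ?_⟩
          show Y₀.ι (k₀ v) = Y₀.ι y
          rw [hk₀ap, ← hzy, ← Scheme.Hom.comp_apply, pullback.lift_snd]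
        · exact absurd ⟨z, ⟨hz, hzV⟩, hzy⟩ y.2
    rw [e]
    exact (hq _ isClosed_closure).preimage Y₀.ι.continuous
  have : IsPreimmersion (k₀ ≫ Y₀.ι) := hk₀.symm ▸ inferInstance
  have := IsPreimmersion.of_comp k₀ Y₀.ι
  have := IsClosedImmersion.of_isPreimmersion k₀ hc
  have : LocallyOfFiniteType k := hk₀ ▸ inferInstance
  exact isOpenImmersion_of_locallyOfFiniteType hk

end Groth.LocImmersion
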