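import Mathlib
import Groth.Agent.PropsBasic.GenericFinite

/-! A quasi-compact locally quasi-finite morphism is finite over a dense open of the target,
without any separation hypothesis. -/

universe u

open CategoryTheory Limits AlgebraicGeometry TopologicalSpace Groth.PropsBasic2

set_option backward.isDefEq.respectTransparency.types false

namespace Groth.LocImmersion.DenseFinite

section Algebra

variable {A B : Type*} [CommRing A] [CommRing B] [Algebra A B]

theorem exists_finite_control_aux (G : Set B) : ∀ (n : ℕ) (I : Ideal B) (s : A) (m : Fin n → B),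
    ¬ IsNilpotent s → (∀ b : B, ∃ N : ℕ, (s ^ N) • b ∈
      Submodule.span A (Set.range m) ⊔ I.restrictScalars A) →
    ∃ t : A, ¬ IsNilpotent (s * t) ∧ ∃ G₀ ⊆ G, G₀.Finite ∧ ∀ Q : Ideal B, Q.IsPrime → I ≤ Q →
      algebraMap A B (s * t) ∉ Q → G₀ ⊆ Q → G ⊆ Q := by
  intro n
  induction n with
  | zero =>
    intro I s m hs hgen
    refine ⟨1, by rwa [mul_one], ∅, Set.empty_subset _, Set.finite_empty,
      fun Q hQ hIQ hsQ _ g _ => ?_⟩
    obtain ⟨N, hN⟩ := hgen g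
    rw [Set.range_eq_empty, Submodule.span_empty, bot_sup_eq, Submodule.restrictScalars_mem,
      Algebra.smul_def, map_pow] at hN
    exact (hQ.mem_or_mem (hIQ hN)).resolve_left fun h =>
      hsQ (by rw [mul_one]; exact hQ.mem_of_pow_mem N h)
  | succ k ih =>
    intro I s m hs hgen
    by_cases h : ∃ g ∈ G, ∃ (N : ℕ) (a : Fin (k + 1) → A) (i : Fin (k + 1)),
        (s ^ N) • g - ∑ j, a j • m j ∈ I ∧ ¬ IsNilpotent (s * a i)
    · obtain ⟨g, hg, N, a, i, hmem, hnil⟩ := h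
      let I' : Ideal B := I ⊔ Ideal.span {g}
      let S : Submodule A B :=
        Submodule.span A (Set.range (m ∘ i.succAbove)) ⊔ I'.restrictScalars A
      have hI' : ∀ {b : B}, b ∈ I' → b ∈ S := fun {b} hb =>
        Submodule.mem_sup_right (show b ∈ I'.restrictScalars A from hb)
      have hg' : g ∈ S := hI' (Submodule.mem_sup_right (Ideal.mem_span_singleton_self g))
      have hoth : ∀ j, j ≠ i → m j ∈ S := fun j hj => by
        obtain ⟨z, rfl⟩ := Fin.exists_succAbove_eq hj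
        exact Submodule.mem_sup_left (Submodule.subset_span ⟨z, rfl⟩)
      have hi : a i • m i ∈ S := by
        have h1 : a i • m i = (s ^ N) • g - ((s ^ N) • g - ∑ j, a j • m j) -
            ∑ j ∈ Finset.univ.erase i, a j • m j := by
          rw [sub_sub_cancel, ← Finset.add_sum_erase _ _ (Finset.mem_univ i), add_sub_cancel_right]
        rw [h1]
        exact S.sub_mem (S.sub_mem (S.smul_mem _ hg') (hI' (Submodule.mem_sup_left hmem)))
          (S.sum_mem fun j hj => S.smul_mem _ (hoth j (Finset.ne_of_mem_erase hj)))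
      have hall : ∀ x ∈ Submodule.span A (Set.range m) ⊔ I.restrictScalars A,
          (s * a i) • x ∈ S := by
        intro x hx
        obtain ⟨y, hy, z, hz, rfl⟩ := Submodule.mem_sup.mp hx
        rw [smul_add]
        refine S.add_mem ?_ (S.smul_mem _ (hI' (Submodule.mem_sup_left hz)))
        have hle : Submodule.span A (Set.range m) ≤ S.comap (LinearMap.lsmul A B (s * a i)) := by
          rw [Submodule.span_le]
          rintro _ ⟨j, rfl⟩
          show (s * a i) • m j ∈ S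
          by_cases hj : j = i
          · subst hj; rw [mul_smul]; exact S.smul_mem _ hi
          · exact S.smul_mem _ (hoth j hj)
        exact hle hy
      obtain ⟨t, ht, G₀, hG₀, hfin, hQ'⟩ := ih I' (s * a i) (m ∘ i.succAbove) hnil fun b => by
        obtain ⟨M, hM⟩ := hgen b
        refine ⟨M + 1, ?_⟩
        have h1 : (s * a i) ^ (M + 1) • b = a i ^ M • ((s * a i) • (s ^ M • b)) := by
          simp only [smul_smul]; congr 1; ring
        rw [h1]
        exact S.smul_mem _ (hall _ hM)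
      refine ⟨a i * t, by rwa [← mul_assoc], insert g G₀, Set.insert_subset hg hG₀, hfin.insert g,
        fun Q hQ hIQ hsQ hG₀Q => hQ' Q hQ (sup_le hIQ ?_) (by rwa [mul_assoc])
          ((Set.subset_insert g G₀).trans hG₀Q)⟩
      exact (Ideal.span_singleton_le_iff_mem _).mpr (hG₀Q (Set.mem_insert g G₀))
    · push Not at h
      refine ⟨1, by rwa [mul_one], ∅, Set.empty_subset _, Set.finite_empty,
        fun Q hQ hIQ hsQ _ g hg => ?_⟩
      rw [mul_one] at hsQ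
      obtain ⟨N, hN⟩ := hgen g
      obtain ⟨y, hy, z, hz, hyz⟩ := Submodule.mem_sup.mp hN
      obtain ⟨a, rfl⟩ := (Submodule.mem_span_range_iff_exists_fun A).mp hy
      have hz' : (s ^ N) • g - ∑ j, a j • m j ∈ I := by rw [← hyz, add_sub_cancel_left]; exact hz
      have haQ : ∀ j, algebraMap A B (a j) ∈ Q := fun j => by
        obtain ⟨e, he⟩ := h g hg N a j hz'
        have h0 : algebraMap A B (s * a j) ^ e ∈ Q := by rw [← map_pow, he, map_zero]; exact Q.zero_mem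
        have h1 := hQ.mem_of_pow_mem e h0
        rw [map_mul] at h1
        exact (hQ.mem_or_mem h1).resolve_left hsQ
      have h2 : (s ^ N) • g ∈ Q := by
        rw [← hyz]
        refine Q.add_mem (Q.sum_mem fun j _ => ?_) (hIQ hz)
        rw [Algebra.smul_def]; exact Q.mul_mem_right _ (haQ j)
      rw [Algebra.smul_def, map_pow] at h2
      exact (hQ.mem_or_mem h2).resolve_left fun h' => hsQ (hQ.mem_of_pow_mem N h')

/-- For a finite algebra, a union of basic opens becomes a finite union over some nonempty basic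
open of the base. -/
theorem exists_finite_control [Nontrivial A] [Module.Finite A B] (G : Set B) :
    ∃ s : A, ¬ IsNilpotent s ∧ ∃ G₀ ⊆ G, G₀.Finite ∧ ∀ Q : Ideal B, Q.IsPrime →
      algebraMap A B s ∉ Q → G₀ ⊆ Q → G ⊆ Q := by
  obtain ⟨n, m, hm⟩ := Module.Finite.exists_fin (R := A) (M := B)
  obtain ⟨t, ht, G₀, h1, h2, h3⟩ := exists_finite_control_aux G n ⊥ (1 : A) m not_isNilpotent_one
    fun b => ⟨0, Submodule.mem_sup_left (hm ▸ Submodule.mem_top)⟩
  rw [one_mul] at ht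
  exact ⟨t, ht, G₀, h1, h2, fun Q hQ hs => h3 Q hQ bot_le (by rwa [one_mul])⟩

end Algebra

variable {X Y : Scheme.{u}}

theorem exists_isCompact_of_isFinite {U V : Scheme.{u}} (g : U ⟶ V) [IsFinite g] [IsAffine V]
    [Nonempty V] (O : U.Opens) :
    ∃ D : V.Opens, IsAffineOpen D ∧ (D : Set V).Nonempty ∧ IsCompact ((O ⊓ g ⁻¹ᵁ D : U.Opens) : Set U) := by
  have : IsAffine U := isAffine_of_isAffineHom g
  let φ := g.appTop
  algebraize [φ.hom]
  have : Module.Finite Γ(V, ⊤) Γ(U, ⊤) := g.finite_appTop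
  have : Nontrivial Γ(V, ⊤) := by
    rw [← not_subsingleton_iff_nontrivial]
    intro h
    exact isEmpty_iff.mp (Function.isEmpty V.isoSpec.hom (β := PrimeSpectrum Γ(V, ⊤))) (Classical.arbitrary V)
  let hU := isAffineOpen_top U
  obtain ⟨s, hs, G₀, hG₀, hfin, hQ⟩ :=
    exists_finite_control (A := Γ(V, ⊤)) {b : Γ(U, ⊤) | U.basicOpen b ≤ O}
  refine ⟨V.basicOpen s, (isAffineOpen_top V).basicOpen s, ?_, ?_⟩
  · by_contra h
    rw [Set.not_nonempty_iff_eq_empty] at h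
    exact hs ((Scheme.isNilpotent_iff_basicOpen_eq_bot s).mpr (Opens.ext h))
  · have hmem : ∀ (b : Γ(U, ⊤)) (z : U), z ∈ U.basicOpen b ↔
        b ∉ (hU.primeIdealOf ⟨z, trivial⟩).asIdeal := fun b z => by
      have e : hU.fromSpec (hU.primeIdealOf ⟨z, trivial⟩) = z := hU.fromSpec_primeIdealOf ⟨z, trivial⟩
      have h2 : hU.primeIdealOf ⟨z, trivial⟩ ∈ hU.fromSpec ⁻¹ᵁ U.basicOpen b ↔ z ∈ U.basicOpen b := by
        show hU.fromSpec _ ∈ U.basicOpen b ↔ _
        rw [e]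
      rw [← h2, hU.fromSpec_preimage_basicOpen]
      rfl
    have hpre : g ⁻¹ᵁ V.basicOpen s = U.basicOpen (φ s) := Scheme.preimage_basicOpen g s
    have heq : ((O ⊓ g ⁻¹ᵁ V.basicOpen s : U.Opens) : Set U) =
        ⋃ b ∈ G₀, (U.basicOpen (b * φ s) : Set U) := by
      ext z
      simp only [Opens.coe_inf, hpre, Set.mem_inter_iff, Set.mem_iUnion, SetLike.mem_coe, exists_prop,
        Scheme.basicOpen_mul]
      constructor
      · rintro ⟨hzO, hzs⟩
        by_contra h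
        push Not at h
        obtain ⟨b, hb, hzb⟩ := hU.exists_basicOpen_le (V := O) ⟨z, hzO⟩ trivial
        have := hQ (hU.primeIdealOf ⟨z, trivial⟩).asIdeal inferInstance ((hmem _ z).mp hzs)
          (fun c hc => by
            by_contra hcz
            exact h c hc ((hmem c z).mpr hcz) hzs) hb
        exact (hmem b z).mp hzb this
      · rintro ⟨b, hb, hzb, hzs⟩
        exact ⟨hG₀ hb hzb, hzs⟩
    rw [heq]
    exact hfin.isCompact_biUnion fun b _ => ((isAffineOpen_top U).basicOpen _).isCompact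

theorem exists_isCompact_of_isFinite_restrict (f : X ⟶ Y) (U O : X.Opens) {V : Y.Opens}
    (hV : IsAffineOpen V) (hne : (V : Set Y).Nonempty) (hfin : IsFinite ((U.ι ≫ f) ∣_ V)) :
    ∃ V' ≤ V, IsAffineOpen V' ∧ (V' : Set Y).Nonempty ∧
      IsCompact ((U ⊓ O ⊓ f ⁻¹ᵁ V' : X.Opens) : Set X) := by
  have : IsAffine V := hV
  have : Nonempty V := hne.to_subtype
  let g := (U.ι ≫ f) ∣_ V
  let emb := ((U.ι ≫ f) ⁻¹ᵁ V).ι ≫ U.ι
  obtain ⟨D, hD, hDne, hc⟩ := exists_isCompact_of_isFinite g (emb ⁻¹ᵁ O)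
  refine ⟨V.ι ''ᵁ D, V.ι_image_le D, hD.image_of_isOpenImmersion V.ι,
    hDne.image _, ?_⟩
  convert hc.image emb.continuous using 1
  have hg : ∀ w, (g w).1 = f (emb w) := fun w => by
    show (((U.ι ≫ f) ∣_ V) w).1 = _
    rw [morphismRestrict_base]; rfl
  ext z
  constructor
  · rintro ⟨⟨hzU, hzO⟩, d, hd, hdz⟩
    let w : ((U.ι ≫ f) ⁻¹ᵁ V).toScheme := ⟨⟨z, hzU⟩, show f z ∈ V from hdz ▸ d.2⟩
    refine ⟨w, ⟨hzO, ?_⟩, rfl⟩
    show g w ∈ D
    have : g w = d := Subtype.ext ((hg w).trans hdz.symm)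
    exact this ▸ hd
  · rintro ⟨w, ⟨hwO, hwD⟩, rfl⟩
    exact ⟨⟨w.1.2, hwO⟩, g w, hwD, hg w⟩

/-- Simultaneous version for finitely many affine charts. -/
theorem exists_forall_isCompact (f : X ⟶ Y) {ι : Type*} (P : Finset ι) (U O : ι → X.Opens)
    {V : Y.Opens} (hV : IsAffineOpen V) (hne : (V : Set Y).Nonempty)
    (hfin : ∀ p ∈ P, IsFinite (((U p).ι ≫ f) ∣_ V)) :
    ∃ V' ≤ V, IsAffineOpen V' ∧ (V' : Set Y).Nonempty ∧
      ∀ p ∈ P, IsCompact ((U p ⊓ O p ⊓ f ⁻¹ᵁ V' : X.Opens) : Set X) := by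
  classical
  induction P using Finset.induction_on with
  | empty => exact ⟨V, le_rfl, hV, hne, fun p hp => by simp at hp⟩
  | insert a P ha ih =>
    obtain ⟨V₁, h₁, hV₁, hne₁, hP⟩ := ih fun p hp => hfin p (Finset.mem_insert_of_mem hp)
    have hfin₁ : ∀ p ∈ insert a P, IsFinite (((U p).ι ≫ f) ∣_ V₁) := fun p hp =>
      Groth.PropsBasic.GenericFinite.isFinite_restrict_of_le _ h₁ (hfin p hp)
    obtain ⟨V₂, h₂, hV₂, hne₂, hc⟩ := exists_isCompact_of_isFinite_restrict f (U a) (O a) hV₁ hne₁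
      (hfin₁ a (Finset.mem_insert_self a P))
    refine ⟨V₂, h₂.trans h₁, hV₂, hne₂, fun p hp => ?_⟩
    obtain rfl | hp := Finset.mem_insert.mp hp
    · exact hc
    · have aff : ∀ W : Y.Opens, IsAffineOpen W → W ≤ V₁ → IsAffineOpen (U p ⊓ f ⁻¹ᵁ W) := by
        intro W hW hWV
        have := Groth.PropsBasic.GenericFinite.isFinite_restrict_of_le _ hWV
          (hfin₁ p (Finset.mem_insert_of_mem hp))
        have : IsAffine W := hW
        have h : IsAffineOpen (((U p).ι ≫ f) ⁻¹ᵁ W) :=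
          isAffine_of_isAffineHom (((U p).ι ≫ f) ∣_ W)
        convert h.image_of_isOpenImmersion (U p).ι using 1
        ext z
        exact ⟨fun hz => ⟨⟨z, hz.1⟩, hz.2, rfl⟩, by rintro ⟨w, hw, rfl⟩; exact ⟨w.2, hw⟩⟩
      have hA := aff V₁ hV₁ le_rfl
      have hB := aff V₂ hV₂ h₂
      have key := hA.isQuasiSeparated _ _ (fun z hz => ⟨hz.1.1, hz.2⟩)
        (U p ⊓ O p ⊓ f ⁻¹ᵁ V₁).2 (hP p hp) (fun z hz => ⟨hz.1, h₂ hz.2⟩) (U p ⊓ f ⁻¹ᵁ V₂).2
        hB.isCompact
      convert key using 1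
      ext z
      exact ⟨fun hz => ⟨⟨hz.1, h₂ hz.2⟩, hz.1.1, hz.2⟩, fun hz => ⟨hz.1.1, hz.2.2⟩⟩

/-- Every nonempty open contains a nonempty affine open over which `f` is quasi-separated. -/
theorem exists_quasiSeparated_restrict (f : X ⟶ Y) [LocallyQuasiFinite f] [LocallyOfFiniteType f]
    [QuasiCompact f] {W : Y.Opens} (hW : (W : Set Y).Nonempty) :
    ∃ V ≤ W, IsAffineOpen V ∧ (V : Set Y).Nonempty ∧ QuasiSeparated (f ∣_ V) := by
  classical
  obtain ⟨y, hy⟩ := hW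
  obtain ⟨_, ⟨V₀ : Y.Opens, hV₀, rfl⟩, hyV₀, hV₀W⟩ :=
    Y.isBasis_affineOpens.exists_subset_of_mem_open hy W.2
  obtain ⟨η, hη, hηy⟩ := exists_genericPoint_specializes (y : ↥Y)
  have hηV₀ : η ∈ V₀ := hηy.mem_open V₀.2 hyV₀
  obtain ⟨S, hS, hcov⟩ := isCompact_and_isOpen_iff_finite_and_eq_biUnion_affineOpens.mp
    ⟨f.isCompact_preimage hV₀.isCompact, (f ⁻¹ᵁ V₀).2⟩
  have := hS.fintype
  have hfin : (f ⁻¹' {η}).Finite := f.finite_preimage_singleton η
  have hloc : ∀ U : S, ∃ V ≤ V₀, IsAffineOpen V ∧ η ∈ V ∧ IsFinite (((U.1 : X.Opens).ι ≫ f) ∣_ V) := by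
    intro U
    have : IsAffine (U.1 : X.Opens) := U.1.2
    refine Groth.PropsBasic.GenericFinite.exists_isFinite_of_isAffine _ hη hV₀ hηV₀
      (top_le_iff.mp fun u _ => ?_) ((hfin.preimage (U.1 : X.Opens).ι.isOpenEmbedding.injective.injOn).subset
        fun u hu => hu)
    exact hcov.ge (Set.mem_biUnion U.2 u.2)
  choose V hVle hVaff hηV hVfin using hloc
  let O : Y.Opens := V₀ ⊓ ⟨⋂ U, (V U : Set Y), isOpen_iInter_of_finite fun U => (V U).2⟩
  obtain ⟨_, ⟨V₁ : Y.Opens, hV₁, rfl⟩, hηV₁, hV₁O⟩ :=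
    Y.isBasis_affineOpens.exists_subset_of_mem_open
      (show η ∈ O from ⟨hηV₀, Set.mem_iInter.mpr hηV⟩) O.2
  obtain ⟨V₂, hV₂₁, hV₂, hne, hc⟩ := exists_forall_isCompact f (Finset.univ : Finset (S × S))
    (fun p => (p.1.1 : X.Opens)) (fun p => (p.2.1 : X.Opens)) hV₁ ⟨η, hηV₁⟩ fun p _ =>
      Groth.PropsBasic.GenericFinite.isFinite_restrict_of_le _
        (fun z hz => Set.mem_iInter.mp (hV₁O hz).2 p.1) (hVfin p.1)
  have hle : V₂ ≤ V₀ := fun z hz => (hV₁O (hV₂₁ hz)).1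
  refine ⟨V₂, fun z hz => hV₀W (hle hz), hV₂, hne, ?_⟩
  have : IsAffine V₂ := hV₂
  refine (quasiSeparated_iff_quasiSeparatedSpace _).mpr ?_
  let T : S → (f ⁻¹ᵁ V₂).toScheme.Opens := fun U => (f ⁻¹ᵁ V₂).ι ⁻¹ᵁ (U.1 : X.Opens)
  refine Scheme.quasiSeparatedSpace_of_isOpenCover T ?_ (fun U => ?_) (fun U U' => ?_)
  · refine top_le_iff.mp fun z _ => ?_
    obtain ⟨U, hU, hzU⟩ := Set.mem_iUnion₂.mp (hcov.le (show z.1 ∈ f ⁻¹ᵁ V₀ from hle z.2))
    exact Opens.mem_iSup.mpr ⟨⟨U, hU⟩, hzU⟩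
  · have := Groth.PropsBasic.GenericFinite.isFinite_restrict_of_le _
      (fun z hz => Set.mem_iInter.mp (hV₁O (hV₂₁ hz)).2 U : V₂ ≤ V U) (hVfin U)
    have h : IsAffineOpen (((U.1 : X.Opens).ι ≫ f) ⁻¹ᵁ V₂) :=
      isAffine_of_isAffineHom (((U.1 : X.Opens).ι ≫ f) ∣_ V₂)
    have h' := (h.image_of_isOpenImmersion (U.1 : X.Opens).ι).preimage_of_isOpenImmersion
      (f ⁻¹ᵁ V₂).ι (by
        rw [Scheme.Opens.opensRange_ι]
        rintro _ ⟨w, hw, rfl⟩
        exact hw)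
    convert h' using 1
    ext z
    refine ⟨fun hz => ⟨⟨z.1, hz⟩, z.2, rfl⟩, ?_⟩
    rintro ⟨w, -, hwz⟩
    show z.1 ∈ (U.1 : X.Opens)
    rw [show z.1 = w.1 from hwz.symm]
    exact w.2
  · rw [(f ⁻¹ᵁ V₂).ι.isOpenEmbedding.isCompact_iff]
    convert hc (U, U') (Finset.mem_univ _) using 1
    ext z
    exact ⟨by rintro ⟨w, hw, rfl⟩; exact ⟨hw, w.2⟩, fun hz => ⟨⟨z, hz.2⟩, hz.1, rfl⟩⟩

/-- Every nonempty open contains a nonempty open over which `f` is finite. -/
theorem exists_isFinite_restrict (f : X ⟶ Y) [LocallyQuasiFinite f] [LocallyOfFiniteType f]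
    [QuasiCompact f] {W : Y.Opens} (hW : (W : Set Y).Nonempty) :
    ∃ V ≤ W, (V : Set Y).Nonempty ∧ IsFinite (f ∣_ V) := by
  obtain ⟨V, hVW, -, ⟨y, hy⟩, hqs⟩ := exists_quasiSeparated_restrict f hW
  obtain ⟨η, hη, -⟩ := exists_genericPoint_specializes (α := V.toScheme) (show V.toScheme from ⟨y, hy⟩)
  obtain ⟨V', -, hηV', hfin⟩ := Groth.PropsBasic.GenericFinite.exists_affine_nhd_isFinite (f ∣_ V)
    hη ((f ∣_ V).finite_preimage_singleton η)
  refine ⟨V.ι ''ᵁ V', (V.ι_image_le V').trans hVW, ⟨η.1, η, hηV', rfl⟩, ?_⟩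
  exact ((MorphismProperty.arrow_mk_iso_iff @IsFinite (morphismRestrictRestrict f V V')).mp hfin)

end Groth.LocImmersion.DenseFinite
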