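import Groth.Agent.LocImm.Criteria
import Groth.Prelude.Def_EssFT

/-!
Local factorisation of essentially finite type morphisms as localizing immersion followed by finite type.
-/

universe u

open AlgebraicGeometry CategoryTheory Limits TopologicalSpace

namespace Groth.LocImmersion

variable {X Y S : Scheme.{u}}

theorem isLocImmersion_Spec_map {A B : CommRingCat.{u}} {φ : A ⟶ B} (h : LocImm.IsLocHom φ.hom) :
    LocImm.IsLocImmersion (Spec.map φ) := by
  refine isLocImmersion_of_forall_chart fun x => ⟨⊤, trivial, isAffineOpen_top _, ?_, ?_⟩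
  · exact isAffineOpen_top (Spec B)
  · have e : (Spec.map φ).app ⊤ = (Scheme.ΓSpecIso A).hom ≫ φ ≫ (Scheme.ΓSpecIso B).inv := by
      rw [Scheme.ΓSpecIso_inv_naturality, Iso.hom_inv_id_assoc]
    rw [e]
    exact isLocHom_comp (φ := (Scheme.ΓSpecIso A).hom.hom)
      (isLocHom_of_bijective (ConcreteCategory.bijective_of_isIso _))
      (isLocHom_comp h (ψ := (Scheme.ΓSpecIso B).inv.hom)
        (isLocHom_of_bijective (ConcreteCategory.bijective_of_isIso _)))

/-- Local factorisation. -/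
theorem exists_local_factor [IsLocallyNoetherian S] (f : X ⟶ S) [EssFT.LocallyEssFiniteType f] (x : X) :
    ∃ (V : X.Opens) (Y : Scheme.{u}) (k : (V : Scheme.{u}) ⟶ Y) (p : Y ⟶ S), x ∈ V ∧
      IsAffineOpen V ∧ IsNoetherian Y ∧ LocImm.IsLocImmersion k ∧ IsSeparated p ∧
      LocallyOfFiniteType p ∧ QuasiCompact p ∧ k ≫ p = V.ι ≫ f := by
  obtain ⟨⟨U, hU⟩, ⟨V, hV⟩, hx, e, hE⟩ :=
    EssFT.LocallyEssFiniteType.exists_appLE_essFiniteType (f := f) x
  dsimp only at hx e hE
  let φ := f.appLE U V e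
  letI := φ.hom.toAlgebra
  have : Algebra.EssFiniteType Γ(S, U) Γ(X, V) := hE
  let C := Algebra.EssFiniteType.subalgebra Γ(S, U) Γ(X, V)
  have : IsNoetherianRing Γ(S, U) := IsLocallyNoetherian.component_noetherian ⟨U, hU⟩
  have : IsNoetherianRing C := Algebra.FiniteType.isNoetherianRing Γ(S, U) C
  let a : Γ(S, U) ⟶ CommRingCat.of C := CommRingCat.ofHom (algebraMap Γ(S, U) C)
  let b : CommRingCat.of C ⟶ Γ(X, V) := CommRingCat.ofHom (algebraMap C Γ(X, V))
  have hab : a ≫ b = φ := by ext t; rfl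
  have ha : a.hom.FiniteType := RingHom.finiteType_algebraMap.2 inferInstance
  have : LocallyOfFiniteType (Spec.map a) := (HasRingHomProperty.Spec_iff (P := @LocallyOfFiniteType)).2 ha
  refine ⟨V, Spec (CommRingCat.of C), hV.isoSpec.hom ≫ Spec.map b, Spec.map a ≫ hU.fromSpec, hx, hV,
    inferInstance, ?_, inferInstance, inferInstance, inferInstance, ?_⟩
  · exact isLocImmersion_comp (isLocImmersion_of_isOpenImmersion _) (isLocImmersion_Spec_map
      (isLocHom_of_isLocalization (A := C) (B := Γ(X, V))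
        (Algebra.EssFiniteType.submonoid Γ(S, U) Γ(X, V))))
  · rw [Category.assoc, ← Spec.map_comp_assoc, hab,
      IsAffineOpen.SpecMap_appLE_fromSpec f hU hV e, ← hV.isoSpec_inv_ι]
    simp only [Category.assoc, Iso.hom_inv_id_assoc]

/-- Separated universally closed morphisms essentially of finite type are proper. -/
theorem isProper_of_universallyClosed [IsLocallyNoetherian X] [IsLocallyNoetherian S] (f : X ⟶ S)
    [IsSeparated f] [EssFT.LocallyEssFiniteType f] [UniversallyClosed f] : IsProper f := by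
  have : LocallyOfFiniteType f := by
    choose V Y k p hx hV hY hk hp hlft hqc hcomp using fun x : X => exists_local_factor f x
    refine IsZariskiLocalAtSource.of_iSup_eq_top (P := @LocallyOfFiniteType) V
      (eq_top_iff.2 fun x _ => TopologicalSpace.Opens.mem_iSup.2 ⟨x, hx x⟩) fun x => ?_
    have : NoetherianSpace (V x) := by
      have := IsLocallyNoetherian.component_noetherian ⟨V x, hV x⟩
      exact noetherianSpace_of_isAffineOpen (V x) (hV x)
    have := hY x
    have := hp x
    have := hlft x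
    have := exists_openImmersion_of_universallyClosed f (k x) (p x) (hk x) (hcomp x)
    rw [← hcomp x]
    infer_instance
  exact ⟨⟩

theorem isLocalizing_of_cover (f : X ⟶ Y)
    (h : ∀ x : X, ∃ (U : Scheme.{u}) (u : U ⟶ X) (_ : IsOpenImmersion u),
      x ∈ Set.range u ∧ LocImm.IsLocalizing (u ≫ f)) : LocImm.IsLocalizing f := by
  refine isLocalizing_iff_exists.2 fun x => ?_
  obtain ⟨U, u, hu, ⟨z, rfl⟩, hl⟩ := h x
  obtain ⟨W, V, e, hW, hV, hz, hl⟩ := isLocalizing_iff_exists.1 hl z
  have e1 : u ''ᵁ V ≤ f ⁻¹ᵁ W := by rintro _ ⟨v, hv, rfl⟩; exact e hv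
  refine ⟨W, u ''ᵁ V, e1, hW, hV.image_of_isOpenImmersion u, ⟨z, hz, rfl⟩, ?_⟩
  rw [← Scheme.Hom.appLE_comp_appLE u f W (u ''ᵁ V) V e1 (u.preimage_image_eq V).ge,
    CommRingCat.hom_comp] at hl
  obtain ⟨r1, r2⟩ := isLocHom_iff.1 hl
  let i := (u.appLE (u ''ᵁ V) V (u.preimage_image_eq V).ge).hom
  have hi : Function.Bijective i := by
    show Function.Bijective (u.appLE _ _ _).hom
    rw [← Scheme.Hom.appIso_hom']
    exact ConcreteCategory.bijective_of_isIso _
  refine isLocHom_iff.2 ⟨fun b => ?_, fun a ha => ?_⟩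
  · obtain ⟨a, s, hs, e⟩ := r1 (i b)
    refine ⟨a, s, ?_, hi.1 ?_⟩
    · exact (MulEquiv.isUnit_map (RingEquiv.ofBijective i hi)).1 hs
    · rw [map_mul]; exact e
  · obtain ⟨s, hs, e⟩ := r2 a (by rw [RingHom.comp_apply, ha, map_zero])
    exact ⟨s, (MulEquiv.isUnit_map (RingEquiv.ofBijective i hi)).1 hs, e⟩

end Groth.LocImmersion
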