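import Groth.Agent.LocImm.FiniteFactor
import Groth.Agent.Hensel1.Finite

/-!
Quasi-finite separated schemes over henselian local rings: the finite part.
-/

universe u

open AlgebraicGeometry CategoryTheory Limits TopologicalSpace

namespace Groth.LocImmersion

variable (R : Type u) [CommRing R] [HenselianLocalRing R]

/-- The spectrum of a finite algebra over a henselian local ring has enough clopen local pieces. -/
theorem exists_clopen_local (B : Type u) [CommRing B] [Algebra R B] [Module.Finite R B]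
    (P : PrimeSpectrum B) :
    ∃ (M : PrimeSpectrum B) (V : Set (PrimeSpectrum B)), M.asIdeal.IsMaximal ∧ IsClopen V ∧
      P ∈ V ∧ M ∈ V ∧ ∀ Q ∈ V, Q ⤳ M := by
  classical
  obtain ⟨ι, hι, e, he, hloc⟩ := Groth.Hensel1.exists_completeOrthogonalIdempotents_local R B
  obtain ⟨i, hi⟩ : ∃ i, e i ∉ P.asIdeal := by
    by_contra h
    push Not at h
    exact P.isPrime.ne_top ((Ideal.eq_top_iff_one _).2 (he.complete ▸ sum_mem fun i _ => h i))
  have := hloc i
  let M₀ := (IsLocalRing.maximalIdeal (B ⧸ Ideal.span {1 - e i})).comap (Ideal.Quotient.mk _)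
  have hM₀ : M₀.IsMaximal := Ideal.comap_isMaximal_of_surjective _ Ideal.Quotient.mk_surjective
  have hidem : IsIdempotentElem (e i) := he.idem i
  have hmem : ∀ Q : PrimeSpectrum B, e i ∉ Q.asIdeal → Ideal.span {1 - e i} ≤ Q.asIdeal := by
    intro Q hQ
    rw [Ideal.span_le, Set.singleton_subset_iff]
    have h0 : e i * (1 - e i) ∈ Q.asIdeal := by
      rw [show e i * (1 - e i) = 0 by rw [mul_sub, mul_one, hidem.eq, sub_self]]
      exact zero_mem _
    exact (Q.isPrime.mem_or_mem h0).resolve_left hQ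
  have hle : Ideal.span {1 - e i} ≤ M₀ := fun b hb => by
    show Ideal.Quotient.mk (Ideal.span {1 - e i}) b ∈ IsLocalRing.maximalIdeal _
    rw [Ideal.Quotient.eq_zero_iff_mem.2 hb]
    exact zero_mem _
  refine ⟨⟨M₀, hM₀.isPrime⟩, PrimeSpectrum.basicOpen (e i), hM₀, ?_, hi, ?_, fun Q hQ => ?_⟩
  · exact PrimeSpectrum.isClopen_iff.2 ⟨e i, hidem, rfl⟩
  · intro h
    refine hM₀.ne_top ((Ideal.eq_top_iff_one _).2 ?_)
    have h1 : 1 - e i ∈ M₀ := hle (Ideal.mem_span_singleton_self _)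
    have := add_mem h1 (show e i ∈ M₀ from h)
    rwa [sub_add_cancel] at this
  · rw [← PrimeSpectrum.le_iff_specializes]
    intro b hb
    show Ideal.Quotient.mk (Ideal.span {1 - e i}) b ∈ IsLocalRing.maximalIdeal _
    refine (IsLocalRing.mem_maximalIdeal _).2 fun hu => Q.isPrime.ne_top ((Ideal.eq_top_iff_one _).2 ?_)
    obtain ⟨c, hc⟩ := Ideal.Quotient.mk_surjective (↑hu.unit⁻¹ : B ⧸ Ideal.span {1 - e i})
    have h1 : b * c - 1 ∈ Ideal.span {1 - e i} := by
      rw [← Ideal.Quotient.eq, map_mul, hc, map_one]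
      exact hu.mul_val_inv
    have := sub_mem (Q.asIdeal.mul_mem_right c hb) (hmem Q hQ h1)
    rwa [sub_sub_cancel] at this

variable {X : Scheme.{u}} (f : X ⟶ Spec (CommRingCat.of R))

theorem exists_specializes_closedPoint (W : X.Opens) (hW : IsClosed (W : Set X))
    [IsFinite (W.ι ≫ f)] {x : X} (hx : x ∈ W) :
    ∃ c, x ⤳ c ∧ f c = IsLocalRing.closedPoint R := by
  have hc : IsClosed ((W.ι ≫ f) '' closure {(⟨x, hx⟩ : W)}) :=
    (W.ι ≫ f).isClosedMap _ isClosed_closure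
  have h1 : IsLocalRing.closedPoint R ∈ (W.ι ≫ f) '' closure {(⟨x, hx⟩ : W)} :=
    (IsLocalRing.specializes_closedPoint ((W.ι ≫ f) ⟨x, hx⟩)).mem_closed hc
      ⟨_, subset_closure rfl, rfl⟩
  obtain ⟨c, hc1, hc2⟩ := h1
  exact ⟨W.ι c, (specializes_iff_mem_closure.2 hc1).map W.ι.continuous,
    by rw [← Scheme.Hom.comp_apply]; exact hc2⟩

theorem existsUnique_finite_part [LocallyQuasiFinite f] [LocallyOfFiniteType f] [QuasiCompact f]
    [IsSeparated f] :
    ∃! W : X.Opens, IsClosed (W : Set X) ∧ IsFinite (W.ι ≫ f) ∧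
      ∀ x : X, f x = IsLocalRing.closedPoint R → x ∈ W := by
  obtain ⟨T, j₀, π₀, hj₀, hπ₀, hf₀⟩ := exists_isOpenImmersion_comp_isFinite f
  have : IsAffine T := isAffine_of_isAffineHom π₀
  let φ := (Scheme.ΓSpecIso (CommRingCat.of R)).inv ≫ π₀.appTop
  let j : X ⟶ Spec Γ(T, ⊤) := j₀ ≫ T.isoSpec.hom
  have hπ : T.isoSpec.hom ≫ Spec.map φ = π₀ := by
    show T.isoSpec.hom ≫ Spec.map ((Scheme.ΓSpecIso (CommRingCat.of R)).inv ≫ π₀.appTop) = π₀
    rw [Spec.map_comp, ← Category.assoc, Scheme.isoSpec_hom_naturality, Category.assoc,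
      Scheme.isoSpec_Spec_hom, ← Spec.map_comp, Iso.inv_hom_id, Spec.map_id]
    exact Category.comp_id π₀
  have hf : j ≫ Spec.map φ = f := by rw [Category.assoc, hπ, hf₀]
  have : IsFinite (Spec.map φ) := by
    have : IsFinite (T.isoSpec.hom ≫ Spec.map φ) := hπ.symm ▸ hπ₀
    exact (MorphismProperty.cancel_left_of_respectsIso @IsFinite T.isoSpec.hom _).1 this
  have hφ : φ.hom.Finite := (IsFinite.SpecMap_iff φ).1 this
  let := φ.hom.toAlgebra
  have hfin : Module.Finite R Γ(T, ⊤) := hφ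
  choose M V hM hV hPV hMV hspec using exists_clopen_local R Γ(T, ⊤)
  have hmax : ∀ Q : PrimeSpectrum Γ(T, ⊤), (Spec.map φ) Q = IsLocalRing.closedPoint R → M Q = Q := by
    intro Q hQ
    have : Algebra.IsIntegral R Γ(T, ⊤) := Algebra.IsIntegral.of_finite R _
    have h1 : (Q.asIdeal.comap (algebraMap R Γ(T, ⊤))).IsMaximal := by
      have e : Q.asIdeal.comap (algebraMap R Γ(T, ⊤)) = IsLocalRing.maximalIdeal R :=
        congrArg PrimeSpectrum.asIdeal hQ
      rw [e]; infer_instance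
    have hQmax : Q.asIdeal.IsMaximal := Ideal.isMaximal_of_isIntegral_of_isMaximal_comap Q.asIdeal h1
    exact PrimeSpectrum.ext (hQmax.eq_of_le (M Q).isPrime.ne_top
      ((PrimeSpectrum.le_iff_specializes _ _).2 (hspec Q Q (hPV Q)))).symm
  let UT : (Spec Γ(T, ⊤)).Opens := ⟨⋃ t ∈ {t | M t ∈ Set.range j}, V t,
    isOpen_biUnion fun t _ => (hV t).isOpen⟩
  have hUT : ∀ s, s ∈ UT → s ∈ Set.range j := by
    intro s hs
    obtain ⟨t, ht, hst⟩ := Set.mem_iUnion₂.1 hs
    exact (hspec t s hst).mem_open j.opensRange.2 ht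
  have hUTc : IsClosed (UT : Set (Spec Γ(T, ⊤))) := by
    refine isClosed_of_closure_subset fun s hs => ?_
    obtain ⟨s', hs's, hs'⟩ := mem_closure_iff.1 hs _ (hV s).isOpen (hPV s)
    obtain ⟨t, ht, hst⟩ := Set.mem_iUnion₂.1 hs'
    refine Set.mem_iUnion₂.2 ⟨s, ?_, hPV s⟩
    have h1 : M t ∈ V s := (hspec t s' hst).mem_closed (hV s).isClosed hs's
    have h3 := (PrimeSpectrum.le_iff_specializes _ _).2 (hspec s _ h1)
    have h2 : M t = M s := PrimeSpectrum.ext ((hM t).eq_of_le (M s).isPrime.ne_top h3)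
    show M s ∈ Set.range j
    rw [← h2]; exact ht
  have hfib : ∀ x : X, f x = IsLocalRing.closedPoint R → j x ∈ UT := by
    intro x hx
    refine Set.mem_iUnion₂.2 ⟨j x, ⟨x, (hmax _ ?_).symm⟩, hPV (j x)⟩
    rw [← Scheme.Hom.comp_apply, hf]; exact hx
  have hU : IsFinite ((j ⁻¹ᵁ UT).ι ≫ f) := by
    have e : (j ⁻¹ᵁ UT).ι ≫ f = (j ∣_ UT) ≫ UT.ι ≫ Spec.map φ := by
      rw [← Category.assoc, morphismRestrict_ι, Category.assoc, hf]
    have : IsClosedImmersion UT.ι :=
      IsClosedImmersion.of_isPreimmersion _ (by rw [Scheme.Opens.range_ι]; exact hUTc)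
    have hsurj : Function.Surjective (j ∣_ UT) := fun s => by
      obtain ⟨x, hx⟩ := hUT s.1 s.2
      refine ⟨⟨x, show j x ∈ UT from hx ▸ s.2⟩, Subtype.ext ?_⟩
      rw [morphismRestrict_base]; exact hx
    have : IsIso (j ∣_ UT) := (isIso_iff_isOpenImmersion_and_epi_base _).2
      ⟨inferInstance, (TopCat.epi_iff_surjective _).2 hsurj⟩
    rw [e]
    infer_instance
  refine ⟨j ⁻¹ᵁ UT, ⟨hUTc.preimage j.continuous, hU, hfib⟩, ?_⟩
  rintro W ⟨hW, hWf, hWx⟩
  apply le_antisymm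
  · intro x hx
    obtain ⟨c, hxc, hc⟩ := exists_specializes_closedPoint R f W hW hx
    exact hxc.mem_open (j ⁻¹ᵁ UT).2 (hfib c hc)
  · intro x hx
    obtain ⟨c, hxc, hc⟩ := exists_specializes_closedPoint R f (j ⁻¹ᵁ UT) (hUTc.preimage j.continuous) hx
    exact hxc.mem_open W.2 (hWx c hc)

end Groth.LocImmersion
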