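import Groth.Agent.LocImm.Basic
import Groth.Agent.Divisors.IdealComap

/-!
Ideal sheaves along localizing immersions.
-/

universe u

open AlgebraicGeometry CategoryTheory Limits TopologicalSpace

namespace Groth.LocImmersion

variable {X Y : Scheme.{u}}

theorem comap_map_eq [NoetherianSpace X] {f : X ⟶ Y} [QuasiCompact f] (hf : LocImm.IsLocImmersion f)
    (I : X.IdealSheafData) : (I.map f).comap f = I := by
  refine le_antisymm (Scheme.IdealSheafData.comap_map_le _ f) ?_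
  choose V hxV hle hV hV' hl using fun x => exists_chart_preimage hf x ⊤ trivial
  refine Scheme.IdealSheafData.le_of_iSup_eq_top (fun x => ⟨f ⁻¹ᵁ V x, hV' x⟩)
    (eq_top_iff.2 fun x _ => TopologicalSpace.Opens.mem_iSup.2 ⟨x, hxV x⟩) fun x => ?_
  rw [Groth.Divisors.ideal_comap_affine (I.map f) f ⟨V x, hV x⟩ ⟨_, hV' x⟩ le_rfl,
    Scheme.IdealSheafData.ideal_map I f ⟨V x, hV x⟩ (hV' x)]
  intro b hb
  show b ∈ Ideal.map (f.appLE (V x) (f ⁻¹ᵁ V x) le_rfl).hom _
  rw [← Scheme.Hom.app_eq_appLE]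
  obtain ⟨a, s, hs, e⟩ := (isLocHom_iff.1 (hl x)).1 b
  have h1 : (f.app (V x)).hom a ∈ Ideal.map (f.app (V x)).hom
      (Ideal.comap (f.app (V x)).hom (I.ideal ⟨_, hV' x⟩)) :=
    Ideal.mem_map_of_mem _ (by rw [Ideal.mem_comap, ← e]; exact Ideal.mul_mem_right _ _ hb)
  rw [← e] at h1
  obtain ⟨u, hu⟩ := hs.exists_right_inv
  have h2 := Ideal.mul_mem_right u _ h1
  rwa [mul_assoc, hu, mul_one] at h2

end Groth.LocImmersion
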