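import Mathlib
import Groth.Agent.LocImm.Birational

/-! The relative normalization in a normal integral scheme is normal, and the canonical map to it
is birational when the morphism is dominant and locally quasi-finite. -/

universe u

open CategoryTheory Limits AlgebraicGeometry TopologicalSpace

set_option backward.isDefEq.respectTransparency.types false

namespace Groth.LocImmersion.NormalizationBirational

theorem exists_integral_smul_of_quasiFinite {A B L : Type u} [CommRing A] [IsDomain A] [CommRing B]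
    [Algebra A B] [Field L] [Algebra A L] (hinj : Function.Injective (algebraMap A L))
    (φ : B →ₐ[A] L) [Algebra.QuasiFinite A B] (b : B) :
    ∃ a : A, a ≠ 0 ∧ IsIntegral A (algebraMap A L a * φ b) := by
  let K := FractionRing A
  have : FaithfulSMul A L := (faithfulSMul_iff_algebraMap_injective A L).mpr hinj
  letI : Algebra K L := FractionRing.liftAlgebra A L
  have : Module.Finite K (TensorProduct A K B) := Module.Finite.of_quasiFinite
  let ψ : TensorProduct A K B →ₐ[K] L :=
    Algebra.TensorProduct.lift (Algebra.ofId K L) φ fun _ _ => Commute.all _ _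
  have h1 : IsIntegral K (φ b) := by
    have := (IsIntegral.of_finite K ((1 : K) ⊗ₜ[A] b)).map ψ
    simpa [ψ] using this
  have h2 : IsAlgebraic A (φ b) := (IsFractionRing.isAlgebraic_iff A K L).mpr h1.isAlgebraic
  obtain ⟨a, ha, hint⟩ := h2.exists_integral_multiple
  exact ⟨a, ha, by rwa [← Algebra.smul_def]⟩

theorem isIntegrallyClosed_integralClosure {A B : Type u} [CommRing A] [CommRing B] [IsDomain B]
    [Algebra A B] [IsIntegrallyClosed B] : IsIntegrallyClosed (integralClosure A B) := by
  rw [isIntegrallyClosed_iff (FractionRing (integralClosure A B))]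
  intro z hz
  let F := FractionRing B
  let ι : integralClosure A B →+* F := (algebraMap B F).comp (integralClosure A B).val.toRingHom
  have hι : Function.Injective ι := (IsFractionRing.injective B F).comp Subtype.val_injective
  let Φ : FractionRing (integralClosure A B) →+* F := IsFractionRing.lift hι
  have hΦ : ∀ c, Φ (algebraMap _ _ c) = ι c := fun c => IsFractionRing.lift_algebraMap hι c
  obtain ⟨p, hp, hpz⟩ := hz
  have hcomp : Φ.comp (algebraMap _ _) = ι := RingHom.ext hΦ
  have h1 : IsIntegral B (Φ z) := by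
    refine ⟨p.map (integralClosure A B).val.toRingHom, hp.map _, ?_⟩
    have h := Polynomial.hom_eval₂ p
      (algebraMap (integralClosure A B) (FractionRing (integralClosure A B))) Φ z
    rw [hpz, map_zero, hcomp] at h
    rw [Polynomial.eval₂_map]
    exact h.symm
  obtain ⟨b, hb⟩ := IsIntegrallyClosed.algebraMap_eq_of_integral h1
  have h2 : IsIntegral (integralClosure A B) b := by
    refine ⟨p, hp, IsFractionRing.injective B F ?_⟩
    have h := Polynomial.hom_eval₂ p
      (algebraMap (integralClosure A B) (FractionRing (integralClosure A B))) Φ z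
    rw [hpz, map_zero, hcomp] at h
    rw [Polynomial.hom_eval₂, map_zero, hb]
    exact h.symm
  refine ⟨⟨b, isIntegral_trans (R := A) b h2⟩, Φ.injective ?_⟩
  rw [hΦ]; exact hb

theorem apply_genericPoint {X Y : Scheme.{u}} [IrreducibleSpace X] [IrreducibleSpace Y] (g : X ⟶ Y)
    [IsDominant g] : g (genericPoint X) = genericPoint Y := by
  have h := (genericPoint_spec X).image g.continuous
  rw [Set.image_univ, g.denseRange.closure_range] at h
  exact h.eq (genericPoint_spec Y)

variable {X Y : Scheme.{u}} [IsIntegral X] (f : X ⟶ Y) [QuasiCompact f] [QuasiSeparated f]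

theorem nonempty_preimage_affine {V : Y.Opens} (n : f.normalization)
    (hn : f.fromNormalization n ∈ V) : Nonempty (f ⁻¹ᵁ V : X.Opens) := by
  obtain ⟨x, hm⟩ := f.toNormalization.denseRange.exists_mem_open
    (f.fromNormalization ⁻¹ᵁ V).2 ⟨n, hn⟩
  exact ⟨⟨x, show f x ∈ V by
    rw [← f.toNormalization_fromNormalization, Scheme.Hom.comp_apply]; exact hm⟩⟩

theorem isIntegrallyClosed_stalk (hN : ∀ x : X, IsIntegrallyClosed (X.presheaf.stalk x))
    (n : f.normalization) : IsIntegrallyClosed (f.normalization.presheaf.stalk n) := by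
  obtain ⟨_, ⟨V : Y.Opens, hV, rfl⟩, hnV, -⟩ :=
    Y.isBasis_affineOpens.exists_subset_of_mem_open (Set.mem_univ (f.fromNormalization n)) isOpen_univ
  have hV' : IsAffineOpen (f.fromNormalization ⁻¹ᵁ V) := hV.preimage _
  have : Nonempty (f.fromNormalization ⁻¹ᵁ V) := ⟨⟨n, hnV⟩⟩
  have : Nonempty (f ⁻¹ᵁ V) := nonempty_preimage_affine f n hnV
  letI := (f.app V).hom.toAlgebra
  have : IsIntegrallyClosed Γ(X, f ⁻¹ᵁ V) := Groth.Variety2.isIntegrallyClosed_Γ hN _
  have : IsIntegrallyClosed (integralClosure Γ(Y, V) Γ(X, f ⁻¹ᵁ V)) :=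
    isIntegrallyClosed_integralClosure
  have : IsIntegrallyClosed Γ(f.normalization, f.fromNormalization ⁻¹ᵁ V) :=
    IsIntegrallyClosed.of_equiv (f.normalizationObjIso hV).commRingCatIsoToRingEquiv.symm
  letI := (f.normalization.presheaf.germ (f.fromNormalization ⁻¹ᵁ V) n hnV).hom.toAlgebra
  have := hV'.isLocalization_stalk ⟨n, hnV⟩
  exact isIntegrallyClosed_of_isLocalization _ (hV'.primeIdealOf ⟨n, hnV⟩).asIdeal.primeCompl
    (Ideal.primeCompl_le_nonZeroDivisors _)

theorem isIso_stalkMap_toNormalization [IsIntegral Y] [IsDominant f] [LocallyQuasiFinite f]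
    (hN : ∀ x : X, IsIntegrallyClosed (X.presheaf.stalk x)) :
    IsIso (f.toNormalization.stalkMap (genericPoint X)) := by
  let L := X.functionField
  let ξ := genericPoint X
  let m : f.normalization.presheaf.stalk (f.toNormalization ξ) ⟶ L := f.toNormalization.stalkMap ξ
  have hfield : IsField (f.normalization.presheaf.stalk (f.toNormalization ξ)) := by
    rw [apply_genericPoint f.toNormalization]
    exact Field.toIsField f.normalization.functionField
  let := hfield.toField
  refine (ConcreteCategory.isIso_iff_bijective _).mpr ⟨m.hom.injective, ?_⟩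
  obtain ⟨_, ⟨V : Y.Opens, hV, rfl⟩, hξV, -⟩ :=
    Y.isBasis_affineOpens.exists_subset_of_mem_open (Set.mem_univ (f ξ)) isOpen_univ
  obtain ⟨_, ⟨U : X.Opens, hU, rfl⟩, hξU, hUV⟩ :=
    X.isBasis_affineOpens.exists_subset_of_mem_open hξV (f ⁻¹ᵁ V).2
  have : Nonempty U := ⟨⟨ξ, hξU⟩⟩
  have : Nonempty V := ⟨⟨f ξ, hξV⟩⟩
  have : Nonempty (f ⁻¹ᵁ V) := ⟨⟨ξ, hξV⟩⟩
  let φ : Γ(X, U) →+* L := (X.germToFunctionField U).hom
  letI := (f.appLE V U hUV).hom.toAlgebra
  letI : Algebra Γ(Y, V) L := (φ.comp (f.appLE V U hUV).hom).toAlgebra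
  have hgerm : ∀ a, algebraMap Γ(Y, V) L a = X.germToFunctionField (f ⁻¹ᵁ V) (f.app V a) := by
    intro a
    show X.germToFunctionField U (f.appLE V U hUV a) = _
    rw [Scheme.Hom.appLE, CommRingCat.comp_apply]
    exact X.presheaf.germ_res_apply _ _ _ _
  have hinj : Function.Injective (algebraMap Γ(Y, V) L) := by
    intro a b h
    rw [hgerm, hgerm] at h
    have hfield' : IsField (Y.presheaf.stalk (f ξ)) := by
      rw [apply_genericPoint f]
      exact Field.toIsField Y.functionField
    let := hfield'.toField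
    apply germ_injective_of_isIntegral Y (f ξ) hξV
    apply (f.stalkMap ξ).hom.injective
    exact (Scheme.Hom.germ_stalkMap_apply f V ξ hξV a).trans (h.trans
      (Scheme.Hom.germ_stalkMap_apply f V ξ hξV b).symm)
  have key : ∀ z : L, IsIntegral Γ(Y, V) z → z ∈ m.hom.fieldRange := by
    intro z hz
    letI := (f.app V).hom.toAlgebra
    let φ' : Γ(X, f ⁻¹ᵁ V) →+* L := (X.germToFunctionField (f ⁻¹ᵁ V)).hom
    letI : Algebra Γ(X, f ⁻¹ᵁ V) L := φ'.toAlgebra
    have : IsScalarTower Γ(Y, V) Γ(X, f ⁻¹ᵁ V) L := IsScalarTower.of_algebraMap_eq hgerm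
    have hz' : IsIntegral Γ(X, f ⁻¹ᵁ V) z := hz.tower_top
    obtain ⟨c, hc⟩ := Groth.Variety2.exists_section_of_forall_stalk (f ⁻¹ᵁ V) z fun x hx => by
      letI := (X.presheaf.germ (f ⁻¹ᵁ V) x hx).hom.toAlgebra
      have : IsScalarTower Γ(X, f ⁻¹ᵁ V) (X.presheaf.stalk x) L :=
        functionField_isScalarTower X (f ⁻¹ᵁ V) ⟨x, hx⟩
      have := hN x
      exact IsIntegrallyClosed.isIntegral_iff.1 (hz'.tower_top (A := X.presheaf.stalk x))
    have hcint : IsIntegral Γ(Y, V) c := by
      rw [← hc] at hz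
      exact (isIntegral_algebraMap_iff (X.germToFunctionField_injective (f ⁻¹ᵁ V))).mp hz
    let s := (f.normalizationObjIso hV).inv ⟨c, hcint⟩
    have hξN : f.toNormalization ξ ∈ f.fromNormalization ⁻¹ᵁ V := by
      show f.fromNormalization (f.toNormalization ξ) ∈ V
      rw [← Scheme.Hom.comp_apply, f.toNormalization_fromNormalization]; exact hξV
    refine ⟨f.normalization.presheaf.germ _ _ hξN s, ?_⟩
    rw [← hc]
    show f.toNormalization.stalkMap ξ _ = _
    rw [Scheme.Hom.germ_stalkMap_apply]
    have h1 := congr($(f.normalizationObjIso_hom_val hV) s)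
    rw [CommRingCat.comp_apply, Iso.inv_hom_id_apply] at h1
    rw [show c = _ from h1, Scheme.Hom.appLE, CommRingCat.comp_apply]
    exact (X.presheaf.germ_res_apply _ _ _ _).symm
  have hbasic : ∀ b, φ b ∈ m.hom.fieldRange := by
    have : Algebra.QuasiFinite Γ(Y, V) Γ(X, U) :=
      HasRingHomProperty.appLE @LocallyQuasiFinite f inferInstance ⟨V, hV⟩ ⟨U, hU⟩ hUV
    intro b
    let φa : Γ(X, U) →ₐ[Γ(Y, V)] L := { φ with commutes' := fun _ => rfl }
    obtain ⟨a, ha, hint⟩ := exists_integral_smul_of_quasiFinite hinj φa b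
    have ha' := key _ (isIntegral_algebraMap (x := a))
    have hne : algebraMap Γ(Y, V) L a ≠ 0 := (map_ne_zero_iff _ hinj).mpr ha
    have : φ b = (algebraMap Γ(Y, V) L a * φa b) / algebraMap Γ(Y, V) L a := by
      rw [mul_div_cancel_left₀ _ hne]; rfl
    rw [this]
    exact div_mem (key _ hint) ha'
  intro z
  have := functionField_isFractionRing_of_isAffineOpen X U hU
  obtain ⟨b₁, b₂, -, rfl⟩ := IsFractionRing.div_surjective Γ(X, U) z
  exact div_mem (hbasic b₁) (hbasic b₂)

end Groth.LocImmersion.NormalizationBirational
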