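import Groth.Prelude.Def_W4c5cptfessfintypeLocImm
import Mathlib

/-!
Localizing ring maps: characterisation, composition, cancellation, base change.
-/

universe u

open CategoryTheory

namespace Groth.LocImmersion

variable {A B C : Type*} [CommRing A] [CommRing B] [CommRing C]

/-- A ring map is localizing iff every element of the target is a fraction with invertible
denominator and every element of the kernel is killed by an element mapping to a unit. -/
theorem isLocHom_iff {φ : A →+* B} : LocImm.IsLocHom φ ↔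
    (∀ b : B, ∃ a s : A, IsUnit (φ s) ∧ b * φ s = φ a) ∧
      (∀ a : A, φ a = 0 → ∃ s : A, IsUnit (φ s) ∧ s * a = 0) := by
  letI := φ.toAlgebra
  constructor
  · rintro ⟨S, hS⟩
    refine ⟨fun b => ?_, fun a ha => ?_⟩
    · obtain ⟨⟨a, s⟩, h⟩ := IsLocalization.surj S b
      exact ⟨a, s, IsLocalization.map_units B s, h⟩
    · obtain ⟨s, hs⟩ := (IsLocalization.map_eq_zero_iff S B a).1 ha
      exact ⟨s, IsLocalization.map_units B s, hs⟩
  · rintro ⟨h1, h2⟩
    refine ⟨(IsUnit.submonoid B).comap φ, ⟨⟨?_, ?_, ?_⟩⟩⟩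
    · rintro ⟨s, hs⟩
      exact hs
    · intro b
      obtain ⟨a, s, hs, h⟩ := h1 b
      exact ⟨⟨a, ⟨s, hs⟩⟩, h⟩
    · intro a a' h
      obtain ⟨s, hs, hs'⟩ := h2 (a - a') (by rw [map_sub, sub_eq_zero]; exact h)
      exact ⟨⟨s, hs⟩, sub_eq_zero.1 (by rw [← mul_sub]; exact hs')⟩

theorem isLocHom_of_isLocalization [Algebra A B] (S : Submonoid A) [IsLocalization S B] :
    LocImm.IsLocHom (algebraMap A B) := by
  refine isLocHom_iff.2 ⟨fun b => ?_, fun a ha => ?_⟩
  · obtain ⟨⟨a, s⟩, h⟩ := IsLocalization.surj S b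
    exact ⟨a, s, IsLocalization.map_units B s, h⟩
  · obtain ⟨s, hs⟩ := (IsLocalization.map_eq_zero_iff S B a).1 ha
    exact ⟨s, IsLocalization.map_units B s, hs⟩

theorem isLocHom_of_bijective {φ : A →+* B} (h : Function.Bijective φ) : LocImm.IsLocHom φ := by
  refine isLocHom_iff.2 ⟨fun b => ?_, fun a ha => ⟨1, by simp, ?_⟩⟩
  · obtain ⟨a, rfl⟩ := h.2 b
    exact ⟨a, 1, by simp, by simp⟩
  · rw [one_mul]
    exact h.1 (by rw [ha, map_zero])

theorem isLocHom_comp {φ : A →+* B} {ψ : B →+* C} (hφ : LocImm.IsLocHom φ)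
    (hψ : LocImm.IsLocHom ψ) : LocImm.IsLocHom (ψ.comp φ) := by
  obtain ⟨p1, p2⟩ := isLocHom_iff.1 hφ
  obtain ⟨q1, q2⟩ := isLocHom_iff.1 hψ
  refine isLocHom_iff.2 ⟨fun c => ?_, fun a ha => ?_⟩
  · obtain ⟨b, t, ht, e1⟩ := q1 c
    obtain ⟨a, s, hs, e2⟩ := p1 t
    obtain ⟨a', s', hs', e3⟩ := p1 b
    refine ⟨a' * s, a * s', ?_, ?_⟩
    · simp only [RingHom.comp_apply, map_mul, ← e2]
      exact (ht.mul (hs.map ψ)).mul (hs'.map ψ)
    · simp only [RingHom.comp_apply, map_mul, ← e2, ← e3, ← e1]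
      ring
  · obtain ⟨t, ht, e1⟩ := q2 (φ a) ha
    obtain ⟨a', s, hs, e2⟩ := p1 t
    have h0 : φ (a' * a) = 0 := by
      rw [map_mul, ← e2, mul_right_comm, e1, zero_mul]
    obtain ⟨v, hv, e3⟩ := p2 _ h0
    refine ⟨v * a', ?_, by rw [mul_assoc]; exact e3⟩
    simp only [RingHom.comp_apply, map_mul, ← e2]
    exact (hv.map ψ).mul (ht.mul (hs.map ψ))

/-- Cancellation: if `φ` and `ψ ∘ φ` are localizing then so is `ψ`. -/
theorem isLocHom_of_comp {φ : A →+* B} {ψ : B →+* C} (hφ : LocImm.IsLocHom φ)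
    (h : LocImm.IsLocHom (ψ.comp φ)) : LocImm.IsLocHom ψ := by
  obtain ⟨p1, p2⟩ := isLocHom_iff.1 hφ
  obtain ⟨r1, r2⟩ := isLocHom_iff.1 h
  refine isLocHom_iff.2 ⟨fun c => ?_, fun b hb => ?_⟩
  · obtain ⟨a, s, hs, e⟩ := r1 c
    exact ⟨φ a, φ s, hs, e⟩
  · obtain ⟨a, s, hs, e⟩ := p1 b
    obtain ⟨v, hv, e2⟩ := r2 a (by rw [RingHom.comp_apply, ← e, map_mul, hb, zero_mul])
    refine ⟨φ v, hv, hs.mul_left_cancel ?_⟩
    rw [mul_zero, mul_comm, mul_assoc, e, ← map_mul, e2, map_zero]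

/-- If `ψ ∘ φ` is localizing and `ψ` is injective then `ψ` is localizing. -/
theorem isLocHom_of_comp_of_injective {φ : A →+* B} {ψ : B →+* C}
    (h : LocImm.IsLocHom (ψ.comp φ)) (hψ : Function.Injective ψ) : LocImm.IsLocHom ψ := by
  obtain ⟨r1, r2⟩ := isLocHom_iff.1 h
  refine isLocHom_iff.2 ⟨fun c => ?_, fun b hb => ⟨1, by simp, ?_⟩⟩
  · obtain ⟨a, s, hs, e⟩ := r1 c
    exact ⟨φ a, φ s, hs, e⟩
  · rw [one_mul]
    exact hψ (by rw [hb, map_zero])

theorem exists_isLocalization {φ : A →+* B} (h : LocImm.IsLocHom φ) :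
    letI := φ.toAlgebra
    ∃ S : Submonoid A, IsLocalization S B := h

theorem surjectiveOnStalks_of_isLocHom {φ : A →+* B} (h : LocImm.IsLocHom φ) :
    φ.SurjectiveOnStalks := by
  letI := φ.toAlgebra
  obtain ⟨S, hS⟩ : ∃ S : Submonoid A, IsLocalization S B := h
  have : (algebraMap A B).SurjectiveOnStalks := RingHom.surjectiveOnStalks_of_isLocalization (M := S) B
  rwa [RingHom.algebraMap_toAlgebra] at this

theorem flat_of_isLocHom {A B : Type u} [CommRing A] [CommRing B] {φ : A →+* B}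
    (h : LocImm.IsLocHom φ) : φ.Flat := by
  letI := φ.toAlgebra
  obtain ⟨S, hS⟩ : ∃ S : Submonoid A, IsLocalization S B := h
  exact IsLocalization.flat B S

theorem isPreimmersion_Spec_map {A B : CommRingCat.{u}} {φ : A ⟶ B}
    (h : LocImm.IsLocHom φ.hom) : AlgebraicGeometry.IsPreimmersion (AlgebraicGeometry.Spec.map φ) := by
  letI := φ.hom.toAlgebra
  obtain ⟨S, hS⟩ : ∃ S : Submonoid A, IsLocalization S B := h
  exact AlgebraicGeometry.IsPreimmersion.of_isLocalization (R := A) (S := B) S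

/-- Localizing ring maps are stable under pushouts. -/
theorem isLocHom_of_isPushout {A B A' B' : CommRingCat.{u}} {a : A ⟶ B} {b : A ⟶ A'}
    {i : B ⟶ B'} {j : A' ⟶ B'} (h : IsPushout a b i j) (ha : LocImm.IsLocHom a.hom) :
    LocImm.IsLocHom j.hom := by
  letI := a.hom.toAlgebra
  letI := b.hom.toAlgebra
  letI := i.hom.toAlgebra
  letI := j.hom.toAlgebra
  letI : Algebra A B' := (i.hom.comp a.hom).toAlgebra
  have hw : i.hom.comp a.hom = j.hom.comp b.hom := congrArg CommRingCat.Hom.hom h.w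
  have : IsScalarTower A B B' := .of_algebraMap_eq' rfl
  have : IsScalarTower A A' B' := .of_algebraMap_eq' hw
  obtain ⟨S, hS⟩ : ∃ S : Submonoid A, IsLocalization S B := ha
  have hp : Algebra.IsPushout A B A' B' := CommRingCat.isPushout_iff_isPushout.1 h
  have : IsLocalization (Algebra.algebraMapSubmonoid A' S) B' :=
    (Algebra.isLocalization_iff_isPushout S (A := B)).2 hp.symm
  exact isLocHom_of_isLocalization (A := A') (B := B') (Algebra.algebraMapSubmonoid A' S)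

end Groth.LocImmersion
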