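import Groth.Agent.LocImm.SpreadRing
import Groth.Agent.LocImm.Factor

/-!
Spreading out localizing immersions: a separated essentially finite type morphism under a localizing
immersion is a localizing immersion near the image.
-/

universe u

open AlgebraicGeometry CategoryTheory Limits TopologicalSpace

namespace Groth.LocImmersion

variable {X Y Z S : Scheme.{u}}

instance : MorphismProperty.IsStableUnderBaseChange @EssFT.LocallyEssFiniteType :=
  HasRingHomProperty.isStableUnderBaseChange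
    (RingHom.locally_isStableUnderBaseChange RingHom.EssFiniteType.respectsIso
      RingHom.EssFiniteType.isStableUnderBaseChange)

instance : MorphismProperty.IsStableUnderComposition @EssFT.LocallyEssFiniteType :=
  HasRingHomProperty.stableUnderComposition
    (RingHom.locally_stableUnderComposition RingHom.EssFiniteType.respectsIso
      RingHom.EssFiniteType.isStableUnderBaseChange.localizationPreserves
      RingHom.EssFiniteType.stableUnderComposition)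

theorem locallyEssFiniteType_of_isLocalizing {f : X ⟶ Y} (hf : LocImm.IsLocalizing f) :
    EssFT.LocallyEssFiniteType f := by
  refine ⟨fun x => ?_⟩
  obtain ⟨U, V, hx, e, h⟩ := hf x
  refine ⟨U, V, hx, e, ?_⟩
  algebraize [(f.appLE U.1 V.1 e).hom]
  obtain ⟨M, hM⟩ : ∃ M : Submonoid Γ(Y, U.1), IsLocalization M Γ(X, V.1) := h
  exact Algebra.EssFiniteType.of_isLocalization Γ(X, V.1) M

theorem locallyEssFiniteType_of_locallyOfFiniteType (f : X ⟶ Y) [LocallyOfFiniteType f] :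
    EssFT.LocallyEssFiniteType f := by
  refine ⟨fun x => ?_⟩
  obtain ⟨_, ⟨U, hU, rfl⟩, hfx, -⟩ :=
    Y.isBasis_affineOpens.exists_subset_of_mem_open (Set.mem_univ (f x)) isOpen_univ
  obtain ⟨_, ⟨V, hV, rfl⟩, hx, hVU⟩ :=
    X.isBasis_affineOpens.exists_subset_of_mem_open (show x ∈ f ⁻¹ᵁ U from hfx) (f ⁻¹ᵁ U).2
  exact ⟨⟨U, hU⟩, ⟨V, hV⟩, hx, hVU, (f.finiteType_appLE hU hV hVU).essFiniteType⟩

theorem isLocallyNoetherian_of_locallyEssFiniteType (f : X ⟶ Y) [IsLocallyNoetherian Y]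
    [EssFT.LocallyEssFiniteType f] : IsLocallyNoetherian X := by
  choose U V hx e h using EssFT.LocallyEssFiniteType.exists_appLE_essFiniteType (f := f)
  refine isLocallyNoetherian_of_affine_cover (S := V) ?_ fun x => ?_
  · exact eq_top_iff.2 fun x _ => TopologicalSpace.Opens.mem_iSup.2 ⟨x, hx x⟩
  · have := IsLocallyNoetherian.component_noetherian (U x)
    have h := h x
    algebraize [(f.appLE (U x).1 (V x).1 (e x)).hom]
    exact Algebra.EssFiniteType.isNoetherianRing Γ(Y, (U x).1) Γ(X, (V x).1)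

theorem locallyEssFiniteType_comp {f : X ⟶ Y} {g : Y ⟶ Z} [hf : EssFT.LocallyEssFiniteType f]
    [hg : EssFT.LocallyEssFiniteType g] : EssFT.LocallyEssFiniteType (f ≫ g) :=
  MorphismProperty.comp_mem _ f g hf hg

/-- Two closed conditions avoiding a pair of generization-stable sets avoid neighbourhoods of them. -/
theorem exists_opens_avoiding {P A₁ A₂ : Type*} [TopologicalSpace P] [TopologicalSpace A₁]
    [TopologicalSpace A₂] [NoetherianSpace P] [QuasiSober P] (q₁ : P → A₁) (q₂ : P → A₂)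
    (hq₁ : Continuous q₁) (hq₂ : Continuous q₂) {B : Set P} (hB : IsClosed B) {K₁ : Set A₁} {K₂ : Set A₂}
    (hK₁ : StableUnderGeneralization K₁) (hK₂ : StableUnderGeneralization K₂)
    (h : ∀ p ∈ B, q₁ p ∈ K₁ → q₂ p ∈ K₂ → False) :
    ∃ (O₁ : Opens A₁) (O₂ : Opens A₂), K₁ ⊆ O₁ ∧ K₂ ⊆ O₂ ∧
      ∀ p ∈ B, q₁ p ∈ O₁ → q₂ p ∈ O₂ → False := by
  obtain ⟨G, hG, hGB, hgen⟩ := exists_finite_generic hB
  let G₁ := {g ∈ G | q₁ g ∉ K₁}
  let G₂ := {g ∈ G | q₂ g ∉ K₂}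
  refine ⟨⟨(⋃ g ∈ G₁, closure {q₁ g})ᶜ, ((hG.subset fun _ h => h.1).isClosed_biUnion
      fun _ _ => isClosed_closure).isOpen_compl⟩,
    ⟨(⋃ g ∈ G₂, closure {q₂ g})ᶜ, ((hG.subset fun _ h => h.1).isClosed_biUnion
      fun _ _ => isClosed_closure).isOpen_compl⟩, ?_, ?_, ?_⟩
  · intro a ha hmem
    obtain ⟨g, hg, hga⟩ := Set.mem_iUnion₂.1 hmem
    exact hg.2 (hK₁ (specializes_iff_mem_closure.2 hga) ha)
  · intro a ha hmem
    obtain ⟨g, hg, hga⟩ := Set.mem_iUnion₂.1 hmem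
    exact hg.2 (hK₂ (specializes_iff_mem_closure.2 hga) ha)
  · intro p hp h₁ h₂
    obtain ⟨g, hg, hgp⟩ := hgen p hp
    by_cases hg₁ : q₁ g ∈ K₁
    · exact h₂ (Set.mem_iUnion₂.2 ⟨g, ⟨hg, fun hg₂ => h g (hGB hg) hg₁ hg₂⟩,
        (hgp.map hq₂).mem_closure⟩)
    · exact h₁ (Set.mem_iUnion₂.2 ⟨g, ⟨hg, hg₁⟩, (hgp.map hq₁).mem_closure⟩)

/-- A chart near a point where the stalk map is an isomorphism. -/
theorem exists_chart_of_isIso_stalkMap [IsLocallyNoetherian Z] (g : Y ⟶ Z)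
    [EssFT.LocallyEssFiniteType g] (y : Y) [IsIso (g.stalkMap y)] :
    ∃ (U : Z.Opens) (V : Y.Opens) (e : V ≤ g ⁻¹ᵁ U), IsAffineOpen U ∧ IsAffineOpen V ∧ y ∈ V ∧
      LocImm.IsLocHom (g.appLE U V e).hom := by
  obtain ⟨⟨U, hU⟩, ⟨V, hV⟩, hy, e, hE⟩ :=
    EssFT.LocallyEssFiniteType.exists_appLE_essFiniteType (f := g) y
  dsimp only at hy e hE
  let φ := (g.appLE U V e).hom
  letI := φ.toAlgebra
  have : Algebra.EssFiniteType Γ(Z, U) Γ(Y, V) := hE
  have : IsNoetherianRing Γ(Z, U) := IsLocallyNoetherian.component_noetherian ⟨U, hU⟩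
  let C := Algebra.EssFiniteType.subalgebra Γ(Z, U) Γ(Y, V)
  have hgy : g y ∈ U := e hy
  let γy : Γ(Y, V) →+* Y.presheaf.stalk y := (Y.presheaf.germ V y hy).hom
  let γz : Γ(Z, U) →+* Z.presheaf.stalk (g y) := (Z.presheaf.germ U (g y) hgy).hom
  let σ : Z.presheaf.stalk (g y) →+* Y.presheaf.stalk y := (g.stalkMap y).hom
  have hσ : Function.Bijective σ := ConcreteCategory.bijective_of_isIso (g.stalkMap y)
  have hcomm : ∀ a, σ (γz a) = γy (φ a) := fun a => by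
    have h1 : Z.presheaf.germ U (g y) hgy ≫ g.stalkMap y = g.appLE U V e ≫ Y.presheaf.germ V y hy := by
      rw [Scheme.Hom.germ_stalkMap, Scheme.Hom.appLE, Category.assoc, Y.presheaf.germ_res]
    exact congrArg (fun m => m.hom a) h1
  have hlz : LocImm.IsLocHom γz := by
    letI := Z.presheaf.algebra_section_stalk ⟨g y, hgy⟩
    have := hU.isLocalization_stalk ⟨g y, hgy⟩
    exact isLocHom_of_isLocalization (A := Γ(Z, U)) (hU.primeIdealOf ⟨g y, hgy⟩).asIdeal.primeCompl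
  have hly : LocImm.IsLocHom γy := by
    letI := Y.presheaf.algebra_section_stalk ⟨y, hy⟩
    have := hV.isLocalization_stalk ⟨y, hy⟩
    exact isLocHom_of_isLocalization (A := Γ(Y, V)) (hV.primeIdealOf ⟨y, hy⟩).asIdeal.primeCompl
  let T := Algebra.EssFiniteType.submonoid Γ(Z, U) Γ(Y, V)
  let ιC : C →+* Γ(Y, V) := algebraMap C Γ(Y, V)
  have hlC : LocImm.IsLocHom ιC := isLocHom_of_isLocalization T
  have hιC : ∀ a, ιC (algebraMap Γ(Z, U) C a) = φ a := fun a => rfl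
  obtain ⟨p1, p2⟩ := isLocHom_iff.1 hlz
  obtain ⟨r1, r2⟩ := isLocHom_iff.1 (isLocHom_comp hlC hly)
  let p : Submonoid Γ(Z, U) := (IsUnit.submonoid _).comap γz
  let q : Submonoid C := (IsUnit.submonoid _).comap (γy.comp ιC)
  obtain ⟨c, hc, hloc⟩ := exists_isLocHom_away p q
    (fun a ha => by
      show IsUnit (γy (ιC (algebraMap _ C a)))
      rw [hιC, ← hcomm]
      exact (show IsUnit (γz a) from ha).map σ)
    (fun x => by
      obtain ⟨t, ht⟩ := hσ.2 (γy (ιC x))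
      obtain ⟨a, s, hs, e1⟩ := p1 t
      have h0 : (γy.comp ιC) (x * algebraMap _ C s - algebraMap _ C a) = 0 := by
        simp only [RingHom.comp_apply, map_sub, map_mul, hιC, ← hcomm, ← ht, ← e1, sub_self]
      obtain ⟨u, hu, hu0⟩ := r2 _ h0
      exact ⟨a, s, hs, u, hu, hu0⟩)
    (fun d ⟨c, hc, hcd⟩ => by
      have h0 : γz d = 0 := hσ.1 (by
        rw [map_zero, hcomm, ← hιC]
        exact (show IsUnit (γy (ιC c)) from hc).mul_right_eq_zero.1 (by
          rw [← map_mul, ← map_mul, hcd, map_zero, map_zero]))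
      obtain ⟨s, hs, hs0⟩ := p2 d h0
      exact ⟨s, hs, hs0⟩)
  let b : Γ(Y, V) := ιC c
  have hby : y ∈ Y.basicOpen b := (Y.mem_basicOpen b y hy).2 hc
  refine ⟨U, Y.basicOpen b, (Y.basicOpen_le b).trans e, hU, hV.basicOpen b, hby, ?_⟩
  let res : Γ(Y, V) →+* Γ(Y, Y.basicOpen b) := (Y.presheaf.map (homOfLE (Y.basicOpen_le b)).op).hom
  have hres : LocImm.IsLocHom res := isLocHom_res_basicOpen hV b
  have hcu : IsUnit ((res.comp ιC) c) := by
    have := hV.isLocalization_basicOpen b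
    exact IsLocalization.Away.algebraMap_isUnit (S := Γ(Y, Y.basicOpen b)) b
  let l : Localization.Away c →+* Γ(Y, Y.basicOpen b) := IsLocalization.Away.lift c hcu
  have hl : l.comp (algebraMap C (Localization.Away c)) = res.comp ιC :=
    IsLocalization.Away.lift_comp c hcu
  have hlloc : LocImm.IsLocHom l :=
    isLocHom_of_comp (isLocHom_of_isLocalization (A := C) (Submonoid.powers c))
      (hl.symm ▸ isLocHom_comp hlC hres)
  have := isLocHom_comp hloc hlloc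
  rw [← RingHom.comp_assoc, hl] at this
  have e2 : (g.appLE U (Y.basicOpen b) ((Y.basicOpen_le b).trans e)).hom = res.comp φ := by
    rw [← Scheme.Hom.appLE_map g e (homOfLE (Y.basicOpen_le b)).op, CommRingCat.hom_comp]
  rw [e2]
  exact this

theorem isLocalizing_opens_ι_comp (g : Y ⟶ Z) (W : Y.Opens)
    (h : ∀ y ∈ W, ∃ (U : Z.Opens) (V : Y.Opens) (e : V ≤ g ⁻¹ᵁ U), IsAffineOpen U ∧ IsAffineOpen V ∧
      y ∈ V ∧ V ≤ W ∧ LocImm.IsLocHom (g.appLE U V e).hom) :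
    LocImm.IsLocalizing (W.ι ≫ g) := by
  refine isLocalizing_iff_exists.2 fun y => ?_
  obtain ⟨U, V, e, hU, hV, hy, hVW, h⟩ := h y.1 y.2
  have hV' : IsAffineOpen (W.ι ⁻¹ᵁ V) := hV.preimage_of_isOpenImmersion W.ι (by simpa using hVW)
  refine ⟨U, W.ι ⁻¹ᵁ V, fun z hz => e hz, hU, hV', hy, ?_⟩
  rw [← Scheme.Hom.appLE_comp_appLE W.ι g U V (W.ι ⁻¹ᵁ V) e le_rfl, CommRingCat.hom_comp]
  refine isLocHom_comp h (isLocHom_of_bijective ?_)
  rw [← Scheme.Hom.app_eq_appLE]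
  have := W.ι.isIso_app V (by simpa using hVW)
  exact ConcreteCategory.bijective_of_isIso _

theorem exists_nhd_isLocImmersion [IsLocallyNoetherian Z] [NoetherianSpace X] [CompactSpace Y] [IsLocallyNoetherian Y]
    (f₁ : X ⟶ Y) (f₂ : X ⟶ Z) (g : Y ⟶ Z) [EssFT.LocallyEssFiniteType g] [QuasiCompact g]
    (hf₁ : StableUnderGeneralization (Set.range f₁)) (hiso : ∀ x, IsIso (f₁.stalkMap x))
    (hf₂ : LocImm.IsLocImmersion f₂) (h : f₁ ≫ g = f₂) :
    ∃ U : Y.Opens, Set.range f₁ ⊆ (U : Set Y) ∧ LocImm.IsLocImmersion (U.ι ≫ g) := by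
  subst h
  have hK : ∀ x, IsIso (g.stalkMap (f₁ x)) := fun x => by
    have h1 := isIso_stalkMap hf₂.1 x
    have h2 := hiso x
    rw [Scheme.Hom.stalkMap_comp] at h1
    exact @IsIso.of_isIso_comp_right _ _ _ _ _ (g.stalkMap (f₁ x)) (f₁.stalkMap x) h2 h1
  let Ch : Set Y.Opens := {V | IsAffineOpen V ∧ ∃ (U : Z.Opens) (e : V ≤ g ⁻¹ᵁ U), IsAffineOpen U ∧
    LocImm.IsLocHom (g.appLE U V e).hom}
  let P := pullback g g
  have : EssFT.LocallyEssFiniteType (pullback.fst g g) := MorphismProperty.pullback_fst _ _ inferInstance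
  have : IsLocallyNoetherian P := isLocallyNoetherian_of_locallyEssFiniteType (pullback.fst g g)
  have : CompactSpace P := QuasiCompact.compactSpace_of_compactSpace (pullback.fst g g)
  have : IsNoetherian P := ⟨⟩
  let B : Set P := (⋃ V ∈ Ch, (pullback.fst g g ⁻¹' (V : Set Y)) ∩ (pullback.snd g g ⁻¹' (V : Set Y)))ᶜ
  have hB : IsClosed B := (isOpen_biUnion fun V _ =>
    (V.2.preimage (pullback.fst g g).continuous).inter (V.2.preimage (pullback.snd g g).continuous)).isClosed_compl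
  obtain ⟨O₁, O₂, hO₁, hO₂, hO⟩ := exists_opens_avoiding (pullback.fst g g) (pullback.snd g g)
    (pullback.fst g g).continuous (pullback.snd g g).continuous hB hf₁ hf₁ (by
      rintro z hz ⟨x, hx⟩ ⟨x', hx'⟩
      have hxx : x = x' := hf₂.2 (by
        show (f₁ ≫ g) x = (f₁ ≫ g) x'
        rw [Scheme.Hom.comp_apply, Scheme.Hom.comp_apply, hx, hx', ← Scheme.Hom.comp_apply,
          pullback.condition, Scheme.Hom.comp_apply])
      subst hxx
      have := hK x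
      obtain ⟨U, V, e, hU, hV, hy, hl⟩ := exists_chart_of_isIso_stalkMap g (f₁ x)
      refine hz (Set.mem_iUnion₂.2 ⟨V, ⟨hV, U, e, hU, hl⟩, ?_, ?_⟩)
      · exact show pullback.fst g g z ∈ V from hx ▸ hy
      · exact show pullback.snd g g z ∈ V from hx' ▸ hy)
  let U₀ : Y.Opens := ⨆ V : Ch, V.1
  refine ⟨O₁ ⊓ O₂ ⊓ U₀, ?_, ?_, ?_⟩
  · rintro _ ⟨x, rfl⟩
    refine ⟨⟨hO₁ ⟨x, rfl⟩, hO₂ ⟨x, rfl⟩⟩, ?_⟩
    have := hK x
    obtain ⟨U, V, e, hU, hV, hy, hl⟩ := exists_chart_of_isIso_stalkMap g (f₁ x)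
    exact TopologicalSpace.Opens.mem_iSup.2 ⟨⟨V, hV, U, e, hU, hl⟩, hy⟩
  · refine isLocalizing_opens_ι_comp g _ fun y hy => ?_
    obtain ⟨⟨V, hV, U, e, hU, hl⟩, hyV⟩ := TopologicalSpace.Opens.mem_iSup.1 hy.2
    obtain ⟨b, hb, hyb⟩ := hV.exists_basicOpen_le (V := O₁ ⊓ O₂ ⊓ U₀) ⟨y, hy⟩ hyV
    exact ⟨U, Y.basicOpen b, (Y.basicOpen_le b).trans e, hU, hV.basicOpen b, hyb, hb,
      chart_source hV hl b⟩
  · rintro ⟨y, hy⟩ ⟨y', hy'⟩ hyy
    have hyy' : g y = g y' := by simpa using hyy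
    obtain ⟨z, hz₁, hz₂⟩ := Scheme.Pullback.exists_preimage_pullback (f := g) (g := g) y y' hyy'
    have hzB : z ∉ B := fun hz => hO z hz (hz₁ ▸ hy.1.1) (hz₂ ▸ hy'.1.2)
    rw [Set.notMem_compl_iff] at hzB
    obtain ⟨V, ⟨hV, U, e, hU, hl⟩, h1, h2⟩ := Set.mem_iUnion₂.1 hzB
    exact Subtype.ext (chart_injOn hU hV hl (hz₁ ▸ h1 : y ∈ V) (hz₂ ▸ h2 : y' ∈ V) hyy')

end Groth.LocImmersion
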