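import Groth.Agent.LocImm.RingLevel

/-!
Spreading out: a finite type algebra which is locally isomorphic to the base at a prime is a
localization of the base near that prime.
-/

universe u

namespace Groth.LocImmersion

variable {A C : Type u} [CommRing A] [CommRing C] [Algebra A C]

local notation "ψ" => algebraMap A C

theorem exists_isLocHom_away [IsNoetherianRing A] [Algebra.FiniteType A C]
    (p : Submonoid A) (q : Submonoid C) (hpq : ∀ a ∈ p, ψ a ∈ q)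
    (h1 : ∀ x : C, ∃ a : A, ∃ b ∈ p, ∃ u ∈ q, u * (x * ψ b - ψ a) = 0)
    (h2 : ∀ d : A, (∃ c ∈ q, c * ψ d = 0) → ∃ m ∈ p, m * d = 0) :
    ∃ c ∈ q, LocImm.IsLocHom ((algebraMap C (Localization.Away c)).comp ψ) := by
  classical
  obtain ⟨s, hs⟩ := Algebra.FiniteType.out (R := A) (A := C)
  choose a b hb u hu he using h1
  let b₀ := ∏ x ∈ s, b x
  let u₀ := ∏ x ∈ s, u x
  have key : ∀ x : C, ∃ n a', u₀ * (x * ψ (b₀ ^ n) - ψ a') = 0 := by
    intro x
    have hx : x ∈ Algebra.adjoin A (s : Set C) := hs ▸ Algebra.mem_top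
    induction hx using Algebra.adjoin_induction with
    | mem x hx =>
      refine ⟨1, a x * ∏ y ∈ s.erase x, b y, ?_⟩
      rw [pow_one, show b₀ = b x * ∏ y ∈ s.erase x, b y from (Finset.mul_prod_erase s b hx).symm,
        show u₀ = u x * ∏ y ∈ s.erase x, u y from (Finset.mul_prod_erase s u hx).symm]
      simp only [map_mul]
      linear_combination (∏ y ∈ s.erase x, u y) * ψ (∏ y ∈ s.erase x, b y) * he x
    | algebraMap r => exact ⟨0, r, by simp⟩
    | add x y _ _ hx hy =>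
      obtain ⟨n, a₁, hn⟩ := hx; obtain ⟨k, a₂, hk⟩ := hy
      refine ⟨n + k, a₁ * b₀ ^ k + a₂ * b₀ ^ n, ?_⟩
      simp only [map_add, map_mul, map_pow, pow_add] at hn hk ⊢
      linear_combination (ψ b₀ ^ k) * hn + (ψ b₀ ^ n) * hk
    | mul x y _ _ hx hy =>
      obtain ⟨n, a₁, hn⟩ := hx; obtain ⟨k, a₂, hk⟩ := hy
      refine ⟨n + k, a₁ * a₂, ?_⟩
      simp only [map_mul, map_pow, pow_add] at hn hk ⊢
      linear_combination (y * ψ b₀ ^ k) * hn + (ψ a₁) * hk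
  have hb₀ : b₀ ∈ p := prod_mem fun x _ => hb x
  have hu₀ : u₀ ∈ q := prod_mem fun x _ => hu x
  set c₀ := u₀ * ψ b₀ with hc₀def
  have hc₀ : c₀ ∈ q := mul_mem hu₀ (hpq _ hb₀)
  let K := RingHom.ker ((algebraMap C (Localization.Away c₀)).comp ψ)
  have hK : ∀ {d : A}, d ∈ K ↔ ∃ k, c₀ ^ k * ψ d = 0 := by
    intro d
    rw [RingHom.mem_ker, RingHom.comp_apply, IsLocalization.map_eq_zero_iff (Submonoid.powers c₀)]
    constructor
    · rintro ⟨⟨_, k, rfl⟩, hk⟩; exact ⟨k, hk⟩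
    · rintro ⟨k, hk⟩; exact ⟨⟨_, k, rfl⟩, hk⟩
  obtain ⟨t, ht⟩ : K.FG := IsNoetherian.noetherian K
  have hkill : ∀ d : t, ∃ m ∈ p, m * d.1 = 0 := fun d => by
    obtain ⟨k, hk⟩ := hK.1 (ht ▸ Ideal.subset_span d.2)
    exact h2 _ ⟨_, pow_mem hc₀ k, hk⟩
  choose m hm hmd using hkill
  let m₀ := ∏ d, m d
  have hm₀ : m₀ ∈ p := prod_mem fun d _ => hm d
  have hmK : ∀ d ∈ K, m₀ * d = 0 := by
    intro d hd
    have hle : K ≤ LinearMap.ker (LinearMap.mulLeft A m₀) := by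
      rw [← ht, Submodule.span_le]
      intro x hx
      show m₀ * x = 0
      rw [show m₀ = m ⟨x, hx⟩ * ∏ y ∈ Finset.univ.erase ⟨x, hx⟩, m y from
        (Finset.mul_prod_erase _ m (Finset.mem_univ _)).symm, mul_right_comm, hmd, zero_mul]
    exact hle hd
  refine ⟨c₀ * ψ m₀, mul_mem hc₀ (hpq _ hm₀), ?_⟩
  set c := c₀ * ψ m₀ with hcdef
  let L := Localization.Away c
  let ι := algebraMap C L
  have huc : IsUnit (ι c) := IsLocalization.Away.algebraMap_isUnit c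
  have huc' : IsUnit (ι u₀ * ι (ψ b₀) * ι (ψ m₀)) := by
    rw [← map_mul, ← map_mul]; exact huc
  have hu₁ : IsUnit (ι u₀) := isUnit_of_mul_isUnit_left (isUnit_of_mul_isUnit_left huc')
  have hb₁ : IsUnit (ι (ψ b₀)) := isUnit_of_mul_isUnit_right (isUnit_of_mul_isUnit_left huc')
  have hm₁ : IsUnit (ι (ψ m₀)) := isUnit_of_mul_isUnit_right huc'
  have key' : ∀ x : C, ∃ n a', ι x * ι (ψ b₀) ^ n = ι (ψ a') := by
    intro x
    obtain ⟨n, a', h⟩ := key x
    refine ⟨n, a', ?_⟩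
    have h' := congrArg ι h
    rw [map_mul, map_zero, hu₁.mul_right_eq_zero, map_sub, sub_eq_zero, map_mul, map_pow, map_pow] at h'
    exact h'
  refine isLocHom_iff.2 ⟨fun z => ?_, fun d hd => ?_⟩
  · obtain ⟨⟨x, ⟨_, k, rfl⟩⟩, hz⟩ := IsLocalization.surj (Submonoid.powers c) z
    obtain ⟨n, a₁, hx⟩ := key' x
    obtain ⟨N, a₂, hcN⟩ := key' c
    refine ⟨a₁ * (b₀ ^ N) ^ k, a₂ ^ k * b₀ ^ n, ?_, ?_⟩
    · simp only [RingHom.comp_apply, map_mul, map_pow]
      show IsUnit (ι (ψ a₂) ^ k * ι (ψ b₀) ^ n)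
      rw [← hcN]
      exact ((huc.mul (hb₁.pow N)).pow k).mul (hb₁.pow n)
    · simp only [RingHom.comp_apply, map_mul, map_pow] at hz ⊢
      show z * (ι (ψ a₂) ^ k * ι (ψ b₀) ^ n) = ι (ψ a₁) * (ι (ψ b₀) ^ N) ^ k
      change z * ι c ^ k = ι x at hz
      rw [← hcN, ← hx, mul_pow, ← hz]
      ring
  · rw [RingHom.comp_apply, IsLocalization.map_eq_zero_iff (Submonoid.powers c)] at hd
    obtain ⟨⟨_, k, rfl⟩, hk⟩ := hd
    refine ⟨m₀ ^ (k + 1), ?_, ?_⟩
    · simp only [RingHom.comp_apply, map_pow]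
      exact hm₁.pow _
    · rw [pow_succ', mul_assoc]
      refine hmK _ (hK.2 ⟨k, ?_⟩)
      change c ^ k * ψ d = 0 at hk
      rw [map_mul, map_pow, ← mul_assoc, ← mul_pow, ← hcdef]
      exact hk

end Groth.LocImmersion
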