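import Groth.Agent.LocImm.Spread

/-!
Two finite type models of a localizing immersion share an open neighbourhood.
-/

universe u

open AlgebraicGeometry CategoryTheory Limits TopologicalSpace

namespace Groth.LocImmersion

variable {X Y Z S : Scheme.{u}}

theorem app_toImage_injective (f : X ⟶ Y) [QuasiCompact f] (U : f.image.Opens) :
    Function.Injective (f.toImage.app U).hom :=
  TopCat.Presheaf.app_injective_of_stalkFunctor_map_injective (F := f.image.sheaf)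
    (G := f.toImage.base _* X.presheaf) f.toImage.c U fun x _ => f.stalkFunctor_toImage_injective x

theorem exists_open_models {Y₁ Y₂ : Scheme.{u}} [IsNoetherian X] [IsNoetherian Y₁] [IsNoetherian Y₂]
    [IsNoetherian S] (f₁ : X ⟶ Y₁) (f₂ : X ⟶ Y₂) (π₁ : Y₁ ⟶ S) (π₂ : Y₂ ⟶ S)
    (hf₁ : LocImm.IsLocImmersion f₁) (hf₂ : LocImm.IsLocImmersion f₂)
    [IsSeparated π₁] [IsSeparated π₂] [LocallyOfFiniteType π₁] [LocallyOfFiniteType π₂]
    (h : f₁ ≫ π₁ = f₂ ≫ π₂) :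
    ∃ (W : Scheme.{u}) (k : X ⟶ W) (g₁ : W ⟶ Y₁) (g₂ : W ⟶ Y₂), LocImm.IsLocImmersion k ∧
      IsOpenImmersion g₁ ∧ IsOpenImmersion g₂ ∧ g₁ ≫ π₁ = g₂ ≫ π₂ ∧ k ≫ g₁ = f₁ ∧ k ≫ g₂ = f₂ := by
  let γ : X ⟶ pullback π₁ π₂ := pullback.lift f₁ f₂ h
  let p₁ : γ.image ⟶ Y₁ := γ.imageι ≫ pullback.fst π₁ π₂
  let p₂ : γ.image ⟶ Y₂ := γ.imageι ≫ pullback.snd π₁ π₂
  have e₁ : γ.toImage ≫ p₁ = f₁ := by
    simp only [p₁, ← Category.assoc, Scheme.Hom.toImage_imageι]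
    exact pullback.lift_fst _ _ _
  have e₂ : γ.toImage ≫ p₂ = f₂ := by
    simp only [p₂, ← Category.assoc, Scheme.Hom.toImage_imageι]
    exact pullback.lift_snd _ _ _
  have : IsLocallyNoetherian (pullback π₁ π₂) :=
    LocallyOfFiniteType.isLocallyNoetherian (pullback.fst π₁ π₂)
  have : IsLocallyNoetherian γ.image := LocallyOfFiniteType.isLocallyNoetherian γ.imageι
  have : CompactSpace (pullback π₁ π₂ : Scheme.{u}) :=
    QuasiCompact.compactSpace_of_compactSpace (pullback.fst π₁ π₂)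
  have : CompactSpace γ.image := QuasiCompact.compactSpace_of_compactSpace γ.imageι
  have : IsNoetherian γ.image := ⟨⟩
  have hγ : LocImm.IsLocImmersion γ.toImage :=
    isLocImmersion_of_comp γ.toImage p₁ (e₁.symm ▸ hf₁) (app_toImage_injective γ)
  have := locallyEssFiniteType_of_locallyOfFiniteType p₁
  have := locallyEssFiniteType_of_locallyOfFiniteType p₂
  obtain ⟨U₁, hU₁, hl₁⟩ := exists_nhd_isLocImmersion γ.toImage f₁ p₁
    (stableUnderGeneralization_range hγ.1) (isIso_stalkMap hγ.1) hf₁ e₁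
  obtain ⟨U₂, hU₂, hl₂⟩ := exists_nhd_isLocImmersion γ.toImage f₂ p₂
    (stableUnderGeneralization_range hγ.1) (isIso_stalkMap hγ.1) hf₂ e₂
  have hi₁ := isOpenImmersion_of_locallyOfFiniteType hl₁
  have hi₂ := isOpenImmersion_of_locallyOfFiniteType hl₂
  let k : X ⟶ (U₁ ⊓ U₂ : γ.image.Opens) := IsOpenImmersion.lift (U₁ ⊓ U₂).ι γ.toImage (by
    rintro _ ⟨x, rfl⟩
    rw [Scheme.Opens.range_ι]
    exact ⟨hU₁ ⟨x, rfl⟩, hU₂ ⟨x, rfl⟩⟩)
  have hk : k ≫ (U₁ ⊓ U₂).ι = γ.toImage := IsOpenImmersion.lift_fac _ _ _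
  refine ⟨(U₁ ⊓ U₂ : γ.image.Opens), k, (U₁ ⊓ U₂).ι ≫ p₁, (U₁ ⊓ U₂).ι ≫ p₂,
    isLocImmersion_of_comp_ι k (hk.symm ▸ hγ), ?_, ?_, ?_, ?_, ?_⟩
  · rw [← Scheme.homOfLE_ι γ.image (inf_le_left : U₁ ⊓ U₂ ≤ U₁), Category.assoc]; infer_instance
  · rw [← Scheme.homOfLE_ι γ.image (inf_le_right : U₁ ⊓ U₂ ≤ U₂), Category.assoc]; infer_instance
  · simp only [p₁, p₂, Category.assoc, pullback.condition]
  · rw [reassoc_of% hk, e₁]
  · rw [reassoc_of% hk, e₂]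

end Groth.LocImmersion
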